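import Mathlib

/-!
# Abelian subgroups of extraspecial groups (helper349)
-/

set_option autoImplicit false

namespace Cfsg.Agent.H349.T3

/-- an abelian subgroup `B ≥ Z` of a group with commutators in the central subgroup `Z` of prime order and centre
`Z` : `|B|² ≤ |Q| |Z|` -/
theorem abelian_sq {Q : Type*} [Group Q] [Finite Q] {p : ℕ} [Fact p.Prime] (Z B : Subgroup Q)
    (hZc : ∀ z ∈ Z, ∀ q : Q, z * q = q * z) (hcom : ∀ x y : Q, x * y * x⁻¹ * y⁻¹ ∈ Z)
    (hcen : ∀ x : Q, (∀ y, x * y = y * x) → x ∈ Z) (hp : Nat.card Z = p) (hZB : Z ≤ B)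
    (hB : ∀ a ∈ B, ∀ b ∈ B, a * b = b * a) : Nat.card B * Nat.card B ≤ Nat.card Q * p := by
  classical
  -- an injective character of `Z`
  let _ : CommGroup ↥Z :=
    { (inferInstance : Group ↥Z) with mul_comm := fun a b => Subtype.ext (hZc a a.2 b) }
  obtain ⟨χ, hχ⟩ : ∃ χ : ↥Z →* ℂˣ, Function.Injective χ := by
    have h1 : Nontrivial ↥Z := by
      rw [← Finite.one_lt_card_iff_nontrivial, hp]
      exact (Fact.out : p.Prime).one_lt
    obtain ⟨a, ha⟩ := exists_ne (1 : ↥Z)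
    obtain ⟨χ, hχa⟩ := CommGroup.exists_apply_ne_one_of_hasEnoughRootsOfUnity ↥Z ℂ ha
    refine ⟨χ, ?_⟩
    rw [← MonoidHom.ker_eq_bot_iff]
    have h2 : Nat.card ↥χ.ker ∣ p := by
      rw [← hp]
      exact Subgroup.card_subgroup_dvd_card _
    rcases (Nat.dvd_prime Fact.out).1 h2 with h3 | h3
    · exact Subgroup.eq_bot_of_card_eq _ h3
    · exfalso
      apply hχa
      have h4 : χ.ker = ⊤ := by
        refine Subgroup.eq_top_of_card_eq _ ?_
        rw [h3, hp]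
      have h5 : a ∈ χ.ker := by rw [h4]; exact Subgroup.mem_top a
      exact h5
  have hBn : B.Normal := by
    refine ⟨fun b hb g => ?_⟩
    have h1 : g * b * g⁻¹ = (g * b * g⁻¹ * b⁻¹) * b := by group
    rw [h1]
    exact B.mul_mem (hZB (hcom g b)) hb
  let _ : CommGroup (Q ⧸ B) :=
    { (inferInstance : Group (Q ⧸ B)) with
      mul_comm := by
        intro a b
        obtain ⟨x, rfl⟩ := QuotientGroup.mk'_surjective B a
        obtain ⟨y, rfl⟩ := QuotientGroup.mk'_surjective B b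
        rw [← map_mul, ← map_mul]
        have h4 : QuotientGroup.mk' B ((x * y) * (y * x)⁻¹) = 1 := by
          refine (QuotientGroup.eq_one_iff _).2 (hZB ?_)
          have h5 : (x * y) * (y * x)⁻¹ = x * y * x⁻¹ * y⁻¹ := by group
          rw [h5]
          exact hcom x y
        rw [map_mul, map_inv] at h4
        exact mul_inv_eq_one.1 h4 }
  -- commutators are bimultiplicative
  have hm1 : ∀ x y v : Q, x * y * v * (x * y)⁻¹ * v⁻¹ = (x * v * x⁻¹ * v⁻¹) * (y * v * y⁻¹ * v⁻¹) := by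
    intro p q v
    obtain ⟨w, hw⟩ : ∃ w, w = q * v * q⁻¹ * v⁻¹ := ⟨_, rfl⟩
    have hwZ : w ∈ Z := hw ▸ hcom q v
    have h1 : q * v * q⁻¹ = w * v := by rw [hw]; group
    calc p * q * v * (p * q)⁻¹ * v⁻¹ = p * (q * v * q⁻¹) * p⁻¹ * v⁻¹ := by group
      _ = (p * w) * v * p⁻¹ * v⁻¹ := by rw [h1]; group
      _ = (w * p) * v * p⁻¹ * v⁻¹ := by rw [hZc w hwZ]
      _ = w * (p * v * p⁻¹ * v⁻¹) := by group
      _ = (p * v * p⁻¹ * v⁻¹) * w := hZc w hwZ _
      _ = (p * v * p⁻¹ * v⁻¹) * (q * v * q⁻¹ * v⁻¹) := by rw [hw]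
  have hm2 : ∀ v x y : Q, v * (x * y) * v⁻¹ * (x * y)⁻¹ = (v * x * v⁻¹ * x⁻¹) * (v * y * v⁻¹ * y⁻¹) := by
    intro v x y
    obtain ⟨w, hw⟩ : ∃ w, w = v * y * v⁻¹ * y⁻¹ := ⟨_, rfl⟩
    have hwZ : w ∈ Z := hw ▸ hcom v y
    have h1 : v * y * v⁻¹ = w * y := by rw [hw]; group
    calc v * (x * y) * v⁻¹ * (x * y)⁻¹ = v * x * v⁻¹ * (v * y * v⁻¹) * y⁻¹ * x⁻¹ := by group
      _ = v * x * v⁻¹ * w * x⁻¹ := by rw [h1]; group
      _ = v * x * v⁻¹ * (x⁻¹ * w) := by rw [← hZc w hwZ x⁻¹]; group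
      _ = (v * x * v⁻¹ * x⁻¹) * (v * y * v⁻¹ * y⁻¹) := by rw [hw]; group
  let ψ : ↥B → (Q ⧸ B →* ℂˣ) := fun b => QuotientGroup.lift B
    { toFun := fun q => χ ⟨q * b * q⁻¹ * (b : Q)⁻¹, hcom q b⟩
      map_one' := by
        have : (⟨1 * (b : Q) * 1⁻¹ * (b : Q)⁻¹, hcom 1 b⟩ : ↥Z) = 1 := Subtype.ext (by
          change 1 * (b : Q) * 1⁻¹ * (b : Q)⁻¹ = 1
          group)
        rw [this, map_one]
      map_mul' := fun x y => by
        rw [← map_mul]
        congr 1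
        exact Subtype.ext (hm1 x y b) } (by
      intro q hq
      change χ ⟨q * b * q⁻¹ * (b : Q)⁻¹, hcom q b⟩ = 1
      have : (⟨q * b * q⁻¹ * (b : Q)⁻¹, hcom q b⟩ : ↥Z) = 1 := Subtype.ext (by
        change q * b * q⁻¹ * (b : Q)⁻¹ = 1
        rw [hB q hq b b.2, mul_inv_cancel_right, mul_inv_cancel])
      rw [this, map_one])
  have hψ : ∀ (b : ↥B) (q : Q), ψ b (QuotientGroup.mk' B q) = χ ⟨q * b * q⁻¹ * (b : Q)⁻¹, hcom q b⟩ := fun _ _ => rfl
  let Ψ : ↥B →* (Q ⧸ B →* ℂˣ) :=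
    { toFun := ψ
      map_one' := by
        apply MonoidHom.ext
        intro a
        obtain ⟨q, rfl⟩ := QuotientGroup.mk'_surjective B a
        rw [hψ]
        have : (⟨q * ((1 : ↥B) : Q) * q⁻¹ * ((1 : ↥B) : Q)⁻¹, hcom q (1 : ↥B)⟩ : ↥Z) = 1 := Subtype.ext (by
          change q * (1 : Q) * q⁻¹ * (1 : Q)⁻¹ = 1
          group)
        rw [this, map_one]
        rfl
      map_mul' := by
        intro b c
        apply MonoidHom.ext
        intro a
        obtain ⟨q, rfl⟩ := QuotientGroup.mk'_surjective B a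
        rw [MonoidHom.mul_apply, hψ, hψ, hψ, ← map_mul]
        congr 1
        exact Subtype.ext (hm2 q b c) }
  have hker : ∀ b : ↥B, b ∈ Ψ.ker → (b : Q) ∈ Z := by
    intro b hb
    refine hcen b fun y => ?_
    have h1 : Ψ b = 1 := hb
    have h2 : ψ b (QuotientGroup.mk' B y) = 1 := by
      change Ψ b (QuotientGroup.mk' B y) = 1
      rw [h1]
      rfl
    rw [hψ] at h2
    have h3 := hχ (h2.trans (map_one χ).symm)
    have h4 : y * b * y⁻¹ * (b : Q)⁻¹ = 1 := congrArg Subtype.val h3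
    exact (mul_inv_eq_iff_eq_mul.1 (mul_inv_eq_one.1 h4)).symm
  have h1 := Subgroup.card_mul_index Ψ.ker
  rw [Subgroup.index_ker] at h1
  have h2 : Nat.card ↥Ψ.ker ≤ Nat.card ↥Z := by
    refine Nat.card_le_card_of_injective (fun q : ↥Ψ.ker => (⟨((q : ↥B) : Q), hker q q.2⟩ : ↥Z)) ?_
    intro a b hab
    have := congrArg Subtype.val hab
    exact Subtype.ext (Subtype.ext this)
  rw [hp] at h2
  have hcard : Nat.card (Q ⧸ B →* ℂˣ) = Nat.card (Q ⧸ B) := CommGroup.card_monoidHom_of_hasEnoughRootsOfUnity (Q ⧸ B) ℂ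
  have hfin : Finite (Q ⧸ B →* ℂˣ) := by
    refine Nat.finite_of_card_ne_zero ?_
    rw [hcard]
    exact Nat.card_pos.ne'
  have h3 : Nat.card ↥Ψ.range ≤ Nat.card (Q ⧸ B) := by
    rw [← hcard]
    exact Nat.card_le_card_of_injective _ Subtype.val_injective
  have h4 := Subgroup.card_eq_card_quotient_mul_card_subgroup B
  rw [h4]
  calc Nat.card B * Nat.card B = (Nat.card ↥Ψ.ker * Nat.card ↥Ψ.range) * Nat.card B := by rw [h1]
    _ ≤ (p * Nat.card (Q ⧸ B)) * Nat.card B := Nat.mul_le_mul_right _ (Nat.mul_le_mul h2 h3)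
    _ = Nat.card (Q ⧸ B) * Nat.card B * p := by ring

end Cfsg.Agent.H349.T3
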