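import Cfsg.Agent.H341.WeakDef

/-!
# Building a frame (helper349)
-/

set_option autoImplicit false

namespace Cfsg.Agent.H349.T3

open Cfsg.Agent.H341.Weak

/-- `Q` is a normal extraspecial subgroup of order `3^7` with central centre `Z`, containing its centralizer. -/
structure Base {C : Type*} [Group C] (Z Q : Subgroup C) : Prop where
  cardZ : Nat.card Z = 3
  cardQ : Nat.card Q = 3 ^ 7
  nQ : ∀ c x : C, x ∈ Q → c * x * c⁻¹ ∈ Q
  CQ : Subgroup.centralizer (Q : Set C) ≤ Q
  ZQ : Z ≤ Q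
  Zc : ∀ z ∈ Z, ∀ c : C, z * c = c * z
  comZ : ∀ x ∈ Q, ∀ y ∈ Q, x * y * x⁻¹ * y⁻¹ ∈ Z
  cenZ : ∀ x ∈ Q, (∀ y ∈ Q, x * y = y * x) → x ∈ Z

namespace Base

variable {C : Type*} [Group C] {Z Q : Subgroup C} (B : Base Z Q)
include B

theorem cubeZ {z : C} (hz : z ∈ Z) : z ^ 3 = 1 := by
  have h1 := pow_card_eq_one' (x := (⟨z, hz⟩ : Z))
  rw [B.cardZ] at h1
  exact congrArg Subtype.val h1

theorem eq_one_of_sq {z : C} (hz : z ∈ Z) (h : z * z = 1) : z = 1 := by
  have h1 := B.cubeZ hz
  rw [pow_succ, pow_two, h, one_mul] at h1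
  exact h1

/-- central elements pull out of conjugations -/
theorem conjZ {z : C} (hz : z ∈ Z) (c : C) : c * z * c⁻¹ = z := by
  rw [← B.Zc z hz c, mul_inv_cancel_right]

theorem conj_mem {z : C} (hz : z ∈ Z) (c : C) : c * z * c⁻¹ ∈ Z := by rw [B.conjZ hz]; exact hz

/-- cubes of elements of `Q` are central -/
theorem cube {x : C} (hx : x ∈ Q) : x ^ 3 ∈ Z := by
  refine B.cenZ _ (Q.pow_mem hx 3) fun y hy => ?_
  obtain ⟨w, hw⟩ : ∃ w, w = x * y * x⁻¹ * y⁻¹ := ⟨_, rfl⟩
  have hwZ : w ∈ Z := hw ▸ B.comZ x hx y hy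
  have h1 : x * y = w * y * x := by rw [hw]; group
  have h2 := B.Zc w hwZ
  have h3 := B.cubeZ hwZ
  have h4 : x * (x * y) = w * (w * (y * (x * x))) := by
    rw [h1]
    calc x * (w * y * x) = (x * w) * y * x := by group
      _ = (w * x) * y * x := by rw [h2 x]
      _ = w * (x * y) * x := by group
      _ = w * (w * y * x) * x := by rw [h1]
      _ = _ := by group
  calc x ^ 3 * y = x * (x * (x * y)) := by simp only [pow_succ, pow_zero, one_mul, mul_assoc]
    _ = x * (w * (w * (y * (x * x)))) := by rw [h4]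
    _ = (x * w) * (w * (y * (x * x))) := by group
    _ = (w * x) * (w * (y * (x * x))) := by rw [h2 x]
    _ = w * ((x * w) * (y * (x * x))) := by group
    _ = w * ((w * x) * (y * (x * x))) := by rw [h2 x]
    _ = w * w * (x * y) * (x * x) := by group
    _ = w * w * (w * y * x) * (x * x) := by rw [h1]
    _ = w ^ 3 * (y * x ^ 3) := by simp only [pow_succ, pow_zero, one_mul, mul_assoc]
    _ = y * x ^ 3 := by rw [h3, one_mul]

/-- an element of `Q` whose square is central is central -/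
theorem mem_of_sq {x : C} (hx : x ∈ Q) (h : x * x ∈ Z) : x ∈ Z := by
  have h1 : x = (x * x)⁻¹ * x ^ 3 := by group
  rw [h1]
  exact Z.mul_mem (Z.inv_mem h) (B.cube hx)

/-- an involution acting trivially on `Q/Z` is trivial (in `C(Q)`) -/
theorem comm_of_triv {r x : C} (hr : r * r = 1) (hx : r * x * r⁻¹ * x⁻¹ ∈ Z) : r * x = x * r := by
  obtain ⟨w, hw⟩ : ∃ w, w = r * x * r⁻¹ * x⁻¹ := ⟨_, rfl⟩
  rw [← hw] at hx
  have h1 : r * x = w * x * r := by rw [hw]; group
  have h2 : r * (r * x) = w * w * (x * (r * r)) := by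
    calc r * (r * x) = r * (w * x * r) := by rw [h1]
      _ = (r * w) * x * r := by group
      _ = (w * r) * x * r := by rw [B.Zc w hx r]
      _ = w * (r * x) * r := by group
      _ = w * (w * x * r) * r := by rw [h1]
      _ = _ := by group
  rw [← mul_assoc, hr, one_mul, mul_one] at h2
  have h3 : w * w = 1 := by
    have h4 : 1 * x = w * w * x := by rw [one_mul]; exact h2
    exact (mul_right_cancel h4).symm
  have h5 := B.eq_one_of_sq hx h3
  rw [h1, h5, one_mul]

/-- **The frame**. -/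
theorem frame {U : Fin 3 → Subgroup C} {r : Fin 3 → C} (r2 : ∀ i, r i * r i = 1)
    (rr : ∀ i j, r i * r j = r j * r i) (cardU : ∀ i, Nat.card (U i) = 27) (ZleU : ∀ i, Z ≤ U i)
    (UleQ : ∀ i, U i ≤ Q) (sup : Q = U 0 ⊔ U 1 ⊔ U 2)
    (rinv : ∀ i, ∀ x ∈ U i, r i * x * (r i)⁻¹ * x ∈ Z)
    (rtriv : ∀ i j, j ≠ i → ∀ x ∈ U j, r i * x * (r i)⁻¹ * x⁻¹ ∈ Z)
    (sgn : ∀ (c : C) (i j : Fin 3), (∀ u ∈ U j, (c * r i * c⁻¹) * u * (c * r i * c⁻¹)⁻¹ * u⁻¹ ∈ Z) ∨
      (∀ u ∈ U j, (c * r i * c⁻¹) * u * (c * r i * c⁻¹)⁻¹ * u ∈ Z)) : Frame Z Q U r := by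
  have hcent : ∀ c : C, c ∈ Subgroup.centralizer (Z : Set C) := by
    intro c
    rw [Subgroup.mem_centralizer_iff]
    intro z hz
    exact B.Zc z hz c
  have rcomm : ∀ i j, j ≠ i → ∀ x ∈ U j, r i * x = x * r i := fun i j hij x hx =>
    B.comm_of_triv (r2 i) (rtriv i j hij x hx)
  -- orthogonality
  have comm : ∀ i j, i ≠ j → ∀ x ∈ U i, ∀ y ∈ U j, x * y = y * x := by
    intro i j hij x hx y hy
    obtain ⟨w, hw⟩ : ∃ w, w = x * y * x⁻¹ * y⁻¹ := ⟨_, rfl⟩
    have hwZ : w ∈ Z := hw ▸ B.comZ x (UleQ i hx) y (UleQ j hy)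
    obtain ⟨v, hv⟩ : ∃ v, v = r i * x * (r i)⁻¹ * x := ⟨_, rfl⟩
    have hvZ : v ∈ Z := hv ▸ rinv i x hx
    have h1 : r i * x * (r i)⁻¹ = v * x⁻¹ := by rw [hv]; group
    have h2 : r i * y * (r i)⁻¹ = y := by rw [rcomm i j hij.symm y hy]; group
    have h3 : x * y = w * y * x := by rw [hw]; group
    -- conjugate the relation
    have h4 : (v * x⁻¹) * y = w * y * (v * x⁻¹) := by
      calc (v * x⁻¹) * y = (r i * x * (r i)⁻¹) * (r i * y * (r i)⁻¹) := by rw [h1, h2]
        _ = r i * (x * y) * (r i)⁻¹ := by group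
        _ = r i * (w * y * x) * (r i)⁻¹ := by rw [h3]
        _ = (r i * w * (r i)⁻¹) * (r i * y * (r i)⁻¹) * (r i * x * (r i)⁻¹) := by group
        _ = w * y * (v * x⁻¹) := by rw [B.conjZ hwZ, h1, h2]
    have h5 : x⁻¹ * y = w * y * x⁻¹ := by
      have h6 : v * (x⁻¹ * y) = v * (w * y * x⁻¹) := by
        rw [← mul_assoc, h4]
        calc w * y * (v * x⁻¹) = w * (y * v) * x⁻¹ := by group
          _ = w * (v * y) * x⁻¹ := by rw [B.Zc v hvZ y]
          _ = (w * v) * y * x⁻¹ := by group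
          _ = (v * w) * y * x⁻¹ := by rw [B.Zc v hvZ w]
          _ = _ := by group
      exact mul_left_cancel h6
    have h7 : y = w * w * y := by
      calc y = x * (x⁻¹ * y) := by group
        _ = x * (w * y * x⁻¹) := by rw [h5]
        _ = (x * w) * y * x⁻¹ := by group
        _ = (w * x) * y * x⁻¹ := by rw [B.Zc w hwZ x]
        _ = w * (x * y) * x⁻¹ := by group
        _ = w * (w * y * x) * x⁻¹ := by rw [h3]
        _ = _ := by group
    have h8 : w * w = 1 := by
      have h9 : 1 * y = w * w * y := by rw [one_mul]; exact h7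
      exact (mul_right_cancel h9).symm
    rw [h3, B.eq_one_of_sq hwZ h8, one_mul]
  -- decomposition
  have dec : ∀ x ∈ Q, ∃ a ∈ U 0, ∃ b ∈ U 1, ∃ c ∈ U 2, x = a * b * c := by
    let W : Subgroup C :=
      { carrier := {x | ∃ a ∈ U 0, ∃ b ∈ U 1, ∃ c ∈ U 2, x = a * b * c}
        mul_mem' := by
          rintro _ _ ⟨a, ha, b, hb, c, hc, rfl⟩ ⟨a', ha', b', hb', c', hc', rfl⟩
          refine ⟨a * a', (U 0).mul_mem ha ha', b * b', (U 1).mul_mem hb hb', c * c', (U 2).mul_mem hc hc', ?_⟩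
          have h1 := comm 0 1 (by decide) a' ha' b hb
          have h2 := comm 0 2 (by decide) a' ha' c hc
          have h3 := comm 1 2 (by decide) b' hb' c hc
          calc a * b * c * (a' * b' * c') = a * b * (c * a') * b' * c' := by group
            _ = a * (b * a') * c * b' * c' := by rw [← h2]; group
            _ = a * (a' * b) * c * b' * c' := by rw [h1]
            _ = a * a' * b * (c * b') * c' := by group
            _ = a * a' * b * (b' * c) * c' := by rw [h3]
            _ = a * a' * (b * b') * (c * c') := by group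
        one_mem' := ⟨1, (U 0).one_mem, 1, (U 1).one_mem, 1, (U 2).one_mem, by simp⟩
        inv_mem' := by
          rintro _ ⟨a, ha, b, hb, c, hc, rfl⟩
          refine ⟨a⁻¹, (U 0).inv_mem ha, b⁻¹, (U 1).inv_mem hb, c⁻¹, (U 2).inv_mem hc, ?_⟩
          have h1 := comm 0 1 (by decide) a⁻¹ ((U 0).inv_mem ha) b⁻¹ ((U 1).inv_mem hb)
          have h2 := comm 0 2 (by decide) a⁻¹ ((U 0).inv_mem ha) c⁻¹ ((U 2).inv_mem hc)
          have h3 := comm 1 2 (by decide) b⁻¹ ((U 1).inv_mem hb) c⁻¹ ((U 2).inv_mem hc)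
          calc (a * b * c)⁻¹ = c⁻¹ * b⁻¹ * a⁻¹ := by group
            _ = b⁻¹ * (c⁻¹ * a⁻¹) := by rw [← h3]; group
            _ = b⁻¹ * (a⁻¹ * c⁻¹) := by rw [h2]
            _ = (b⁻¹ * a⁻¹) * c⁻¹ := by group
            _ = a⁻¹ * b⁻¹ * c⁻¹ := by rw [← h1] }
    have h1 : Q ≤ W := by
      rw [sup]
      refine sup_le (sup_le ?_ ?_) ?_
      · intro x hx; exact ⟨x, hx, 1, (U 1).one_mem, 1, (U 2).one_mem, by simp⟩
      · intro x hx; exact ⟨1, (U 0).one_mem, x, hx, 1, (U 2).one_mem, by simp⟩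
      · intro x hx; exact ⟨1, (U 0).one_mem, 1, (U 1).one_mem, x, hx, by simp⟩
    exact fun x hx => h1 hx
  -- exponent three
  have expU : ∀ i, ∀ x ∈ U i, x ^ 3 = 1 := by
    intro i x hx
    obtain ⟨v, hv⟩ : ∃ v, v = r i * x * (r i)⁻¹ * x := ⟨_, rfl⟩
    have hvZ : v ∈ Z := hv ▸ rinv i x hx
    have h1 : r i * x * (r i)⁻¹ = v * x⁻¹ := by rw [hv]; group
    have h3 : (v * x⁻¹) ^ 3 = x ^ 3 := by
      rw [← h1, conj_pow, B.conjZ (B.cube (UleQ i hx))]
    have h4 : Commute v x⁻¹ := B.Zc v hvZ x⁻¹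
    rw [h4.mul_pow, B.cubeZ hvZ, one_mul, inv_pow] at h3
    refine B.eq_one_of_sq (B.cube (UleQ i hx)) ?_
    nth_rw 1 [← h3]
    exact inv_mul_cancel _
  have exp : ∀ x ∈ Q, x ^ 3 = 1 := by
    intro x hx
    obtain ⟨a, ha, b, hb, c, hc, rfl⟩ := dec x hx
    have h1 : Commute a b := comm 0 1 (by decide) a ha b hb
    have h2 : Commute a c := comm 0 2 (by decide) a ha c hc
    have h3 : Commute b c := comm 1 2 (by decide) b hb c hc
    rw [(h2.mul_left h3).mul_pow, h1.mul_pow, expU 0 a ha, expU 1 b hb, expU 2 c hc]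
    simp
  -- intersection of two blocks
  have hinf : ∀ i j, i ≠ j → ∀ x ∈ U i, x ∈ U j → x ∈ Z := by
    intro i j hij x hxi hxj
    refine B.mem_of_sq (UleQ i hxi) ?_
    have h1 := rinv i x hxi
    rwa [rcomm i j hij.symm x hxj, mul_inv_cancel_right] at h1
  -- the block is the eigenspace
  have hmem : ∀ i, ∀ x ∈ Q, r i * x * (r i)⁻¹ * x ∈ Z → x ∈ U i := by
    intro i x hx hxi
    have key : ∀ (i j k : Fin 3), j ≠ i → k ≠ i → j ≠ k → ∀ a ∈ U i, ∀ b ∈ U j, ∀ c ∈ U k,
        r i * (a * b * c) * (r i)⁻¹ * (a * b * c) ∈ Z → a * b * c ∈ U i := by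
      intro i j k hji hki hjk a ha b hb c hc h
      obtain ⟨v, hv⟩ : ∃ v, v = r i * a * (r i)⁻¹ * a := ⟨_, rfl⟩
      have hvZ : v ∈ Z := hv ▸ rinv i a ha
      have h1 : r i * a * (r i)⁻¹ = v * a⁻¹ := by rw [hv]; group
      have h2 : r i * b * (r i)⁻¹ = b := by rw [rcomm i j hji b hb]; group
      have h3 : r i * c * (r i)⁻¹ = c := by rw [rcomm i k hki c hc]; group
      have hab := comm i j hji.symm a ha b hb
      have hac := comm i k hki.symm a ha c hc
      have hbc := comm j k hjk b hb c hc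
      have h4 : r i * (a * b * c) * (r i)⁻¹ * (a * b * c) = v * ((b * b) * (c * c)) := by
        calc r i * (a * b * c) * (r i)⁻¹ * (a * b * c)
            = (r i * a * (r i)⁻¹) * (r i * b * (r i)⁻¹) * (r i * c * (r i)⁻¹) * (a * b * c) := by group
          _ = (v * a⁻¹) * b * c * (a * b * c) := by rw [h1, h2, h3]
          _ = v * a⁻¹ * b * (c * a) * b * c := by group
          _ = v * a⁻¹ * b * (a * c) * b * c := by rw [hac]
          _ = v * a⁻¹ * (b * a) * c * b * c := by group
          _ = v * a⁻¹ * (a * b) * c * b * c := by rw [hab]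
          _ = v * b * (c * b) * c := by group
          _ = v * b * (b * c) * c := by rw [hbc]
          _ = _ := by group
      rw [h4] at h
      have h5 : (b * b) * (c * c) ∈ Z := (Z.mul_mem_cancel_left hvZ).1 h
      have h6 : b * b ∈ U k := by
        have h7 : b * b = ((b * b) * (c * c)) * (c * c)⁻¹ := by group
        rw [h7]
        exact (U k).mul_mem (ZleU k h5) ((U k).inv_mem ((U k).mul_mem hc hc))
      have h7 : b * b ∈ Z := hinf j k hjk _ ((U j).mul_mem hb hb) h6
      have h8 : b ∈ Z := B.mem_of_sq (UleQ j hb) h7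
      have h9 : c * c ∈ Z := (Z.mul_mem_cancel_left h7).1 h5
      have h10 : c ∈ Z := B.mem_of_sq (UleQ k hc) h9
      exact (U i).mul_mem ((U i).mul_mem ha (ZleU i h8)) (ZleU i h10)
    obtain ⟨a, ha, b, hb, c, hc, rfl⟩ := dec x hx
    have hab := comm 0 1 (by decide) a ha b hb
    have hac := comm 0 2 (by decide) a ha c hc
    have hbc := comm 1 2 (by decide) b hb c hc
    have hi : i = 0 ∨ i = 1 ∨ i = 2 := by
      have h0 : ∀ i : Fin 3, i = 0 ∨ i = 1 ∨ i = 2 := by decide
      exact h0 i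
    rcases hi with rfl | rfl | rfl
    · exact key 0 1 2 (by decide) (by decide) (by decide) a ha b hb c hc hxi
    · have h1 : a * b * c = b * a * c := by rw [hab]
      rw [h1] at hxi ⊢
      exact key 1 0 2 (by decide) (by decide) (by decide) b hb a ha c hc hxi
    · have h1 : a * b * c = c * a * b := by
        calc a * b * c = a * (b * c) := by group
          _ = a * (c * b) := by rw [hbc]
          _ = (a * c) * b := by group
          _ = _ := by rw [hac]
      rw [h1] at hxi ⊢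
      exact key 2 0 1 (by decide) (by decide) (by decide) c hc a ha b hb hxi
  have hex : ∀ i, ∃ x ∈ U i, x ∉ Z := by
    intro i
    by_contra hcon
    push Not at hcon
    have h1 : U i = Z := le_antisymm hcon (ZleU i)
    have h2 := cardU i
    rw [h1, B.cardZ] at h2
    omega
  refine ⟨B.cardZ, B.cardQ, cardU, fun q _ => hcent q, fun c _ x hx => B.nQ c x hx, B.CQ, exp, ZleU, UleQ, comm, B.comZ,
    B.cenZ, sup, ?_, fun i => hcent _, r2, rr, ?_, rinv⟩
  · intro c _
    have hfin : ∀ i, Finite ↥(U i) := fun i => Nat.finite_of_card_ne_zero (by rw [cardU i]; norm_num)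
    -- the image of each block
    have h1 : ∀ i, ∃ j, ∀ x, x ∈ U i ↔ c * x * c⁻¹ ∈ U j := by
      intro i
      by_cases hcon : ∃ j, ∀ u ∈ U j, (c * r i * c⁻¹) * u * (c * r i * c⁻¹)⁻¹ * u ∈ Z
      · obtain ⟨j, hj⟩ := hcon
        refine ⟨j, ?_⟩
        have h2 : ∀ u ∈ U j, c⁻¹ * u * c ∈ U i := by
          intro u hu
          have h3 : c⁻¹ * u * c ∈ Q := by
            have := B.nQ c⁻¹ u (UleQ j hu)
            rwa [inv_inv] at this
          refine hmem i _ h3 ?_
          have h4 : r i * (c⁻¹ * u * c) * (r i)⁻¹ * (c⁻¹ * u * c) =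
              c⁻¹ * ((c * r i * c⁻¹) * u * (c * r i * c⁻¹)⁻¹ * u) * c⁻¹⁻¹ := by group
          rw [h4]
          exact B.conj_mem (hj u hu) _
        -- cardinalities
        let f : ↥(U j) → ↥(U i) := fun u => ⟨c⁻¹ * u * c, h2 u u.2⟩
        have hf : Function.Injective f := by
          intro u v huv
          have h5 : c⁻¹ * (u : C) * c = c⁻¹ * v * c := congrArg Subtype.val huv
          exact Subtype.ext (mul_left_cancel (mul_right_cancel h5))
        have := hfin i
        have := hfin j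
        have hb : Function.Bijective f := by
          have := Fintype.ofFinite ↥(U i)
          have := Fintype.ofFinite ↥(U j)
          rw [Fintype.bijective_iff_injective_and_card]
          refine ⟨hf, ?_⟩
          rw [← Nat.card_eq_fintype_card, ← Nat.card_eq_fintype_card, cardU, cardU]
        intro x
        constructor
        · intro hx
          obtain ⟨u, hu⟩ := hb.2 ⟨x, hx⟩
          have h5 : c⁻¹ * (u : C) * c = x := congrArg Subtype.val hu
          rw [← h5]
          have h6 : c * (c⁻¹ * (u : C) * c) * c⁻¹ = u := by group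
          rw [h6]
          exact u.2
        · intro hx
          have h5 := h2 _ hx
          have h6 : c⁻¹ * (c * x * c⁻¹) * c = x := by group
          rwa [h6] at h5
      · exfalso
        push Not at hcon
        have h2 : ∀ j, ∀ u ∈ U j, (c * r i * c⁻¹) * u = u * (c * r i * c⁻¹) := by
          intro j u hu
          refine B.comm_of_triv ?_ ?_
          · have h3 : c * r i * c⁻¹ * (c * r i * c⁻¹) = c * (r i * r i) * c⁻¹ := by group
            rw [h3, r2 i]
            group
          · rcases sgn c i j with h3 | h3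
            · exact h3 u hu
            · obtain ⟨v, hv, hv'⟩ := hcon j
              exact absurd (h3 v hv) hv'
        obtain ⟨y, hy, hyZ⟩ := hex i
        -- c r c⁻¹ centralizes Q
        have h3 : ∀ x ∈ Q, (c * r i * c⁻¹) * x = x * (c * r i * c⁻¹) := by
          intro x hx
          obtain ⟨a, ha, b, hb, d, hd, rfl⟩ := dec x hx
          have e0 : Commute (c * r i * c⁻¹) a := h2 0 a ha
          have e1 : Commute (c * r i * c⁻¹) b := h2 1 b hb
          have e2 : Commute (c * r i * c⁻¹) d := h2 2 d hd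
          exact ((e0.mul_right e1).mul_right e2).eq
        have h4 := h3 _ (B.nQ c y (UleQ i hy))
        have h5 : r i * y = y * r i := by
          have h6 : c * (r i * y) * c⁻¹ = c * (y * r i) * c⁻¹ := by
            calc c * (r i * y) * c⁻¹ = (c * r i * c⁻¹) * (c * y * c⁻¹) := by group
              _ = (c * y * c⁻¹) * (c * r i * c⁻¹) := h4
              _ = _ := by group
          exact mul_left_cancel (mul_right_cancel h6)
        apply hyZ
        refine B.mem_of_sq (UleQ i hy) ?_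
        have h6 := rinv i y hy
        rwa [h5, mul_inv_cancel_right] at h6
    choose s hs using h1
    have hsinj : Function.Injective s := by
      intro i j hij
      by_contra hne
      obtain ⟨x, hx, hxZ⟩ := hex i
      exact hxZ (hinf i j hne x hx ((hs j x).2 (hij ▸ (hs i x).1 hx)))
    refine ⟨Equiv.ofBijective s (Finite.injective_iff_bijective.1 hsinj), fun i x hx => (hs i x).1 hx⟩
  · intro i j hij x hx
    rw [rcomm i j hij x hx, mul_inv_cancel_right]

end Base

end Cfsg.Agent.H349.T3
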