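import Cfsg.Agent.H349.ExtraRep

/-!
# Projective representations of small degree and extraspecial groups of order 3^7 (helper349)

`BigQ z Q` : `Q` is an extraspecial group of order `3^7` with centre `⟨z⟩`, contained in the derived subgroup of the
centralizer of `z`.  If `M / Z(M)` contains such a pair, then `M` has no faithful representation of degree `≤ 10` in
characteristic `≠ 3` in which `Z(M)` acts by scalars.
-/

set_option autoImplicit false

namespace Cfsg.Agent.H349.T3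

open Module Subgroup

structure BigQ {E : Type*} [Group E] (z : E) (Q : Subgroup E) : Prop where
  oz : orderOf z = 3
  card : Nat.card Q = 3 ^ 7
  zQ : z ∈ Q
  comm : ∀ x ∈ Q, ∀ y ∈ Q, x * y * x⁻¹ * y⁻¹ ∈ zpowers z
  cen : ∀ x ∈ Q, (∀ y ∈ Q, x * y = y * x) → x ∈ zpowers z
  der : Q ≤ ⁅centralizer ({z} : Set E), centralizer ({z} : Set E)⁆

namespace BigQ

theorem comm_lift {M : Type*} [Group M] {z : M ⧸ center M} {s r : M} (hs : (s : M ⧸ center M) = z)
    (hr : (r : M ⧸ center M) ∈ ⁅centralizer ({z} : Set (M ⧸ center M)), centralizer ({z} : Set (M ⧸ center M))⁆) :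
    r * s = s * r := by
  obtain ⟨C, hC⟩ : ∃ C : Subgroup M, C = (centralizer ({z} : Set (M ⧸ center M))).comap
      (QuotientGroup.mk' (center M)) := ⟨_, rfl⟩
  have hsurj : C.map (QuotientGroup.mk' (center M)) = centralizer ({z} : Set (M ⧸ center M)) := by
    rw [hC]
    exact map_comap_eq_self_of_surjective (QuotientGroup.mk'_surjective _) _
  have h1 : ∀ a ∈ C, a * s * a⁻¹ * s⁻¹ ∈ center M := by
    intro a ha
    rw [hC, mem_comap, mem_centralizer_singleton_iff] at ha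
    rw [← QuotientGroup.eq_one_iff]
    change (a : M ⧸ center M) * (s : M ⧸ center M) * (a : M ⧸ center M)⁻¹ * (s : M ⧸ center M)⁻¹ = 1
    have h2 : (a : M ⧸ center M) * z = z * (a : M ⧸ center M) := ha
    rw [hs, h2]
    group
  have h2 : ⁅C, C⁆ ≤ centralizer ({s} : Set M) := by
    rw [commutator_le]
    intro a ha b hb
    rw [mem_centralizer_singleton_iff]
    obtain ⟨u, hu⟩ : ∃ u, u = a * s * a⁻¹ * s⁻¹ := ⟨_, rfl⟩
    obtain ⟨v, hv⟩ : ∃ v, v = b * s * b⁻¹ * s⁻¹ := ⟨_, rfl⟩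
    have huc : ∀ x, x * u = u * x := mem_center_iff.1 (hu ▸ h1 a ha)
    have hvc : ∀ x, x * v = v * x := mem_center_iff.1 (hv ▸ h1 b hb)
    have ha1 : a * s = u * s * a := by rw [hu]; group
    have hb1 : b * s = v * s * b := by rw [hv]; group
    have ha2 : s * a⁻¹ = a⁻¹ * (u * s) := by
      calc s * a⁻¹ = a⁻¹ * (a * s) * a⁻¹ := by group
        _ = a⁻¹ * (u * s * a) * a⁻¹ := by rw [ha1]
        _ = _ := by group
    have hb2 : s * b⁻¹ = b⁻¹ * (v * s) := by
      calc s * b⁻¹ = b⁻¹ * (b * s) * b⁻¹ := by group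
        _ = b⁻¹ * (v * s * b) * b⁻¹ := by rw [hb1]
        _ = _ := by group
    symm
    rw [commutatorElement_def]
    calc s * (a * b * a⁻¹ * b⁻¹) = u⁻¹ * (u * s * a) * b * a⁻¹ * b⁻¹ := by group
      _ = u⁻¹ * (a * s) * b * a⁻¹ * b⁻¹ := by rw [ha1]
      _ = u⁻¹ * a * v⁻¹ * (v * s * b) * a⁻¹ * b⁻¹ := by group
      _ = u⁻¹ * a * v⁻¹ * (b * s) * a⁻¹ * b⁻¹ := by rw [hb1]
      _ = u⁻¹ * a * v⁻¹ * b * (s * a⁻¹) * b⁻¹ := by group
      _ = u⁻¹ * a * v⁻¹ * b * (a⁻¹ * (u * s)) * b⁻¹ := by rw [ha2]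
      _ = u⁻¹ * a * v⁻¹ * b * (a⁻¹ * u) * (s * b⁻¹) := by group
      _ = u⁻¹ * a * v⁻¹ * b * (u * a⁻¹) * (b⁻¹ * (v * s)) := by rw [huc, hb2]
      _ = u⁻¹ * a * v⁻¹ * (b * u) * a⁻¹ * (b⁻¹ * v) * s := by group
      _ = u⁻¹ * a * v⁻¹ * (u * b) * a⁻¹ * (v * b⁻¹) * s := by rw [huc, hvc]
      _ = u⁻¹ * a * (v⁻¹ * u) * b * (a⁻¹ * v) * b⁻¹ * s := by group
      _ = u⁻¹ * a * (u * v⁻¹) * b * (v * a⁻¹) * b⁻¹ * s := by rw [huc, hvc]
      _ = u⁻¹ * (a * u) * v⁻¹ * (b * v) * a⁻¹ * b⁻¹ * s := by group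
      _ = u⁻¹ * (u * a) * v⁻¹ * (v * b) * a⁻¹ * b⁻¹ * s := by rw [huc, hvc]
      _ = _ := by group
  rw [← hsurj, ← map_commutator] at hr
  obtain ⟨r', hr', h3⟩ := hr
  have h4 : r'⁻¹ * r ∈ center M := by
    rw [← QuotientGroup.eq]
    exact h3
  have h5 : r' * s = s * r' := mem_centralizer_singleton_iff.1 (h2 hr')
  have h6 := mem_center_iff.1 h4 s
  calc r * s = r' * ((r'⁻¹ * r) * s) := by group
    _ = r' * (s * (r'⁻¹ * r)) := by rw [h6]
    _ = (r' * s) * (r'⁻¹ * r) := by group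
    _ = (s * r') * (r'⁻¹ * r) := by rw [h5]
    _ = _ := by group

section

variable {k V M : Type*} [Field k] [AddCommGroup V] [Module k V] [Group M] (ρ : M →* Module.End k V)

/-- scalar operators on a nonzero space define a character -/
theorem exists_char {N : Subgroup M} {W : Submodule k V} (hW : W ≠ ⊥)
    (h : ∀ n ∈ N, ∃ a : k, ∀ w ∈ W, ρ n w = a • w) :
    ∃ f : N →* k, ∀ n : N, ∀ w ∈ W, ρ n w = f n • w := by
  obtain ⟨w₀, hw₀, hne⟩ := W.exists_mem_ne_zero_of_ne_bot hW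
  choose f hf using h
  have huniq : ∀ a b : k, a • w₀ = b • w₀ → a = b := by
    intro a b hab
    rw [← sub_eq_zero, ← sub_smul, smul_eq_zero] at hab
    rcases hab with h1 | h1
    · exact sub_eq_zero.1 h1
    · exact absurd h1 hne
  refine ⟨{ toFun := fun n => f n n.2, map_one' := ?_, map_mul' := ?_ }, fun n w hw => hf n n.2 w hw⟩
  · apply huniq
    rw [← hf (1 : N) (1 : N).2 w₀ hw₀, OneMemClass.coe_one, map_one, one_smul]
    rfl
  · intro a b
    apply huniq
    rw [← hf _ (a * b).2 w₀ hw₀, Subgroup.coe_mul, map_mul, Module.End.mul_apply, hf b b.2 w₀ hw₀, map_smul,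
      hf a a.2 w₀ hw₀, smul_smul, mul_comm]

/-- the characters of `R` given by commutation with elements of `R`, on a space on which `[R, R]` acts by scalars -/
theorem exists_comm_char {R N : Subgroup M} (hRN : ∀ x ∈ R, ∀ y ∈ R, x * y * x⁻¹ * y⁻¹ ∈ N)
    (hcen : ∀ n ∈ N, ∀ x ∈ R, n * x = x * n) (f : N →* k) (x : R) :
    ∃ χ : R →* k, ∀ g : R, ∀ h : (g : M) * x * (g : M)⁻¹ * (x : M)⁻¹ ∈ N, χ g = f ⟨_, h⟩ := by
  refine ⟨{ toFun := fun g => f ⟨_, hRN g g.2 x x.2⟩, map_one' := ?_, map_mul' := ?_ }, fun g h => rfl⟩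
  · rw [← map_one f]
    congr 1
    apply Subtype.ext
    change (1 : M) * x * (1 : M)⁻¹ * (x : M)⁻¹ = 1
    group
  · intro a b
    rw [← map_mul]
    congr 1
    apply Subtype.ext
    change (a * b : M) * x * (a * b : M)⁻¹ * (x : M)⁻¹ = (a * x * (a : M)⁻¹ * (x : M)⁻¹) * (b * x * (b : M)⁻¹ * (x : M)⁻¹)
    have h1 := hcen _ (hRN b b.2 x x.2) (a * x * (a : M)⁻¹ * (x : M)⁻¹)
      (R.mul_mem (R.mul_mem (R.mul_mem a.2 x.2) (R.inv_mem a.2)) (R.inv_mem x.2))
    have h2 := hcen _ (hRN b b.2 x x.2) a a.2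
    calc (a * b : M) * x * (a * b : M)⁻¹ * (x : M)⁻¹
        = (a : M) * (b * x * (b : M)⁻¹ * (x : M)⁻¹) * (x * (a : M)⁻¹ * (x : M)⁻¹) := by group
      _ = ((b * x * (b : M)⁻¹ * (x : M)⁻¹) * a) * (x * (a : M)⁻¹ * (x : M)⁻¹) := by rw [h2]
      _ = (b * x * (b : M)⁻¹ * (x : M)⁻¹) * (a * x * (a : M)⁻¹ * (x : M)⁻¹) := by group
      _ = _ := h1

/-- at most `(dim W)²` of these characters -/
theorem card_chars [FiniteDimensional k V] {R N : Subgroup M} (hRN : ∀ x ∈ R, ∀ y ∈ R, x * y * x⁻¹ * y⁻¹ ∈ N)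
    {W : Submodule k V} (hW : W ≠ ⊥)
    (hRW : ∀ x ∈ R, ∀ w ∈ W, ρ x w ∈ W) (f : N →* k) (hf : ∀ n : N, ∀ w ∈ W, ρ n w = f n • w)
    (χ : R → R →* k) (hχ : ∀ x g : R, ∀ h : (g : M) * x * (g : M)⁻¹ * (x : M)⁻¹ ∈ N, χ x g = f ⟨_, h⟩)
    {I : Type*} [Finite I] (c : I → R) :
    Nat.card (Set.range fun i => χ (c i)) ≤ (finrank k W) ^ 2 := by
  classical
  have hfin : Finite (Set.range fun i => χ (c i)) := Set.finite_range _
  have := Fintype.ofFinite (Set.range fun i => χ (c i))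
  have hnt : Nontrivial W := Submodule.nontrivial_iff_ne_bot.2 hW
  let ρ' : R →* Module.End k W :=
    { toFun := fun g => (ρ g).restrict (hRW g g.2)
      map_one' := by
        ext v
        simp [LinearMap.restrict_apply]
      map_mul' := by
        intro a b
        ext v
        simp [LinearMap.restrict_apply] }
  have hρ' : ∀ g (v : W), ((ρ' g v : W) : V) = ρ g v := fun g v => rfl
  choose r hr using fun t : Set.range (fun i => χ (c i)) => t.2
  rw [Nat.card_eq_fintype_card]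
  refine ExtraRep.card_le_sq ρ' (fun t => t.1) (fun t => c (r t)) ?_ Subtype.val_injective
  intro t g
  have h1 : t.1 g = f ⟨_, hRN g g.2 (c (r t)) (c (r t)).2⟩ := by
    rw [← hχ _ _ (hRN g g.2 (c (r t)) (c (r t)).2)]
    exact congrArg (fun a : R →* k => a g) (hr t).symm
  apply LinearMap.ext
  intro w
  apply Subtype.ext
  rw [LinearMap.smul_apply, Submodule.coe_smul, h1, Module.End.mul_apply, Module.End.mul_apply, hρ', hρ', hρ', hρ',
    ← hf ⟨_, hRN g g.2 (c (r t)) (c (r t)).2⟩ _ (hRW _ (c (r t)).2 _ (hRW _ g.2 _ w.2)),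
    ← Module.End.mul_apply, ← Module.End.mul_apply, ← Module.End.mul_apply, ← map_mul, ← map_mul, ← map_mul]
  congr 2
  group

end

/-! ### the eigenvalues -/

section

variable {k V : Type*} [Field k] [AddCommGroup V] [Module k V]

theorem prod3 (A : Module.End k V) (a b c : k) : (A - a • 1) * (A - b • 1) * (A - c • 1) =
    A * A * A - (a + b + c) • (A * A) + (a * b + b * c + c * a) • A - (a * b * c) • 1 := by
  simp only [sub_mul, mul_sub, smul_mul_assoc, mul_smul_comm, one_mul, mul_one]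
  module

theorem eq_smul_of {A : Module.End k V} {a b c : k} (h : (A - a • 1) * (A - b • 1) * (A - c • 1) = 0)
    (ha : LinearMap.ker (A - a • 1) = ⊥) (hb : LinearMap.ker (A - b • 1) = ⊥) : A = c • 1 := by
  rw [← sub_eq_zero]
  apply LinearMap.ext
  intro v
  have h1 := LinearMap.congr_fun h v
  rw [mul_assoc, Module.End.mul_apply, LinearMap.zero_apply] at h1
  have h2 := LinearMap.ker_eq_bot'.1 ha _ h1
  rw [Module.End.mul_apply] at h2
  exact LinearMap.ker_eq_bot'.1 hb _ h2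

theorem two_eig [IsAlgClosed k] (h3 : (3 : k) ≠ 0) (A : Module.End k V) {c : k} (hc : c ≠ 0)
    (hA : A * A * A = c • 1) (hns : ∀ a : k, A ≠ a • 1) : ∃ κ κ' : k, κ ≠ κ' ∧ κ ^ 3 = c ∧ κ' ^ 3 = c ∧
      LinearMap.ker (A - κ • 1) ≠ ⊥ ∧ LinearMap.ker (A - κ' • 1) ≠ ⊥ := by
  obtain ⟨l, hl⟩ := IsAlgClosed.exists_pow_nat_eq c (n := 3) (by norm_num)
  obtain ⟨w, hw⟩ : ∃ w : k, w ^ 2 + w + 1 = 0 := by
    obtain ⟨w, hw⟩ := IsAlgClosed.exists_root (Polynomial.X ^ 2 + Polynomial.X + 1 : Polynomial k) (by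
      have : (Polynomial.X ^ 2 + Polynomial.X + 1 : Polynomial k).degree = 2 := by compute_degree!
      rw [this]; decide)
    refine ⟨w, ?_⟩
    have := hw
    rw [Polynomial.IsRoot.def] at this
    simpa using this
  have hl0 : l ≠ 0 := by
    rintro rfl
    apply hc
    rw [← hl]; ring
  have hw3 : w ^ 3 = 1 := by linear_combination (w - 1) * hw
  have hw1 : w ≠ 1 := by
    rintro rfl
    apply h3
    linear_combination hw
  have hw0 : w ≠ 0 := by
    rintro rfl
    simp at hw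
  have hw2 : w ^ 2 ≠ 1 := by
    intro h
    apply hw1
    have : w * w ^ 2 = w * 1 := by rw [h]
    rw [← pow_succ', hw3] at this
    rw [this, mul_one]
  have hd01 : l ≠ l * w := fun h => hw1 (mul_left_cancel₀ hl0 (by rw [mul_one]; exact h.symm))
  have hd02 : l ≠ l * w ^ 2 := fun h => hw2 (mul_left_cancel₀ hl0 (by rw [mul_one]; exact h.symm))
  have hd12 : l * w ≠ l * w ^ 2 := by
    intro h
    have h1 := mul_left_cancel₀ hl0 h
    apply hw1
    have h2 : w * w = w * 1 := by rw [mul_one, ← pow_two]; exact h1.symm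
    exact mul_left_cancel₀ hw0 h2
  have hP : ∀ a b d : k, a + b + d = 0 → a * b + b * d + d * a = 0 → a * b * d = c →
      (A - a • 1) * (A - b • 1) * (A - d • 1) = 0 := by
    intro a b d h1 h2 h4
    rw [prod3, h1, h2, h4, hA, zero_smul, zero_smul]
    simp
  have hc0 : l ^ 3 = c := hl
  have hc1 : (l * w) ^ 3 = c := by rw [mul_pow, hw3, mul_one, hl]
  have hc2 : (l * w ^ 2) ^ 3 = c := by
    rw [mul_pow, ← pow_mul, mul_comm 2 3, pow_mul, hw3, one_pow, mul_one, hl]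
  have e1 : l + l * w + l * w ^ 2 = 0 := by linear_combination l * hw
  have e2 : l * (l * w) + (l * w) * (l * w ^ 2) + (l * w ^ 2) * l = 0 := by
    linear_combination l ^ 2 * w * hw
  have e3 : l * (l * w) * (l * w ^ 2) = c := by linear_combination l ^ 3 * hw3 + hl
  by_contra hcon
  push Not at hcon
  have h012 := hP l (l * w) (l * w ^ 2) e1 e2 e3
  have h120 := hP (l * w) (l * w ^ 2) l (by linear_combination e1) (by linear_combination e2) (by linear_combination e3)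
  have h021 := hP l (l * w ^ 2) (l * w) (by linear_combination e1) (by linear_combination e2) (by linear_combination e3)
  by_cases k0 : LinearMap.ker (A - l • 1) = ⊥
  · by_cases k1 : LinearMap.ker (A - (l * w) • 1) = ⊥
    · exact hns _ (eq_smul_of h012 k0 k1)
    · have k2 := hcon _ _ hd12 hc1 hc2 k1
      exact hns _ (eq_smul_of h021 k0 k2)
  · have k1 := hcon _ _ hd01 hc0 hc1 k0
    have k2 := hcon _ _ hd02 hc0 hc2 k0
    exact hns _ (eq_smul_of h120 k1 k2)

theorem dvd_of_pow_eq {κ κ' c : k} (hc : c ≠ 0) (hne : κ ≠ κ') (h1 : κ ^ 3 = c) (h2 : κ' ^ 3 = c) {a : ℕ}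
    (h : κ ^ a = κ' ^ a) : 3 ∣ a := by
  have h0 : κ' ≠ 0 := by
    rintro rfl
    apply hc
    rw [← h2]; ring
  have h3 : orderOf (κ / κ') = 3 := by
    have : Fact (Nat.Prime 3) := ⟨Nat.prime_three⟩
    apply orderOf_eq_prime
    · rw [div_pow, h1, h2, div_self hc]
    · rw [Ne, div_eq_one_iff_eq h0]
      exact hne
  rw [← h3, orderOf_dvd_iff_pow_eq_one, div_pow, h, div_self (pow_ne_zero _ h0)]

end

/-! ### the bound -/

theorem dim_ge {k V M : Type*} [Field k] [IsAlgClosed k] (h3 : (3 : k) ≠ 0) [AddCommGroup V] [Module k V]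
    [FiniteDimensional k V] [Group M] (ρ : M →* Module.End k V) (hρ : Function.Injective ρ)
    (hsc : ∀ m ∈ center M, ∃ a : k, ρ m = a • 1) {z : M ⧸ center M} {Q : Subgroup (M ⧸ center M)}
    (h : BigQ z Q) : 11 ≤ finrank k V := by
  classical
  obtain ⟨s, hs⟩ := QuotientGroup.mk'_surjective (center M) z
  have hs' : (s : M ⧸ center M) = z := hs
  have hz3 : z ^ 3 = 1 := by rw [← h.oz, pow_orderOf_eq_one]
  have hz1 : z ≠ 1 := by
    intro h1
    have := h.oz
    rw [h1, orderOf_one] at this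
    omega
  have hsC : s ∉ center M := by
    intro h1
    apply hz1
    rw [← hs']
    exact (QuotientGroup.eq_one_iff _).2 h1
  have hs3 : s ^ 3 ∈ center M := by
    rw [← QuotientGroup.eq_one_iff]
    change (s : M ⧸ center M) ^ 3 = 1
    rw [hs', hz3]
  obtain ⟨c, hc⟩ := hsc _ hs3
  have hVnt : Nontrivial V := by
    by_contra hcon
    rw [not_nontrivial_iff_subsingleton] at hcon
    apply hsC
    have : s = 1 := hρ (LinearMap.ext fun v => Subsingleton.elim _ _)
    rw [this]; exact one_mem _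
  have hc0 : c ≠ 0 := by
    rintro rfl
    have h1 : ρ (s ^ 3) * ρ (s ^ 3)⁻¹ = 1 := by rw [← map_mul, mul_inv_cancel, map_one]
    rw [hc, zero_smul, zero_mul] at h1
    exact zero_ne_one h1
  have hA : ρ s * ρ s * ρ s = c • 1 := by
    rw [← hc, ← map_mul, ← map_mul, pow_succ, pow_two]
  have hns : ∀ a : k, ρ s ≠ a • 1 := by
    intro a ha
    apply hsC
    rw [mem_center_iff]
    intro g
    apply hρ
    rw [map_mul, map_mul, ha, mul_smul_comm, smul_mul_assoc, one_mul, mul_one]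
  obtain ⟨κ, κ', hne, hk, hk', hW, hW'⟩ := two_eig h3 (ρ s) hc0 hA hns
  obtain ⟨R, hR⟩ : ∃ R : Subgroup M, R = Q.comap (QuotientGroup.mk' (center M)) := ⟨_, rfl⟩
  obtain ⟨N, hN⟩ : ∃ N : Subgroup M, N = (zpowers z).comap (QuotientGroup.mk' (center M)) := ⟨_, rfl⟩
  have hRs : ∀ x ∈ R, x * s = s * x := by
    intro x hx
    rw [hR] at hx
    exact comm_lift hs' (h.der hx)
  have hNdec : ∀ n ∈ N, ∃ a : ℕ, ∃ d ∈ center M, n = s ^ a * d := by
    intro n hn
    rw [hN, mem_comap] at hn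
    have hfo : IsOfFinOrder z := by
      rw [← orderOf_pos_iff, h.oz]; norm_num
    obtain ⟨a, ha⟩ := (hfo.mem_powers_iff_mem_zpowers).2 hn
    refine ⟨a, (s ^ a)⁻¹ * n, ?_, by group⟩
    rw [← QuotientGroup.eq]
    change (s : M ⧸ center M) ^ a = _
    rw [hs']
    exact ha
  have hRN : ∀ x ∈ R, ∀ y ∈ R, x * y * x⁻¹ * y⁻¹ ∈ N := by
    intro x hx y hy
    rw [hR] at hx hy
    rw [hN]
    exact h.comm _ hx _ hy
  have hcen : ∀ n ∈ N, ∀ x ∈ R, n * x = x * n := by
    intro n hn x hx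
    obtain ⟨a, d, hd, rfl⟩ := hNdec n hn
    have h1 : Commute (s ^ a) x := (show Commute s x from (hRs x hx).symm).pow_left a
    have h2 : Commute d x := (mem_center_iff.1 hd x).symm
    exact h1.mul_left h2
  -- facts for one eigenvalue
  have main : ∀ l : k, LinearMap.ker (ρ s - l • 1) ≠ ⊥ →
      (∀ x ∈ R, ∀ w ∈ LinearMap.ker (ρ s - l • 1), ρ x w ∈ LinearMap.ker (ρ s - l • 1)) ∧
      (∀ a : ℕ, ∀ w ∈ LinearMap.ker (ρ s - l • 1), ρ (s ^ a) w = l ^ a • w) := by
    intro l hl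
    have h1 : ∀ w, w ∈ LinearMap.ker (ρ s - l • 1) ↔ ρ s w = l • w := by
      intro w
      rw [LinearMap.mem_ker, LinearMap.sub_apply, sub_eq_zero]
      rfl
    refine ⟨fun x hx w hw => ?_, fun a w hw => ?_⟩
    · rw [h1] at hw ⊢
      rw [← Module.End.mul_apply, ← map_mul, ← hRs x hx, map_mul, Module.End.mul_apply, hw, map_smul]
    · rw [h1] at hw
      induction a with
      | zero => rw [pow_zero, pow_zero, map_one, one_smul]; rfl
      | succ a ih => rw [pow_succ, map_mul, Module.End.mul_apply, hw, map_smul, ih, smul_smul, pow_succ, mul_comm]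
  have char : ∀ l : k, LinearMap.ker (ρ s - l • 1) ≠ ⊥ → ∃ f : N →* k,
      ∀ n : N, ∀ w ∈ LinearMap.ker (ρ s - l • 1), ρ n w = f n • w := by
    intro l hl
    apply exists_char ρ hl
    intro n hn
    obtain ⟨a, d, hd, rfl⟩ := hNdec n hn
    obtain ⟨b, hb⟩ := hsc d hd
    refine ⟨b * l ^ a, fun w hw => ?_⟩
    rw [map_mul, Module.End.mul_apply, hb, LinearMap.smul_apply, Module.End.one_apply, map_smul,
      (main l hl).2 a w hw, smul_smul]
  obtain ⟨f, hf⟩ := char κ hW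
  obtain ⟨f', hf'⟩ := char κ' hW'
  choose χ hχ using exists_comm_char (k := k) hRN hcen f
  choose χ' hχ' using exists_comm_char (k := k) hRN hcen f'
  -- the index set
  have hQfin : Finite Q := Nat.finite_of_card_ne_zero (by rw [h.card]; norm_num)
  obtain ⟨P, hP⟩ : ∃ P : Subgroup Q, P = zpowers (⟨z, h.zQ⟩ : Q) := ⟨_, rfl⟩
  have hPcard : Nat.card P = 3 := by
    rw [hP, Nat.card_zpowers, Subgroup.orderOf_mk, h.oz]
  have hPmem : ∀ x : Q, (x : M ⧸ center M) ∈ zpowers z → x ∈ P := by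
    rintro x ⟨m, hm⟩
    rw [hP]
    exact ⟨m, Subtype.ext (by rw [Subgroup.coe_zpow]; exact hm)⟩
  have hI : Nat.card (Q ⧸ P) = 3 ^ 6 := by
    have h1 := P.card_mul_index
    rw [hPcard, h.card] at h1
    have h2 : Nat.card (Q ⧸ P) = P.index := rfl
    rw [h2]; omega
  choose lift hlift using fun i : Q ⧸ P => QuotientGroup.mk'_surjective (center M) (i.out : M ⧸ center M)
  have hliftR : ∀ i, lift i ∈ R := by
    intro i
    rw [hR, mem_comap, hlift]
    exact (i.out).2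
  obtain ⟨cc, hcc⟩ : ∃ cc : Q ⧸ P → R, cc = fun i => ⟨lift i, hliftR i⟩ := ⟨_, rfl⟩
  have hd1 := card_chars ρ hRN hW (main κ hW).1 f hf χ hχ cc
  have hd2 := card_chars ρ hRN hW' (main κ' hW').1 f' hf' χ' hχ' cc
  have hinj : Function.Injective (fun i : Q ⧸ P =>
      ((⟨χ (cc i), ⟨i, rfl⟩⟩, ⟨χ' (cc i), ⟨i, rfl⟩⟩) :
        (Set.range fun i => χ (cc i)) × (Set.range fun i => χ' (cc i)))) := by
    intro i j hij
    have e1 : χ (cc i) = χ (cc j) := congrArg (fun a => a.1.1) hij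
    have e2 : χ' (cc i) = χ' (cc j) := congrArg (fun a => a.2.1) hij
    rw [← QuotientGroup.out_eq' i, ← QuotientGroup.out_eq' j, QuotientGroup.eq]
    apply hPmem
    have key : ∀ y ∈ Q, ((i.out⁻¹ * j.out : Q) : M ⧸ center M) * y = y * ((i.out⁻¹ * j.out : Q) : M ⧸ center M) := by
      intro y hy
      obtain ⟨g, hg⟩ := QuotientGroup.mk'_surjective (center M) y
      have hgR : g ∈ R := by rw [hR, mem_comap, hg]; exact hy
      obtain ⟨n, hn⟩ : ∃ n : N, n = (⟨_, hRN g hgR _ (cc i).2⟩ : N) := ⟨_, rfl⟩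
      obtain ⟨n', hn'⟩ : ∃ n' : N, n' = (⟨_, hRN g hgR _ (cc j).2⟩ : N) := ⟨_, rfl⟩
      have a1 : f n = f n' := by
        rw [hn, hn', ← hχ (cc i) ⟨g, hgR⟩, ← hχ (cc j) ⟨g, hgR⟩, e1]
      have a2 : f' n = f' n' := by
        rw [hn, hn', ← hχ' (cc i) ⟨g, hgR⟩, ← hχ' (cc j) ⟨g, hgR⟩, e2]
      have b1 : f (n⁻¹ * n') = 1 := by rw [map_mul, ← a1, ← map_mul, inv_mul_cancel, map_one]
      have b2 : f' (n⁻¹ * n') = 1 := by rw [map_mul, ← a2, ← map_mul, inv_mul_cancel, map_one]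
      obtain ⟨a, d, hd, had⟩ := hNdec _ (n⁻¹ * n').2
      obtain ⟨b, hb⟩ := hsc d hd
      have c1 : ∀ l : k, ∀ ff : N →* k, LinearMap.ker (ρ s - l • 1) ≠ ⊥ →
          (∀ n : N, ∀ w ∈ LinearMap.ker (ρ s - l • 1), ρ n w = ff n • w) → ff (n⁻¹ * n') = 1 → b * l ^ a = 1 := by
        intro l ff hl hff h1
        obtain ⟨w, hw, hw0⟩ := (LinearMap.ker (ρ s - l • 1)).exists_mem_ne_zero_of_ne_bot hl
        have h2 := hff (n⁻¹ * n') w hw
        rw [h1, one_smul, had, map_mul, Module.End.mul_apply, hb, LinearMap.smul_apply, Module.End.one_apply,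
          map_smul, (main l hl).2 a w hw, smul_smul] at h2
        by_contra hcon
        apply hw0
        have h5 : (b * l ^ a - 1) • w = 0 := by rw [sub_smul, h2, one_smul, sub_self]
        exact (smul_eq_zero.1 h5).resolve_left (sub_ne_zero.2 hcon)
      have c2 := c1 κ f hW hf b1
      have c3 := c1 κ' f' hW' hf' b2
      have hb0 : b ≠ 0 := by
        rintro rfl
        rw [zero_mul] at c2
        exact zero_ne_one c2
      have c4 : κ ^ a = κ' ^ a := mul_left_cancel₀ hb0 (c2.trans c3.symm)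
      have c5 := dvd_of_pow_eq hc0 hne hk hk' c4
      obtain ⟨m, rfl⟩ := c5
      have c6 : (((n⁻¹ * n' : N) : M) : M ⧸ center M) = 1 := by
        rw [had]
        change (s : M ⧸ center M) ^ (3 * m) * (d : M ⧸ center M) = 1
        rw [hs', pow_mul, hz3, one_pow, one_mul]
        exact (QuotientGroup.eq_one_iff _).2 hd
      have c7 : ((n : M) : M ⧸ center M) = ((n' : M) : M ⧸ center M) := by
        rw [← inv_mul_eq_one]
        exact c6
      have c8 : ((n : M) : M ⧸ center M) = y * (i.out : Q) * y⁻¹ * ((i.out : Q) : M ⧸ center M)⁻¹ := by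
        rw [hn]
        have h9 : (((cc i : R) : M) : M ⧸ center M) = (i.out : Q) := by rw [hcc]; exact hlift i
        change (g : M ⧸ center M) * ((cc i : R) : M) * (g : M ⧸ center M)⁻¹ * (((cc i : R) : M) : M ⧸ center M)⁻¹ = _
        rw [h9]
        have h10 : (g : M ⧸ center M) = y := hg
        rw [h10]
      have c9 : ((n' : M) : M ⧸ center M) = y * (j.out : Q) * y⁻¹ * ((j.out : Q) : M ⧸ center M)⁻¹ := by
        rw [hn']
        have h9 : (((cc j : R) : M) : M ⧸ center M) = (j.out : Q) := by rw [hcc]; exact hlift j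
        change (g : M ⧸ center M) * ((cc j : R) : M) * (g : M ⧸ center M)⁻¹ * (((cc j : R) : M) : M ⧸ center M)⁻¹ = _
        rw [h9]
        have h10 : (g : M ⧸ center M) = y := hg
        rw [h10]
      rw [c8, c9] at c7
      rw [Subgroup.coe_mul, Subgroup.coe_inv]
      generalize ((i.out : Q) : M ⧸ center M) = p at c7 ⊢
      generalize ((j.out : Q) : M ⧸ center M) = q at c7 ⊢
      have d1 : p * y⁻¹ * p⁻¹ = q * y⁻¹ * q⁻¹ := by
        calc p * y⁻¹ * p⁻¹ = y⁻¹ * (y * p * y⁻¹ * p⁻¹) := by group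
          _ = y⁻¹ * (y * q * y⁻¹ * q⁻¹) := by rw [c7]
          _ = _ := by group
      calc p⁻¹ * q * y = y * y⁻¹ * p⁻¹ * q * y := by group
        _ = y * p⁻¹ * (p * y⁻¹ * p⁻¹) * q * y := by group
        _ = y * p⁻¹ * (q * y⁻¹ * q⁻¹) * q * y := by rw [d1]
        _ = _ := by group
    exact h.cen _ (i.out⁻¹ * j.out).2 key
  have hfi : Finite (Q ⧸ P) := inferInstance
  have hf1 : Finite (Set.range fun i => χ (cc i)) := Set.finite_range _
  have hf2 : Finite (Set.range fun i => χ' (cc i)) := Set.finite_range _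
  have hle := Nat.card_le_card_of_injective _ hinj
  rw [hI, Nat.card_prod] at hle
  have hdim : finrank k (LinearMap.ker (ρ s - κ • 1)) + finrank k (LinearMap.ker (ρ s - κ' • 1)) ≤ finrank k V := by
    have h1 : LinearMap.ker (ρ s - κ • 1) ⊓ LinearMap.ker (ρ s - κ' • 1) = ⊥ := by
      rw [eq_bot_iff]
      rintro w ⟨h1, h2⟩
      have h1' : ρ s w = κ • w := sub_eq_zero.1 h1
      have h2' : ρ s w = κ' • w := sub_eq_zero.1 h2
      rw [h1'] at h2'
      have h5 : (κ - κ') • w = 0 := by rw [sub_smul, h2', sub_self]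
      exact (smul_eq_zero.1 h5).resolve_left (sub_ne_zero.2 hne)
    have h2 := Submodule.finrank_sup_add_finrank_inf_eq (LinearMap.ker (ρ s - κ • 1)) (LinearMap.ker (ρ s - κ' • 1))
    rw [h1, finrank_bot, add_zero] at h2
    rw [← h2]
    exact Submodule.finrank_le _
  by_contra hcon
  push Not at hcon
  obtain ⟨a, ha⟩ : ∃ a, a = finrank k (LinearMap.ker (ρ s - κ • 1)) := ⟨_, rfl⟩
  obtain ⟨b, hb⟩ : ∃ b, b = finrank k (LinearMap.ker (ρ s - κ' • 1)) := ⟨_, rfl⟩
  rw [← ha] at hd1 hdim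
  rw [← hb] at hd2 hdim
  have h7 : 3 ^ 6 ≤ a ^ 2 * b ^ 2 := hle.trans (Nat.mul_le_mul hd1 hd2)
  have h8 : a + b ≤ 10 := by omega
  have h9 : a ≤ 10 := by omega
  have h10 : b ≤ 10 - a := by omega
  have h11 : a ^ 2 * b ^ 2 ≤ a ^ 2 * (10 - a) ^ 2 := Nat.mul_le_mul_left _ (Nat.pow_le_pow_left h10 2)
  have h12 := h7.trans h11
  clear * - h12 h9
  interval_cases a <;> norm_num at h12

end BigQ

end Cfsg.Agent.H349.T3
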