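import Cfsg.Agent.H349.T3.BigQ
import Cfsg.Agent.H349.ESBound

/-!
# The groups `PSL_n(q)` and `PSU_n(q)`, `n ≤ 10`, `q` prime to 3, contain no `BigQ` (helper349)
-/

set_option autoImplicit false

namespace Cfsg.Agent.H349.T3

open Module Subgroup Cfsg

namespace BigQ

theorem congr {E E' : Type*} [Group E] [Group E'] {z : E} {Q : Subgroup E} (h : BigQ z Q) (e : E ≃* E') :
    BigQ (e z) (Q.map e.toMonoidHom) where
  oz := by rw [e.orderOf_eq]; exact h.oz
  card := by
    rw [← h.card]
    exact Nat.card_congr (Q.equivMapOfInjective e.toMonoidHom e.injective).toEquiv.symm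
  zQ := ⟨z, h.zQ, rfl⟩
  comm := by
    rintro _ ⟨x, hx, rfl⟩ _ ⟨y, hy, rfl⟩
    obtain ⟨m, hm⟩ := h.comm x hx y hy
    refine ⟨m, ?_⟩
    have h1 := congrArg e hm
    simpa using h1
  cen := by
    rintro _ ⟨x, hx, rfl⟩ h1
    obtain ⟨m, hm⟩ := h.cen x hx (fun y hy => by
      apply e.injective
      rw [map_mul, map_mul]
      exact h1 _ ⟨y, hy, rfl⟩)
    refine ⟨m, ?_⟩
    have h2 := congrArg e hm
    simpa using h2
  der := by
    have h1 : (centralizer ({z} : Set E)).map e.toMonoidHom ≤ centralizer ({e z} : Set E') := by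
      rintro _ ⟨x, hx, rfl⟩
      rw [SetLike.mem_coe, mem_centralizer_singleton_iff] at hx
      rw [mem_centralizer_singleton_iff]
      change e x * e z = e z * e x
      rw [← map_mul, ← map_mul, hx]
    refine (map_mono h.der).trans ?_
    rw [map_commutator]
    exact commutator_mono h1 h1

theorem lin {F ι M : Type*} [Field F] [Fintype ι] [DecidableEq ι] (h3 : (3 : F) ≠ 0) [Group M]
    (φ : M →* Matrix ι ι F) (hφ : Function.Injective φ) (hc : ∀ m ∈ center M, ∃ c, φ m = Matrix.scalar ι c)
    {z : M ⧸ center M} {Q : Subgroup (M ⧸ center M)} (h : BigQ z Q) : 11 ≤ Fintype.card ι := by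
  let K := AlgebraicClosure F
  let a : F →+* K := algebraMap F K
  let ρ : M →* Module.End K (ι → K) :=
    (((Matrix.toLinAlgEquiv' (R := K) (n := ι)).toAlgHom : Matrix ι ι K →* Module.End K (ι → K)).comp
      ((a.mapMatrix : Matrix ι ι F →+* Matrix ι ι K) : Matrix ι ι F →* Matrix ι ι K)).comp φ
  have h1 := dim_ge (k := K) (V := ι → K) (by
      intro h0
      apply h3
      apply a.injective
      rw [map_ofNat, map_zero]
      exact h0) ρ (by
      intro x y hxy
      apply hφ
      have h2 : a.mapMatrix (φ x) = a.mapMatrix (φ y) := (Matrix.toLinAlgEquiv' (R := K) (n := ι)).injective hxy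
      exact Matrix.map_injective a.injective h2) (by
      intro m hm
      obtain ⟨c, hc⟩ := hc m hm
      refine ⟨a c, ?_⟩
      change Matrix.toLinAlgEquiv' (R := K) (n := ι) (a.mapMatrix (φ m)) = _
      have h2 : a.mapMatrix (Matrix.scalar ι c) = a c • (1 : Matrix ι ι K) := by
        ext i j
        simp only [RingHom.mapMatrix_apply, Matrix.map_apply, Matrix.scalar_apply, Matrix.diagonal_apply,
          Matrix.smul_apply, Matrix.one_apply, smul_eq_mul]
        split_ifs
        · rw [mul_one]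
        · rw [map_zero, mul_zero]
      rw [hc, h2, map_smul, map_one]) h
  rwa [Module.finrank_fintype_fun_eq_card] at h1

theorem psl {F : Type*} [Field F] {X : Type*} [Group X] (h3 : (3 : F) ≠ 0) {n : ℕ} {z : X} {Q : Subgroup X}
    (h : BigQ z Q) (e : X ≃* Matrix.ProjectiveSpecialLinearGroup (Fin n) F) : 11 ≤ n := by
  have h1 := lin (F := F) (ι := Fin n) h3
    ((Units.coeHom (Matrix (Fin n) (Fin n) F)).comp Matrix.SpecialLinearGroup.toGL) (by
      intro a b hab
      exact Subtype.ext hab) (by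
      intro m hm
      obtain ⟨r, -, hr⟩ := Matrix.SpecialLinearGroup.mem_center_iff.1 hm
      exact ⟨r, hr.symm⟩) (h.congr e)
  rwa [Fintype.card_fin] at h1

theorem psu {F : Type*} [Field F] [Fintype F] {X : Type*} [Group X] (h3 : (3 : F) ≠ 0) {n q : ℕ}
    (hF : Fintype.card F = q ^ 2) (hn : 3 ≤ n) {z : X} {Q : Subgroup X}
    (h : BigQ z Q) (e : X ≃* PSU n F q) : 11 ≤ n := by
  have h1 := lin (F := F) (ι := Fin n) h3
    ((slToMat n F).comp (SU n F q).subtype) (by
      intro a b hab
      exact Subtype.ext (Subtype.ext hab)) (by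
      intro m hm
      obtain ⟨c, h3, h4, rfl⟩ := (LieClassical.SUBasic.mem_center_SU_iff hF hn m).1 hm
      exact ⟨c, rfl⟩) (h.congr e)
  rwa [Fintype.card_fin] at h1

end BigQ

end Cfsg.Agent.H349.T3
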