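import Cfsg.Agent.H349.T3.Order

/-!
# The order of the centralizer in a frame (helper349)
-/

set_option autoImplicit false

namespace Cfsg.Agent.H349.T3

open Cfsg.Agent.H341.Weak

set_option maxRecDepth 100000 in
theorem card_sl23 : Nat.card (Matrix.SpecialLinearGroup (Fin 2) (ZMod 3)) = 24 := by
  rw [Nat.card_eq_fintype_card]
  decide

namespace FrameL

universe u

variable {G : Type u} [Group G] [Finite G] {Z Q : Subgroup G} {U : Fin 3 → Subgroup G} {e : Fin 3 → G}
  (F : Frame Z Q U e)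
include F

omit [Finite G] in
/-- `|K|` divides `3^7 * 24^3` -/
theorem card_K : Nat.card (K F) ∣ 3 ^ 7 * 24 ^ 3 := by
  classical
  obtain ⟨σ, hσ, -⟩ := exists_sl3 F
  let φ : ↥(K F) →* (Fin 3 → Matrix.SpecialLinearGroup (Fin 2) (ZMod 3)) :=
    { toFun := fun k i => σ i k
      map_one' := by funext i; exact map_one (σ i)
      map_mul' := fun a b => by funext i; exact map_mul (σ i) a b }
  have hker : φ.ker = Q.subgroupOf (K F) := by
    ext k
    rw [MonoidHom.mem_ker, Subgroup.mem_subgroupOf]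
    constructor
    · intro h
      exact kernel F fun i => (hσ i k).1 (congrFun h i)
    · intro h
      funext i
      exact (hσ i k).2 fun u hu => F.comZ k h u (F.UleQ i hu)
  have h1 := Subgroup.card_mul_index φ.ker
  rw [Subgroup.index_ker] at h1
  have h2 : Nat.card ↥φ.ker = 3 ^ 7 := by
    rw [hker, ← F.cardQ]
    exact Nat.card_congr (Subgroup.subgroupOfEquivOfLe (QleK F)).toEquiv
  rw [← h1, h2]
  refine Nat.mul_dvd_mul_left _ ?_
  have h3 : Nat.card (Fin 3 → Matrix.SpecialLinearGroup (Fin 2) (ZMod 3)) = 24 ^ 3 := by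
    rw [Nat.card_fun, card_sl23]
    simp
  rw [← h3]
  exact Subgroup.card_subgroup_dvd_card _

/-- **The order of the centralizer** divides `2^10 * 3^11`. -/
theorem card_C : Nat.card (Subgroup.centralizer (Z : Set G)) ∣ 2 ^ 10 * 3 ^ 11 := by
  obtain ⟨π, -, hπ⟩ := exists_perm F
  have h1 := Subgroup.card_mul_index π.ker
  rw [Subgroup.index_ker] at h1
  have h2 : Nat.card ↥π.ker = Nat.card (K F) := by
    rw [hπ]
    exact Nat.card_congr (Subgroup.subgroupOfEquivOfLe (KleC F)).toEquiv
  have h3 : Nat.card ↥π.range ∣ 6 := by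
    have h4 := Subgroup.card_subgroup_dvd_card π.range
    rw [Nat.card_perm, Nat.card_fin] at h4
    exact h4
  rw [← h1, h2]
  have h4 := Nat.mul_dvd_mul (card_K F) h3
  have h5 : 3 ^ 7 * 24 ^ 3 * 6 = 2 ^ 10 * 3 ^ 11 := by norm_num
  rwa [h5] at h4

end FrameL

end Cfsg.Agent.H349.T3
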