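import Cfsg.Agent.H349.T3.QleE

/-!
# Local analysis in a frame, part 3: `Q ≤ E` (helper349)
-/

set_option autoImplicit false

namespace Cfsg.Agent.H349.T3

open Cfsg Cfsg.Agent.H341.Weak Cfsg.Agent.H261 Subgroup

universe u

theorem perm_fix : ∀ (p : Equiv.Perm (Fin 3)) (i : Fin 3), p i = i → p ^ 3 = 1 → p = 1 := by decide

theorem perm_swap0 : ∀ (p : Equiv.Perm (Fin 3)) (i j k : Fin 3), (p i = i ∧ p ≠ 1 ∧ j ≠ i ∧ k ≠ i ∧ j ≠ k) →
    p k = j := by decide

theorem perm_swap (p : Equiv.Perm (Fin 3)) (i j k : Fin 3) (h1 : p i = i) (h2 : p ≠ 1) (h3 : j ≠ i) (h4 : k ≠ i)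
    (h5 : j ≠ k) : p j = k ∧ p k = j :=
  ⟨perm_swap0 p i k j ⟨h1, h2, h4, h3, h5.symm⟩, perm_swap0 p i j k ⟨h1, h2, h3, h4, h5⟩⟩

set_option maxRecDepth 100000 in
theorem sl23_sq : ∀ a : Matrix.SpecialLinearGroup (Fin 2) (ZMod 3), a * a = 1 → a = 1 ∨ a = -1 := by
  decide

theorem neg_one_comm {a : Matrix.SpecialLinearGroup (Fin 2) (ZMod 3)} (h : a = 1 ∨ a = -1)
    (b : Matrix.SpecialLinearGroup (Fin 2) (ZMod 3)) : a * b * a⁻¹ = b := by
  have h1 : a * b = b * a := by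
    rcases h with rfl | rfl
    · rw [one_mul, mul_one]
    · apply Subtype.ext
      change (-1 : Matrix (Fin 2) (Fin 2) (ZMod 3)) * b.1 = b.1 * (-1)
      rw [neg_mul, one_mul, mul_neg, mul_one]
  rw [h1, mul_inv_cancel_right]

namespace Setup

variable {G : Type u} [Group G] {Z Q : Subgroup G} {U : Fin 3 → Subgroup G} {e : Fin 3 → G} (S : Setup Z Q U e)
include S

variable {E : Subgroup G} [hEn : E.Normal] (hZE : Z ≤ E)
include hZE

omit hEn in
/-- an element of `Q` commuting with the blocks outside `E` lies in `E` -/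
theorem mem_E {x : G} (hx : x ∈ Q) (h : ∀ l, ¬ U l ≤ E → ∀ u ∈ U l, x * u = u * x) : x ∈ E := by
  have F := S.toFrame
  obtain ⟨a, ha, b, hb, c, hc, rfl⟩ := FrameL.dec F hx
  have hab := F.comm 0 1 (by decide) a ha b hb
  have hac := F.comm 0 2 (by decide) a ha c hc
  have hbc := F.comm 1 2 (by decide) b hb c hc
  have h0 : a ∈ E := by
    by_cases h0 : U 0 ≤ E
    · exact h0 ha
    · refine hZE (S.comp_central (i := 0) ha (y := b * c) ?_ ?_)
      · intro u hu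
        have e1 : Commute b u := F.comm 1 0 (by decide) b hb u hu
        have e2 : Commute c u := F.comm 2 0 (by decide) c hc u hu
        exact (e1.mul_left e2).eq
      · intro u hu
        rw [← mul_assoc a b c]
        exact h 0 h0 u hu
  have h1 : b ∈ E := by
    by_cases h0 : U 1 ≤ E
    · exact h0 hb
    · refine hZE (S.comp_central (i := 1) hb (y := a * c) ?_ ?_)
      · intro u hu
        have e1 : Commute a u := F.comm 0 1 (by decide) a ha u hu
        have e2 : Commute c u := F.comm 2 1 (by decide) c hc u hu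
        exact (e1.mul_left e2).eq
      · intro u hu
        have e3 : b * (a * c) = a * b * c := by rw [← mul_assoc, ← hab]
        rw [e3]
        exact h 1 h0 u hu
  have h2 : c ∈ E := by
    by_cases h0 : U 2 ≤ E
    · exact h0 hc
    · refine hZE (S.comp_central (i := 2) hc (y := a * b) ?_ ?_)
      · intro u hu
        have e1 : Commute a u := F.comm 0 2 (by decide) a ha u hu
        have e2 : Commute b u := F.comm 1 2 (by decide) b hb u hu
        exact (e1.mul_left e2).eq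
      · intro u hu
        have e3 : c * (a * b) = a * b * c := by
          calc c * (a * b) = (c * a) * b := by group
            _ = (a * c) * b := by rw [hac]
            _ = a * (c * b) := by group
            _ = a * (b * c) := by rw [hbc]
            _ = _ := by group
        rw [e3]
        exact h 2 h0 u hu
  exact E.mul_mem (E.mul_mem h0 h1) h2

/-- **`Q` lies in every normal subgroup containing `Z`.** -/
theorem Q_le [Finite G] : Q ≤ E := by
  classical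
  have F := S.toFrame
  by_contra hQ
  obtain ⟨i, hi⟩ : ∃ i, ¬ U i ≤ E := by
    by_contra hcon
    push Not at hcon
    apply hQ
    rw [F.sup]
    exact sup_le (sup_le (hcon 0) (hcon 1)) (hcon 2)
  obtain ⟨D, hD⟩ : ∃ D, D = E ⊓ centralizer (Z : Set G) := ⟨_, rfl⟩
  have hZD : Z ≤ D := hD ▸ le_inf hZE ((FrameL.ZleQ F).trans F.QleC)
  have hDn : ∀ c ∈ centralizer (Z : Set G), c ∈ normalizer (D : Set G) := by
    refine le_normalizer_of_conj fun c hc y hy => ?_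
    rw [hD] at hy ⊢
    exact ⟨hEn.conj_mem y hy.1 c, (centralizer (Z : Set G)).mul_mem ((centralizer (Z : Set G)).mul_mem hc hy.2)
      ((centralizer (Z : Set G)).inv_mem hc)⟩
  obtain ⟨M, hM⟩ : ∃ M, M = centralizer (D : Set G) := ⟨_, rfl⟩
  have hMD : ∀ m ∈ M, ∀ d ∈ D, d * m = m * d := by
    intro m hm d hd
    rw [hM] at hm
    exact mem_centralizer_iff.1 hm d hd
  have hMC : M ≤ centralizer (Z : Set G) := by
    rw [hM]
    exact Subgroup.centralizer_le hZD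
  have hMn : ∀ c ∈ centralizer (Z : Set G), ∀ x ∈ M, c * x * c⁻¹ ∈ M := by
    intro c hc x hx
    rw [hM] at hx ⊢
    exact conj_mem_centralizer (hDn c hc) hx
  have hME : ∀ x ∈ M, x ∈ E → x ∈ Z := by
    intro x hx hxE
    refine S.loc.ab (M ⊓ E) (inf_le_left.trans hMC) ?_ ?_ ⟨hx, hxE⟩
    · exact le_normalizer_of_conj fun c hc y hy => ⟨hMn c hc y hy.1, hEn.conj_mem y hy.2 c⟩
    · intro a ha b hb
      refine (hMD b hb.1 a ?_)
      rw [hD]
      exact ⟨ha.2, hMC ha.1⟩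
  have hUM : ∀ l, ¬ U l ≤ E → U l ≤ M ∧ e l ∈ M := by
    intro l hl
    have h1 : ∀ d ∈ D, e l * d = d * e l ∧ ∀ u ∈ U l, d * u = u * d := by
      intro d hd
      rw [hD] at hd
      exact S.central hZE hl hd.1 hd.2
    rw [hM]
    refine ⟨fun u hu => mem_centralizer_iff.2 fun d hd => (h1 d hd).2 u hu,
      mem_centralizer_iff.2 fun d hd => (h1 d hd).1.symm⟩
  have hJ : ∀ l, U l ≤ E → U l ≤ D := fun l hl => hD ▸ le_inf hl (FrameL.UleC F l)
  obtain ⟨g, hgQ, hgZ⟩ := S.fus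
  obtain ⟨M', hM'⟩ : ∃ M' : Subgroup G, ∀ x, x ∈ M' ↔ g⁻¹ * x * g ∈ M := by
    refine ⟨M.comap (MulAut.conj g⁻¹).toMonoidHom, fun x => ?_⟩
    rw [Subgroup.mem_comap]
    change g⁻¹ * x * g⁻¹⁻¹ ∈ M ↔ _
    rw [inv_inv]
  have hM'g : ∀ m ∈ M, g * m * g⁻¹ ∈ M' := by
    intro m hm
    rw [hM']
    have : g⁻¹ * (g * m * g⁻¹) * g = m := by group
    rwa [this]
  have hgD : ∀ z ∈ Z, g * z * g⁻¹ ∈ D := by
    intro z hz
    rw [hD]
    exact ⟨hEn.conj_mem z (hZE hz) g, F.QleC (hgQ z hz)⟩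
  -- (1)
  have h1 : ∀ m ∈ M, g⁻¹ * m * g ∈ centralizer (Z : Set G) := by
    intro m hm
    refine mem_centralizer_iff.2 fun z hz => ?_
    have h2 := hMD m hm _ (hgD z hz)
    calc z * (g⁻¹ * m * g) = g⁻¹ * ((g * z * g⁻¹) * m) * g := by group
      _ = g⁻¹ * (m * (g * z * g⁻¹)) * g := by rw [h2]
      _ = g⁻¹ * m * g * z := by group
  -- (2)
  have h2 : M' ≤ centralizer (Z : Set G) := by
    intro x hx
    rw [hM'] at hx
    refine mem_centralizer_iff.2 fun z hz => ?_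
    have h3 : g⁻¹ * z * g ∈ D := by
      rw [hD]
      refine ⟨?_, ?_⟩
      · have := hEn.conj_mem z (hZE hz) g⁻¹
        rwa [inv_inv] at this
      · refine mem_centralizer_iff.2 fun w hw => ?_
        have h4 := FrameL.zc F hz (F.QleC (hgQ w hw))
        calc w * (g⁻¹ * z * g) = g⁻¹ * ((g * w * g⁻¹) * z) * g := by group
          _ = g⁻¹ * (z * (g * w * g⁻¹)) * g := by rw [h4]
          _ = g⁻¹ * z * g * w := by group
    have h4 := hMD _ hx _ h3
    calc z * x = g * ((g⁻¹ * z * g) * (g⁻¹ * x * g)) * g⁻¹ := by group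
      _ = g * ((g⁻¹ * x * g) * (g⁻¹ * z * g)) * g⁻¹ := by rw [h4]
      _ = x * z := by group
  -- (3)
  have h3 : ∀ m ∈ M, ∀ x ∈ M', m * x * m⁻¹ ∈ M' := by
    intro m hm x hx
    rw [hM'] at hx ⊢
    have h4 := hMn _ (h1 m hm) _ hx
    have h5 : g⁻¹ * (m * x * m⁻¹) * g = g⁻¹ * m * g * (g⁻¹ * x * g) * (g⁻¹ * m * g)⁻¹ := by group
    rwa [h5]
  -- (4)
  have h4 : ∀ x ∈ M', ∀ m ∈ M, x * m * x⁻¹ ∈ M := fun x hx m hm => hMn x (h2 hx) m hm
  -- `M' ∩ E = Z'`
  have hM'E : ∀ x ∈ M', x ∈ E → g⁻¹ * x * g ∈ Z := by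
    intro x hx hxE
    refine hME _ ((hM' x).1 hx) ?_
    have := hEn.conj_mem x hxE g⁻¹
    rwa [inv_inv] at this
  have hZM' : ∀ z ∈ Z, z ∈ M' → z = 1 := by
    intro z hz hzM
    by_contra hz1
    have h5 := hM'E z hzM (hZE hz)
    apply hgZ
    have h6 : g⁻¹ * z * g ≠ 1 := by
      intro h7
      apply hz1
      calc z = g * (g⁻¹ * z * g) * g⁻¹ := by group
        _ = 1 := by rw [h7]; group
    have h7 : Z ≤ zpowers (g⁻¹ * z * g) := eq_of_mem_of_card_prime Nat.prime_three F.cardZ h5 h6 (mem_zpowers _)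
    intro x hx
    obtain ⟨n, rfl⟩ := mem_zpowers_iff.1 (h7 hx)
    rw [← conj_zpow]
    have h8 : g * (g⁻¹ * z * g) * g⁻¹ = z := by group
    rw [h8]
    exact Z.zpow_mem hz n
  -- (5)
  have hX : M ⊓ M' = ⊥ := by
    have hXQ : Q ≤ normalizer ((M ⊓ M' : Subgroup G) : Set G) := by
      have h5 : ∀ l, U l ≤ normalizer ((M ⊓ M' : Subgroup G) : Set G) := by
        intro l
        refine le_normalizer_of_conj fun u hu y hy => ?_
        by_cases hl : U l ≤ E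
        · have h6 := hMD y hy.1 u (hJ l hl hu)
          rw [h6, mul_inv_cancel_right]
          exact hy
        · have h6 := (hUM l hl).1 hu
          exact ⟨M.mul_mem (M.mul_mem h6 hy.1) (M.inv_mem h6), h3 u h6 y hy.2⟩
      rw [F.sup]
      exact sup_le (sup_le (h5 0) (h5 1)) (h5 2)
    refine FrameL.eq_bot_of_inf F (fun c hc y hy => (mem_normalizer_iff.1 (hXQ hc) y).1 hy) (inf_le_left.trans hMC) ?_
    intro x hx hxQ
    by_cases hxZ : x ∈ Z
    · exact hZM' x hxZ hx.2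
    · exfalso
      obtain ⟨l, u, hu, hxu⟩ : ∃ l, ∃ u ∈ U l, x * u ≠ u * x := by
        by_contra hcon
        push Not at hcon
        exact hxZ (FrameL.mem_Z_of_comm F hcon)
      by_cases hl : U l ≤ E
      · exact hxu (hMD x hx.1 u (hJ l hl hu)).symm
      · have h6 := (hUM l hl).1 hu
        have h7 : u * x * u⁻¹ * x⁻¹ ∈ M' := M'.mul_mem (h3 u h6 x hx.2) (M'.inv_mem hx.2)
        have h8 := hZM' _ (F.comZ u (F.UleQ l hu) x hxQ) h7
        exact hxu (mul_inv_eq_iff_eq_mul.1 (mul_inv_eq_one.1 h8)).symm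
  -- (6)
  have h6 : ∀ m ∈ M, ∀ x ∈ M', x * m = m * x := by
    intro m hm x hx
    have h7 : x * m * x⁻¹ * m⁻¹ ∈ M ⊓ M' := by
      refine ⟨M.mul_mem (h4 x hx m hm) (M.inv_mem hm), ?_⟩
      have h8 : x * m * x⁻¹ * m⁻¹ = x * (m * x⁻¹ * m⁻¹) := by group
      change x * m * x⁻¹ * m⁻¹ ∈ M'
      rw [h8]
      exact M'.mul_mem hx (h3 m hm _ (M'.inv_mem hx))
    rw [hX, Subgroup.mem_bot] at h7
    exact mul_inv_eq_iff_eq_mul.1 (mul_inv_eq_one.1 h7)
  -- (7)
  have h7 : ∀ x ∈ M', x ∈ Q → g⁻¹ * x * g ∈ Z := by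
    intro x hx hxQ
    exact hM'E x hx (S.mem_E hZE hxQ fun l hl u hu => h6 u ((hUM l hl).1 hu) x hx)
  -- the other two blocks
  obtain ⟨j, k, hji, hki, hjk⟩ : ∃ j k : Fin 3, j ≠ i ∧ k ≠ i ∧ j ≠ k := by
    have h0 : ∀ i : Fin 3, ∃ j k : Fin 3, j ≠ i ∧ k ≠ i ∧ j ≠ k := by decide
    exact h0 i
  obtain ⟨π, hπ, hπk⟩ := FrameL.exists_perm F
  have hfixi : ∀ x (hx : x ∈ M'), π ⟨x, h2 hx⟩ i = i := by
    intro x hx
    by_contra hne
    obtain ⟨u, hu, huZ⟩ := FrameL.exists_not_mem F i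
    have h8 := (hπ ⟨x, h2 hx⟩ i u).1 hu
    have h9 : x * u * x⁻¹ = u := by rw [h6 u ((hUM i hi).1 hu) x hx, mul_inv_cancel_right]
    rw [h9] at h8
    exact huZ (FrameL.inf F (Ne.symm hne) hu h8)
  have hKmem : ∀ x (hx : x ∈ M'), π ⟨x, h2 hx⟩ = 1 → x ∈ FrameL.K F := by
    intro x hx h8
    have h9 : (⟨x, h2 hx⟩ : ↥(centralizer (Z : Set G))) ∈ π.ker := h8
    rw [hπk] at h9
    exact h9
  have hT : ∀ u ∈ U i, g * u * g⁻¹ ∈ FrameL.K F := by
    intro u hu
    have hm : g * u * g⁻¹ ∈ M' := hM'g u ((hUM i hi).1 hu)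
    refine hKmem _ hm (perm_fix _ i (hfixi _ hm) ?_)
    rw [← map_pow]
    have h8 : (⟨g * u * g⁻¹, h2 hm⟩ : ↥(centralizer (Z : Set G))) ^ 3 = 1 := by
      apply Subtype.ext
      change (g * u * g⁻¹) ^ 3 = 1
      rw [conj_pow, F.exp u (F.UleQ i hu)]
      group
    rw [h8, map_one]
  obtain ⟨σ, hσ, -⟩ := FrameL.exists_sl3 F
  -- the homomorphism of `U i`
  let φ : ↥(U i) →* ↥(FrameL.K F) :=
    { toFun := fun u => ⟨g * u * g⁻¹, hT u u.2⟩
      map_one' := Subtype.ext (by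
        change g * (1 : G) * g⁻¹ = 1
        group)
      map_mul' := fun u v => Subtype.ext (by
        change g * ((u : G) * v) * g⁻¹ = (g * u * g⁻¹) * (g * v * g⁻¹)
        group) }
  have hφ : ∀ u : ↥(U i), ((φ u : ↥(FrameL.K F)) : G) = g * u * g⁻¹ := fun _ => rfl
  obtain ⟨x, hxi, hxZ, hxk⟩ : ∃ x, ∃ hx : x ∈ U i, x ∉ Z ∧ σ k (φ ⟨x, hx⟩) = 1 := by
    by_contra hcon
    push Not at hcon
    have h8 := Subgroup.card_mul_index ((σ k).comp φ).ker
    rw [Subgroup.index_ker, F.cardU i] at h8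
    have h9 : Nat.card ↥((σ k).comp φ).ker ≤ Nat.card ↥Z := by
      have hfinZ : Finite ↥Z := inferInstance
      refine Nat.card_le_card_of_injective (fun q : ↥((σ k).comp φ).ker => (⟨((q : ↥(U i)) : G), ?_⟩ : ↥Z)) ?_
      · by_contra hq
        exact hcon _ (q : ↥(U i)).2 hq q.2
      · intro a b hab
        have := congrArg Subtype.val hab
        exact Subtype.ext (Subtype.ext this)
    rw [F.cardZ] at h9
    have h10 : Nat.card ↥((σ k).comp φ).range ∣ 24 := by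
      rw [← card_sl23]
      exact Subgroup.card_subgroup_dvd_card _
    have h11 : 0 < Nat.card ↥((σ k).comp φ).ker := Nat.card_pos
    obtain ⟨a, ha⟩ : ∃ a, a = Nat.card ↥((σ k).comp φ).ker := ⟨_, rfl⟩
    obtain ⟨b, hb⟩ : ∃ b, b = Nat.card ↥((σ k).comp φ).range := ⟨_, rfl⟩
    rw [← ha, ← hb] at h8
    rw [← ha] at h9 h11
    rw [← hb] at h10
    interval_cases a
    · have : b = 27 := by omega
      rw [this] at h10
      omega
    · omega
    · have : b = 9 := by omega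
      rw [this] at h10
      omega
  obtain ⟨X, hX'⟩ : ∃ X, X = φ ⟨x, hxi⟩ := ⟨_, rfl⟩
  have hXv : (X : G) = g * x * g⁻¹ := by rw [hX', hφ]
  have hXM : (X : G) ∈ M' := by rw [hXv]; exact hM'g x ((hUM i hi).1 hxi)
  rw [← hX'] at hxk
  have hXi : σ i X = 1 := by
    rw [hσ]
    intro u hu
    rw [h6 u ((hUM i hi).1 hu) X hXM, mul_inv_cancel_right, mul_inv_cancel]
    exact Z.one_mem
  have hXj : σ j X ≠ 1 := by
    intro h8
    apply hxZ
    have h9 : (X : G) ∈ Q := by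
      refine FrameL.kernel F fun l => ?_
      have hl : l = i ∨ l = j ∨ l = k := by
        have h0 : ∀ i j k l : Fin 3, j ≠ i → k ≠ i → j ≠ k → l = i ∨ l = j ∨ l = k := by decide
        exact h0 i j k l hji hki hjk
      rcases hl with rfl | rfl | rfl
      · exact (hσ _ X).1 hXi
      · exact (hσ _ X).1 h8
      · exact (hσ _ X).1 hxk
    have h10 := h7 _ hXM h9
    rw [hXv] at h10
    have h11 : g⁻¹ * (g * x * g⁻¹) * g = x := by group
    rwa [h11] at h10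
  -- the involution
  obtain ⟨f, hf⟩ : ∃ f, f = g * e i * g⁻¹ := ⟨_, rfl⟩
  have hfM : f ∈ M' := hf ▸ hM'g _ (hUM i hi).2
  have hff : f * f = 1 := by
    rw [hf]
    have h8 : g * e i * g⁻¹ * (g * e i * g⁻¹) = g * (e i * e i) * g⁻¹ := by group
    rw [h8, F.e2 i]
    group
  obtain ⟨v, hvZ, hfX⟩ : ∃ v ∈ Z, f * X * f⁻¹ = (X : G)⁻¹ * (g * v * g⁻¹) := by
    refine ⟨x * (e i * x * (e i)⁻¹), ?_, ?_⟩
    · have h8 := F.einv i x hxi
      have h9 : x * (e i * x * (e i)⁻¹) = x * (e i * x * (e i)⁻¹ * x) * x⁻¹ := by group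
      rw [h9, ← FrameL.zc F h8 (FrameL.UleC F i hxi), mul_inv_cancel_right]
      exact h8
    · rw [hf, hXv]
      group
  have hvQ : g * v * g⁻¹ ∈ Q := hgQ v hvZ
  by_cases hp : π ⟨f, h2 hfM⟩ = 1
  · -- `f` fixes all blocks
    have hfK : f ∈ FrameL.K F := hKmem f hfM hp
    have h8 : σ j ⟨f, hfK⟩ * σ j ⟨f, hfK⟩ = 1 := by
      rw [← map_mul]
      have : (⟨f, hfK⟩ : ↥(FrameL.K F)) * ⟨f, hfK⟩ = 1 := Subtype.ext hff
      rw [this, map_one]
    have h9 := neg_one_comm (sl23_sq _ h8) (σ j X)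
    rw [← map_inv, ← map_mul, ← map_mul] at h9
    have h10 : (⟨f, hfK⟩ : ↥(FrameL.K F)) * X * (⟨f, hfK⟩)⁻¹ = X⁻¹ * ⟨g * v * g⁻¹, FrameL.QleK F hvQ⟩ :=
      Subtype.ext hfX
    have h11 : σ j ⟨g * v * g⁻¹, FrameL.QleK F hvQ⟩ = 1 :=
      (hσ j _).2 fun u hu => F.comZ _ hvQ u (F.UleQ j hu)
    rw [h10, map_mul, map_inv, h11, mul_one] at h9
    have h12 : σ j X * σ j X = 1 := by
      nth_rw 1 [← h9]
      exact inv_mul_cancel _
    have h13 : σ j X ^ 3 = 1 := by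
      rw [← map_pow]
      have : X ^ 3 = 1 := by
        apply Subtype.ext
        change (X : G) ^ 3 = 1
        rw [hXv, conj_pow, F.exp x (F.UleQ i hxi)]
        group
      rw [this, map_one]
    apply hXj
    rw [pow_succ, pow_two, h12, one_mul] at h13
    exact h13
  · -- `f` interchanges the other blocks
    obtain ⟨-, h8⟩ := perm_swap _ i j k (hfixi f hfM) hp hji hki hjk
    apply hXj
    rw [hσ]
    have hxk' := (hσ k X).1 hxk
    -- `f X f⁻¹` is trivial on `U j`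
    have h9 : ∀ u ∈ U j, (X : G)⁻¹ * u * X * u⁻¹ ∈ Z := by
      intro u hu
      have h10 : f⁻¹ * u * f ∈ U k := by
        rw [hπ ⟨f, h2 hfM⟩ k, h8]
        have h11 : f * (f⁻¹ * u * f) * f⁻¹ = u := by group
        change f * (f⁻¹ * u * f) * f⁻¹ ∈ U j
        rw [h11]
        exact hu
      have h11 := hxk' _ h10
      have h12 : (f * X * f⁻¹) * u * (f * X * f⁻¹)⁻¹ * u⁻¹ =
          f * ((X : G) * (f⁻¹ * u * f) * (X : G)⁻¹ * (f⁻¹ * u * f)⁻¹) * f⁻¹ := by group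
      have h13 : (f * X * f⁻¹) * u * (f * X * f⁻¹)⁻¹ * u⁻¹ ∈ Z := by
        rw [h12, ← FrameL.zc F h11 (h2 hfM), mul_inv_cancel_right]
        exact h11
      rw [hfX] at h13
      obtain ⟨w, hw⟩ : ∃ w, w = (g * v * g⁻¹) * u * (g * v * g⁻¹)⁻¹ * u⁻¹ := ⟨_, rfl⟩
      have hwZ : w ∈ Z := hw ▸ F.comZ _ hvQ u (F.UleQ j hu)
      have h14 : (X : G)⁻¹ * (g * v * g⁻¹) * u * ((X : G)⁻¹ * (g * v * g⁻¹))⁻¹ * u⁻¹ =
          w * ((X : G)⁻¹ * u * X * u⁻¹) := by
        calc (X : G)⁻¹ * (g * v * g⁻¹) * u * ((X : G)⁻¹ * (g * v * g⁻¹))⁻¹ * u⁻¹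
            = (X : G)⁻¹ * ((g * v * g⁻¹) * u * (g * v * g⁻¹)⁻¹ * u⁻¹) * (u * X * u⁻¹) := by group
          _ = ((X : G)⁻¹ * w) * (u * X * u⁻¹) := by rw [← hw]
          _ = (w * (X : G)⁻¹) * (u * X * u⁻¹) := by rw [FrameL.zc F hwZ (inv_mem (h2 hXM))]
          _ = _ := by group
      rw [h14] at h13
      exact (Z.mul_mem_cancel_left hwZ).1 h13
    intro u hu
    have h10 : (X : G) * u * (X : G)⁻¹ ∈ U j := (X.2.2 j u).1 hu
    have h11 := h9 _ h10
    have h12 : (X : G)⁻¹ * ((X : G) * u * (X : G)⁻¹) * X * ((X : G) * u * (X : G)⁻¹)⁻¹ =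
        ((X : G) * u * (X : G)⁻¹ * u⁻¹)⁻¹ := by group
    rw [h12] at h11
    exact inv_mem_iff.1 h11

end Setup

end Cfsg.Agent.H349.T3
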