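import Cfsg.Agent.H349.T3.BigQ
import Cfsg.Agent.H349.T3.QleE2
import Cfsg.Agent.H349.T3.Card

/-!
# If `3^11` divides `|C_E(Z)|` then `Q` lies in the derived subgroup of `C_E(Z)` (helper349)
-/

set_option autoImplicit false

namespace Cfsg.Agent.H349.T3

open Cfsg Cfsg.Agent.H341.Weak Cfsg.Agent.H261 Subgroup

universe u

theorem card_ne (i : Fin 3) : Nat.card {j : Fin 3 // j ≠ i} = 2 := by
  rw [Nat.card_eq_fintype_card]
  revert i
  decide

namespace FrameL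

variable {G : Type u} [Group G] [Finite G] {Z Q : Subgroup G} {U : Fin 3 → Subgroup G} {e : Fin 3 → G}
  (F : Frame Z Q U e)
include F

/-- subgroups of index prime to 3 act nontrivially on every block -/
theorem exists_act {A : Subgroup G} (hA : A ≤ centralizer (Z : Set G)) (h11 : 3 ^ 11 ∣ Nat.card A) (i : Fin 3) :
    ∃ c ∈ A, ∃ u ∈ U i, c ∈ K F ∧ c * u * c⁻¹ * u⁻¹ ∉ Z := by
  classical
  by_contra hcon
  push Not at hcon
  obtain ⟨π, -, hπ⟩ := exists_perm F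
  obtain ⟨σ, hσ, -⟩ := exists_sl3 F
  -- the kernel of the permutation action
  let ψ : ↥A →* Equiv.Perm (Fin 3) := π.comp (inclusion hA)
  have hψ : ψ.ker = (K F).subgroupOf A := by
    ext x
    rw [MonoidHom.mem_ker, mem_subgroupOf]
    change π (inclusion hA x) = 1 ↔ _
    rw [← MonoidHom.mem_ker, hπ, mem_subgroupOf]
    rfl
  have h1 := card_mul_index ψ.ker
  rw [index_ker] at h1
  have h3 : Nat.card ↥ψ.range ∣ 6 := by
    have h4 := card_subgroup_dvd_card ψ.range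
    rw [Nat.card_perm, Nat.card_fin] at h4
    exact h4
  -- the kernel on the blocks
  let φ : ↥((K F).subgroupOf A) →* ({j : Fin 3 // j ≠ i} → Matrix.SpecialLinearGroup (Fin 2) (ZMod 3)) :=
    { toFun := fun k j => σ j ⟨(k : ↥A), mem_subgroupOf.1 k.2⟩
      map_one' := by funext j; exact map_one (σ j)
      map_mul' := fun a b => by
        funext j
        exact map_mul (σ j) ⟨(a : ↥A), mem_subgroupOf.1 a.2⟩ ⟨(b : ↥A), mem_subgroupOf.1 b.2⟩ }
  have hker : (φ.ker.map ((K F).subgroupOf A).subtype).map A.subtype ≤ Q := by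
    rintro _ ⟨_, ⟨k, hk, rfl⟩, rfl⟩
    apply kernel F
    intro j u hu
    by_cases hj : j = i
    · subst hj
      exact hcon _ (k : ↥A).2 u hu (mem_subgroupOf.1 k.2)
    · exact (hσ j ⟨(k : ↥A), mem_subgroupOf.1 k.2⟩).1 (congrFun hk ⟨j, hj⟩) u hu
  have h5 := card_dvd_of_le hker
  rw [card_map_of_injective Subtype.val_injective, card_map_of_injective Subtype.val_injective, F.cardQ] at h5
  have h6 := card_mul_index φ.ker
  rw [index_ker] at h6
  have h7 : Nat.card φ.range ∣ 24 ^ 2 := by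
    have h8 : Nat.card ({j : Fin 3 // j ≠ i} → Matrix.SpecialLinearGroup (Fin 2) (ZMod 3)) = 24 ^ 2 := by
      rw [Nat.card_fun, card_sl23]
      congr 1
      exact card_ne i
    rw [← h8]
    exact card_subgroup_dvd_card _
  have h8 : Nat.card ↥A ∣ 3 ^ 7 * 24 ^ 2 * 6 := by
    rw [← h1, hψ, ← h6]
    exact mul_dvd_mul (mul_dvd_mul h5 h7) h3
  exact absurd (h11.trans h8) (by norm_num)

end FrameL

namespace Setup

variable {G : Type u} [Group G] [Finite G] {Z Q : Subgroup G} {U : Fin 3 → Subgroup G} {e : Fin 3 → G}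
  (S : Setup Z Q U e)
include S

theorem le_derived {A : Subgroup G} (hQA : Q ≤ A) (hA : A ≤ centralizer (Z : Set G))
    (hAn : ∀ c ∈ centralizer (Z : Set G), ∀ y ∈ A, c * y * c⁻¹ ∈ A) (h11 : 3 ^ 11 ∣ Nat.card A) : Q ≤ ⁅A, A⁆ := by
  have F := S.toFrame
  have hDn : ∀ c ∈ centralizer (Z : Set G), ∀ y ∈ ⁅A, A⁆, c * y * c⁻¹ ∈ ⁅A, A⁆ := by
    intro c hc y hy
    have h1 : ⁅A, A⁆.map (MulAut.conj c).toMonoidHom ≤ ⁅A, A⁆ := by
      rw [map_commutator]
      apply commutator_mono <;>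
      · rintro _ ⟨x, hx, rfl⟩
        exact hAn c hc x hx
    exact h1 ⟨y, hy, rfl⟩
  have hmem : ∀ x ∈ A, ∀ y ∈ A, x * y * x⁻¹ * y⁻¹ ∈ ⁅A, A⁆ := fun x hx y hy => commutator_mem_commutator hx hy
  have hZ : Z ≤ ⁅A, A⁆ := by
    obtain ⟨x, hx, y, hy, hxy⟩ := FrameL.exists_noncomm F 0
    have h1 := F.comZ x (F.UleQ 0 hx) y (F.UleQ 0 hy)
    have h2 : x * y * x⁻¹ * y⁻¹ ≠ 1 := fun h => hxy (mul_inv_eq_iff_eq_mul.1 (mul_inv_eq_one.1 h))
    exact eq_of_mem_of_card_prime Nat.prime_three F.cardZ h1 h2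
      (hmem x (hQA (F.UleQ 0 hx)) y (hQA (F.UleQ 0 hy)))
  have hU : ∀ i, U i ≤ ⁅A, A⁆ := by
    intro i
    apply S.irr i _ hZ hDn
    obtain ⟨c, hc, u, hu, hcK, hcu⟩ := FrameL.exists_act F hA h11 i
    refine ⟨_, hmem c hc u (hQA (F.UleQ i hu)), ?_, hcu⟩
    exact (U i).mul_mem ((hcK.2 i u).1 hu) ((U i).inv_mem hu)
  rw [F.sup]
  exact sup_le (sup_le (hU 0) (hU 1)) (hU 2)

theorem bigQ {E : Subgroup G} [hEn : E.Normal] (hQE : Q ≤ E)
    (h11 : 3 ^ 11 ∣ Nat.card (E ⊓ centralizer (Z : Set G) : Subgroup G)) :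
    ∃ (z : ↥E) (Q' : Subgroup ↥E), BigQ z Q' := by
  have F := S.toFrame
  obtain ⟨z, hz, hz1, hZz⟩ := FrameL.exists_gen F
  have hD := S.le_derived (A := E ⊓ centralizer (Z : Set G)) (le_inf hQE F.QleC) inf_le_right
    (fun c hc y hy => mem_inf.2 ⟨hEn.conj_mem _ hy.1 c, (centralizer (Z : Set G)).mul_mem
      ((centralizer (Z : Set G)).mul_mem hc hy.2) ((centralizer (Z : Set G)).inv_mem hc)⟩) h11
  have hmz : ∀ x : ↥E, (x : G) ∈ Z → x ∈ zpowers (⟨z, hQE (FrameL.ZleQ F hz)⟩ : ↥E) := by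
    intro x hx
    rw [hZz] at hx
    obtain ⟨m, hm⟩ := hx
    exact ⟨m, Subtype.ext (by rw [Subgroup.coe_zpow]; exact hm)⟩
  refine ⟨⟨z, hQE (FrameL.ZleQ F hz)⟩, Q.subgroupOf E, ?_, ?_, ?_, ?_, ?_, ?_⟩
  · rw [Subgroup.orderOf_mk]
    have : Fact (Nat.Prime 3) := ⟨Nat.prime_three⟩
    exact orderOf_eq_prime (FrameL.cubeZ F hz) hz1
  · rw [← F.cardQ]
    exact Nat.card_congr (subgroupOfEquivOfLe hQE).toEquiv
  · exact FrameL.ZleQ F hz
  · intro x hx y hy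
    exact hmz _ (F.comZ _ hx _ hy)
  · intro x hx h
    apply hmz
    apply F.cenZ _ hx
    intro y hy
    exact congrArg Subtype.val (h ⟨y, hQE hy⟩ hy)
  · have h1 : (E ⊓ centralizer (Z : Set G) : Subgroup G) ≤
        (centralizer ({(⟨z, hQE (FrameL.ZleQ F hz)⟩ : ↥E)} : Set ↥E)).map E.subtype := by
      intro x hx
      refine ⟨⟨x, hx.1⟩, ?_, rfl⟩
      rw [SetLike.mem_coe, mem_centralizer_singleton_iff]
      apply Subtype.ext
      exact (mem_centralizer_iff.1 hx.2 z hz).symm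
    have h2 : Q ≤ (⁅centralizer ({(⟨z, hQE (FrameL.ZleQ F hz)⟩ : ↥E)} : Set ↥E),
        centralizer ({(⟨z, hQE (FrameL.ZleQ F hz)⟩ : ↥E)} : Set ↥E)⁆).map E.subtype := by
      rw [map_commutator]
      exact hD.trans (commutator_mono h1 h1)
    intro x hx
    obtain ⟨y, hy, hyx⟩ := h2 (mem_subgroupOf.1 hx)
    rwa [← Subtype.ext hyx]

end Setup

end Cfsg.Agent.H349.T3
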