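import Mathlib

/-!
# The simple groups of the 3-central rows S3337 and S3368: what is known (helper349)

`Cand z k d m` : the properties of the simple group `E = F*(G)` of the rows S3337 and S3368, which will be established
by the local analysis; `Z = ⟨z⟩`, `3 ^ k` is the 3-part of `|E|`, `d = |G : E|`, and `2 ^ m` divides `|C_G(Z)|`
(`m = 9` in S3337, `m = 7` in S3368).
-/

set_option autoImplicit false

namespace Cfsg.Agent.H349.T3

/-- What is known about `E = F*(G)`. -/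
structure Cand {E : Type*} [Group E] (z : E) (k d m : ℕ) : Prop where
  kl : 9 ≤ k
  ku : k ≤ 11
  dvd : 3 ^ k ∣ Nat.card E
  ndvd : ¬ 3 ^ (k + 1) ∣ Nat.card E
  oz : orderOf z = 3
  /-- `z` is 3-central -/
  cz : 3 ^ k ∣ Nat.card (Subgroup.centralizer ({z} : Set E))
  c23 : Nat.card (Subgroup.centralizer ({z} : Set E)) ∣ 2 ^ 10 * 3 ^ 11
  /-- abelian 3-subgroups have index at least 27 in a Sylow 3-subgroup -/
  ab : ∀ A : Subgroup E, IsPGroup 3 A → (∀ a ∈ A, ∀ b ∈ A, a * b = b * a) → 27 * Nat.card A ≤ 3 ^ k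
  /-- all 3-central elements of order 3 are conjugate to `z` or `z⁻¹` -/
  uniq : ∀ y : E, orderOf y = 3 → 3 ^ k ∣ Nat.card (Subgroup.centralizer ({y} : Set E)) → IsConj y z ∨ IsConj y z⁻¹
  /-- `d = |G : E|` where `E ≤ G ≤ Aut(E)` -/
  out : d * Nat.card E ∣ Nat.card (MulAut E)
  m7 : 7 ≤ m
  /-- `|C_G(z)|` divides `d * |C_E(z)|` -/
  two : 2 ^ m ∣ d * Nat.card (Subgroup.centralizer ({z} : Set E))
  /-- if `G = E`: an involution centralizing a subgroup `3^{1+4}` -/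
  inv : d = 1 → ∃ t : E, orderOf t = 2 ∧ ∃ W : Subgroup E, W ≤ Subgroup.centralizer ({t} : Set E) ∧
    Nat.card W = 3 ^ 5 ∧ (∀ x ∈ W, x ^ 3 = 1) ∧
    ∀ A : Subgroup E, A ≤ W → (∀ a ∈ A, ∀ b ∈ A, a * b = b * a) → Nat.card A ≤ 27

end Cfsg.Agent.H349.T3
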