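import Cfsg.Agent.H349.T3.QleE2
import Cfsg.Agent.H349.T3.AbSq
import Cfsg.Agent.H349.T3.ElimDef

/-!
# Local analysis in a frame, part 4: the properties of the simple group (helper349)
-/

set_option autoImplicit false

namespace Cfsg.Agent.H349.T3

open Cfsg Cfsg.Agent.H341.Weak Cfsg.Agent.H261 Subgroup

universe u

/-- `|A| = |A ∩ N| |A N / N|` -/
theorem card_inf_mul {G : Type*} [Group G] [Finite G] (N A : Subgroup G) [N.Normal] :
    Nat.card (A ⊓ N : Subgroup G) * Nat.card (A.map (QuotientGroup.mk' N)) = Nat.card A := by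
  let f : ↥A →* G ⧸ N := (QuotientGroup.mk' N).comp A.subtype
  have h1 := Subgroup.card_mul_index f.ker
  rw [Subgroup.index_ker] at h1
  have h2 : f.range = A.map (QuotientGroup.mk' N) := by
    rw [MonoidHom.range_comp, Subgroup.range_subtype]
  have h3 : Nat.card ↥f.ker = Nat.card ↥(A ⊓ N : Subgroup G) := by
    refine Nat.card_congr ⟨fun x => ⟨((x : ↥A) : G), (x : ↥A).2, ?_⟩, fun x => ⟨⟨x, x.2.1⟩, ?_⟩, fun _ => rfl,
      fun _ => rfl⟩
    · exact (QuotientGroup.eq_one_iff _).1 x.2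
    · exact (QuotientGroup.eq_one_iff _).2 x.2.2
  rw [← h3, ← h2, h1]

namespace FrameL

variable {G : Type u} [Group G] [Finite G] {Z Q : Subgroup G} {U : Fin 3 → Subgroup G} {e : Fin 3 → G}
  (F : Frame Z Q U e)
include F

omit [Finite G] in
theorem conjZ {z c : G} (hz : z ∈ Z) (hc : c ∈ centralizer (Z : Set G)) : c * z * c⁻¹ = z := by
  rw [← zc F hz hc, mul_inv_cancel_right]

/-- a subgroup `W` between `Z` and `Q` with centre `Z`: its abelian subgroups are small -/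
theorem abel {W B : Subgroup G} (hWQ : W ≤ Q) (hZW : Z ≤ W) (hcen : ∀ x ∈ W, (∀ y ∈ W, x * y = y * x) → x ∈ Z)
    (hBW : B ≤ W) (hB : ∀ a ∈ B, ∀ b ∈ B, a * b = b * a) : Nat.card B * Nat.card B ≤ Nat.card W * 3 := by
  have hp3 : Fact (Nat.Prime 3) := ⟨Nat.prime_three⟩
  have hcomm : ∀ x ∈ B ⊔ Z, ∀ y ∈ B ⊔ Z, x * y = y * x := by
    have h0 : B ≤ centralizer (B : Set G) := fun a ha => mem_centralizer_iff.2 fun b hb => hB b hb a ha
    have hBC : B ≤ centralizer (Z : Set G) := (hBW.trans hWQ).trans F.QleC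
    have hZA : Z ≤ centralizer (B : Set G) := by
      intro z hz
      exact mem_centralizer_iff.2 fun a ha => (FrameL.zc F hz (hBC ha)).symm
    have hZZ : Z ≤ centralizer (Z : Set G) := (FrameL.ZleQ F).trans F.QleC
    have h1 : B ⊔ Z ≤ centralizer ((B ⊔ Z : Subgroup G) : Set G) := by
      refine sup_le ?_ ?_
      · rw [Subgroup.le_centralizer_iff]
        exact sup_le h0 hZA
      · rw [Subgroup.le_centralizer_iff]
        exact sup_le hBC hZZ
    intro x hx y hy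
    exact mem_centralizer_iff.1 (h1 hy) x hx
  have hBZW : B ⊔ Z ≤ W := sup_le hBW hZW
  have h1 := abelian_sq (Q := ↥W) (p := 3) (Z.subgroupOf W) ((B ⊔ Z).subgroupOf W)
    (fun z hz q => Subtype.ext (zc F hz (F.QleC (hWQ q.2))))
    (fun x y => F.comZ x (hWQ x.2) y (hWQ y.2))
    (fun x hx => hcen x x.2 fun y hy => congrArg Subtype.val (hx ⟨y, hy⟩))
    (by rw [← F.cardZ]; exact Nat.card_congr (Subgroup.subgroupOfEquivOfLe hZW).toEquiv)
    (fun x hx => (le_sup_right (a := B)) hx)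
    (fun a ha b hb => Subtype.ext (hcomm a ha b hb))
  rw [Nat.card_congr (Subgroup.subgroupOfEquivOfLe hBZW).toEquiv] at h1
  have h2 : Nat.card B ≤ Nat.card (B ⊔ Z : Subgroup G) :=
    Nat.le_of_dvd Nat.card_pos (Subgroup.card_dvd_of_le le_sup_left)
  exact (Nat.mul_le_mul h2 h2).trans h1

theorem abel_Q {B : Subgroup G} (hBQ : B ≤ Q) (hB : ∀ a ∈ B, ∀ b ∈ B, a * b = b * a) : Nat.card B ≤ 81 := by
  have h1 := abel F le_rfl (ZleQ F) F.cenZ hBQ hB
  rw [F.cardQ] at h1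
  by_contra hcon
  push Not at hcon
  have h2 : 82 * 82 ≤ Nat.card B * Nat.card B := Nat.mul_le_mul hcon hcon
  norm_num at h1 h2
  omega

/-- centralizers in `Q` of elements outside `Z` have index three -/
theorem card_CQ {t : G} (ht : t ∈ Q) (htZ : t ∉ Z) : Nat.card (Q ⊓ centralizer {t} : Subgroup G) = 3 ^ 6 := by
  have hmul : ∀ p ∈ Q, ∀ q ∈ Q, p * q * t * (p * q)⁻¹ * t⁻¹ = (p * t * p⁻¹ * t⁻¹) * (q * t * q⁻¹ * t⁻¹) := by
    intro p hp q hq
    obtain ⟨w, hw⟩ : ∃ w, w = q * t * q⁻¹ * t⁻¹ := ⟨_, rfl⟩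
    have hwZ : w ∈ Z := hw ▸ F.comZ q hq t ht
    have h1 : q * t * q⁻¹ = w * t := by rw [hw]; group
    have hC : ∀ x ∈ Q, w * x = x * w := fun x hx => zc F hwZ (F.QleC hx)
    calc p * q * t * (p * q)⁻¹ * t⁻¹ = p * (q * t * q⁻¹) * p⁻¹ * t⁻¹ := by group
      _ = (p * w) * t * p⁻¹ * t⁻¹ := by rw [h1]; group
      _ = (w * p) * t * p⁻¹ * t⁻¹ := by rw [hC p hp]
      _ = w * (p * t * p⁻¹ * t⁻¹) := by group
      _ = (p * t * p⁻¹ * t⁻¹) * w := hC _ (ZleQ F (F.comZ p hp t ht))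
      _ = (p * t * p⁻¹ * t⁻¹) * (q * t * q⁻¹ * t⁻¹) := by rw [hw]
  let f : ↥Q →* ↥Z :=
    { toFun := fun q => ⟨q * t * (q : G)⁻¹ * t⁻¹, F.comZ q q.2 t ht⟩
      map_one' := Subtype.ext (by
        change (1 : G) * t * (1 : G)⁻¹ * t⁻¹ = 1
        group)
      map_mul' := fun p q => Subtype.ext (hmul p p.2 q q.2) }
  have hf : Function.Surjective f := by
    rintro ⟨w, hw⟩
    obtain ⟨q, hq, hqt⟩ := conj_line F ht htZ hw
    refine ⟨⟨q, hq⟩, Subtype.ext ?_⟩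
    change q * t * q⁻¹ * t⁻¹ = w
    rw [hqt, mul_inv_cancel_right]
  have h1 := Subgroup.card_mul_index f.ker
  rw [Subgroup.index_ker, MonoidHom.range_eq_top.2 hf, Subgroup.card_top, F.cardZ, F.cardQ] at h1
  have h2 : Nat.card ↥f.ker = Nat.card (Q ⊓ centralizer {t} : Subgroup G) := by
    refine Nat.card_congr ⟨fun x => ⟨((x : ↥Q) : G), (x : ↥Q).2, ?_⟩, fun x => ⟨⟨x, x.2.1⟩, ?_⟩, fun _ => rfl,
      fun _ => rfl⟩
    · have h3 : ((x : ↥Q) : G) * t * ((x : ↥Q) : G)⁻¹ * t⁻¹ = 1 := congrArg Subtype.val x.2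
      exact mem_centralizer_singleton_iff.2 (mul_inv_eq_iff_eq_mul.1 (mul_inv_eq_one.1 h3))
    · refine Subtype.ext ?_
      change (x : G) * t * (x : G)⁻¹ * t⁻¹ = 1
      rw [mem_centralizer_singleton_iff.1 x.2.2, mul_inv_cancel_right, mul_inv_cancel]
  rw [← h2]
  omega

/-- the product of two blocks -/
theorem card_sup {i j : Fin 3} (hij : i ≠ j) : Nat.card (U i ⊔ U j : Subgroup G) = 3 ^ 5 := by
  let f : ↥(U i) × ↥(U j) →* G :=
    { toFun := fun x => (x.1 : G) * x.2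
      map_one' := by simp
      map_mul' := fun x y => by
        change ((x.1 : G) * y.1) * (x.2 * y.2) = (x.1 * x.2) * (y.1 * y.2)
        have h1 := F.comm i j hij y.1 y.1.2 x.2 x.2.2
        calc ((x.1 : G) * y.1) * (x.2 * y.2) = x.1 * ((y.1 : G) * x.2) * y.2 := by group
          _ = x.1 * ((x.2 : G) * y.1) * y.2 := by rw [h1]
          _ = _ := by group }
  have hr : f.range = U i ⊔ U j := by
    apply le_antisymm
    · rintro _ ⟨x, rfl⟩
      exact mul_mem (le_sup_left (a := U i) x.1.2) (le_sup_right (a := U i) x.2.2)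
    · refine sup_le ?_ ?_
      · intro x hx
        exact ⟨(⟨x, hx⟩, 1), by change x * (1 : G) = x; group⟩
      · intro x hx
        exact ⟨(1, ⟨x, hx⟩), by change (1 : G) * x = x; group⟩
  have h1 := Subgroup.card_mul_index f.ker
  rw [Subgroup.index_ker, Nat.card_prod, F.cardU, F.cardU, hr] at h1
  have h2 : Nat.card ↥f.ker = Nat.card ↥Z := by
    refine Nat.card_congr ⟨fun x => ⟨((x : ↥(U i) × ↥(U j)).1 : G), ?_⟩,
      fun x => ⟨(⟨x, F.ZleU i x.2⟩, ⟨(x : G)⁻¹, (U j).inv_mem (F.ZleU j x.2)⟩), ?_⟩, fun x => ?_, fun x => rfl⟩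
    · have h3 : ((x : ↥(U i) × ↥(U j)).1 : G) * ((x : ↥(U i) × ↥(U j)).2 : G) = 1 := x.2
      refine inf F hij (x : ↥(U i) × ↥(U j)).1.2 ?_
      rw [eq_inv_of_mul_eq_one_left h3]
      exact (U j).inv_mem (x : ↥(U i) × ↥(U j)).2.2
    · change (x : G) * (x : G)⁻¹ = 1
      rw [mul_inv_cancel]
    · have h3 : ((x : ↥(U i) × ↥(U j)).1 : G) * ((x : ↥(U i) × ↥(U j)).2 : G) = 1 := x.2
      refine Subtype.ext (Prod.ext (Subtype.ext rfl) (Subtype.ext ?_))
      exact inv_eq_of_mul_eq_one_right h3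
  rw [h2, F.cardZ] at h1
  omega

end FrameL

end Cfsg.Agent.H349.T3
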