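import Cfsg.Agent.H349.T3.CandOf

/-!
# Local analysis in a frame, part 5: the properties of the simple group (helper349)
-/

set_option autoImplicit false

namespace Cfsg.Agent.H349.T3

open Cfsg Cfsg.Agent.H341.Weak Cfsg.Agent.H261 Subgroup

universe u

namespace FrameL

variable {G : Type u} [Group G] [Finite G] {Z Q : Subgroup G} {U : Fin 3 → Subgroup G} {e : Fin 3 → G}
  (F : Frame Z Q U e)
include F

omit [Finite G] in
theorem normal_subgroupOf {P : Subgroup G} (hP : P ≤ centralizer (Z : Set G)) : (Q.subgroupOf P).Normal := by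
  refine ⟨fun n hn g => ?_⟩
  rw [Subgroup.mem_subgroupOf] at hn ⊢
  exact F.conjQ g (hP g.2) n hn

/-- a subgroup of `P` meeting `Q` in an abelian group -/
theorem card_parts {P A : Subgroup G} (hP : P ≤ centralizer (Z : Set G)) (hQP : Q ≤ P) (hAP : A ≤ P)
    (hA : ∀ a ∈ A, ∀ b ∈ A, a ∈ Q → b ∈ Q → a * b = b * a) :
    ∃ a b c : ℕ, a ≤ 81 ∧ a * b = Nat.card A ∧ b ∣ c ∧ Nat.card P = c * 3 ^ 7 := by
  have hn := normal_subgroupOf F hP
  refine ⟨Nat.card (A.subgroupOf P ⊓ Q.subgroupOf P : Subgroup ↥P),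
    Nat.card ((A.subgroupOf P).map (QuotientGroup.mk' (Q.subgroupOf P))), Nat.card (↥P ⧸ Q.subgroupOf P), ?_, ?_,
    Subgroup.card_subgroup_dvd_card _, ?_⟩
  · have h1 : Nat.card (A.subgroupOf P ⊓ Q.subgroupOf P : Subgroup ↥P) =
        Nat.card ((A.subgroupOf P ⊓ Q.subgroupOf P : Subgroup ↥P).map P.subtype) :=
      (Subgroup.card_map_of_injective P.subtype_injective).symm
    rw [h1]
    refine abel_Q F ?_ ?_
    · rintro _ ⟨x, hx, rfl⟩
      exact hx.2
    · rintro _ ⟨x, hx, rfl⟩ _ ⟨y, hy, rfl⟩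
      exact hA x hx.1 y hy.1 hx.2 hy.2
  · rw [card_inf_mul]
    exact Nat.card_congr (Subgroup.subgroupOfEquivOfLe hAP).toEquiv
  · rw [Subgroup.card_eq_card_quotient_mul_card_subgroup (Q.subgroupOf P),
      Nat.card_congr (Subgroup.subgroupOfEquivOfLe hQP).toEquiv, F.cardQ]

theorem ab_le {P A : Subgroup G} (hP : P ≤ centralizer (Z : Set G)) (hQP : Q ≤ P) (hAP : A ≤ P)
    (hA : ∀ a ∈ A, ∀ b ∈ A, a * b = b * a) : 27 * Nat.card A ≤ Nat.card P := by
  obtain ⟨a, b, c, h1, h2, h3, h4⟩ := card_parts F hP hQP hAP (fun a ha b hb _ _ => hA a ha b hb)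
  have hc : 0 < c := by
    rcases Nat.eq_zero_or_pos c with rfl | h
    · have : 0 < Nat.card P := Nat.card_pos
      omega
    · exact h
  have hb := Nat.le_of_dvd hc h3
  rw [h4, ← h2]
  calc 27 * (a * b) ≤ 27 * (81 * c) := Nat.mul_le_mul_left _ (Nat.mul_le_mul h1 hb)
    _ = c * 3 ^ 7 := by ring

theorem nine {P A : Subgroup G} (hP : P ≤ centralizer (Z : Set G)) (hQP : Q ≤ P) (hAP : A ≤ P)
    (hA : ∀ a ∈ A, ∀ b ∈ A, a ∈ Q → b ∈ Q → a * b = b * a) (hcard : Nat.card A = 3 ^ 6) :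
    3 ^ 9 ∣ Nat.card P := by
  obtain ⟨a, b, c, h1, h2, h3, h4⟩ := card_parts F hP hQP hAP hA
  rw [hcard] at h2
  have hb : b ∣ 3 ^ 6 := Dvd.intro_left a h2
  obtain ⟨j, hj, rfl⟩ := (Nat.dvd_prime_pow Nat.prime_three).1 hb
  have hj2 : 2 ≤ j := by
    by_contra hcon
    have h5 : (3 : ℕ) ^ j ≤ 3 := by
      calc (3 : ℕ) ^ j ≤ 3 ^ 1 := Nat.pow_le_pow_right (by norm_num) (by omega)
        _ = 3 := by norm_num
    have h6 : a * 3 ^ j ≤ 81 * 3 := Nat.mul_le_mul h1 h5
    omega
  rw [h4]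
  have h5 : 3 ^ 2 ∣ c := (pow_dvd_pow 3 hj2).trans h3
  have h6 : (3 : ℕ) ^ 9 = 3 ^ 2 * 3 ^ 7 := by norm_num
  rw [h6]
  exact Nat.mul_dvd_mul_right h5 _

end FrameL

namespace Setup

variable {G : Type u} [Group G] [Finite G] {Z Q : Subgroup G} {U : Fin 3 → Subgroup G} {e : Fin 3 → G}
  (S : Setup Z Q U e)
include S

/-- `3^9` divides `|C_E(Z)|` -/
theorem nine_dvd {E : Subgroup G} [hEn : E.Normal] (hQE : Q ≤ E) :
    3 ^ 9 ∣ Nat.card (E ⊓ centralizer (Z : Set G) : Subgroup G) := by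
  have F := S.toFrame
  obtain ⟨g, hgQ, hgZ⟩ := S.fus
  obtain ⟨z, hz, hz1, hZz⟩ := FrameL.exists_gen F
  have hnot : ∀ w ∈ Z, g * w * g⁻¹ ∈ Z → w = 1 := by
    intro w hw hwg
    by_contra hw1
    apply hgZ
    have h1 : Z ≤ zpowers w := eq_of_mem_of_card_prime Nat.prime_three F.cardZ hw hw1 (mem_zpowers w)
    intro x hx
    obtain ⟨n, rfl⟩ := mem_zpowers_iff.1 (h1 hx)
    rw [← conj_zpow]
    exact Z.zpow_mem hwg n
  have htQ := hgQ z hz
  have htZ : g * z * g⁻¹ ∉ Z := fun h => hz1 (hnot z hz h)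
  obtain ⟨B, hB⟩ : ∃ B, B = (Q ⊓ centralizer {g * z * g⁻¹} : Subgroup G).map (MulAut.conj g⁻¹).toMonoidHom := ⟨_, rfl⟩
  have hBmem : ∀ x ∈ B, g * x * g⁻¹ ∈ Q ∧ g * x * g⁻¹ ∈ centralizer {g * z * g⁻¹} := by
    intro x hx
    rw [hB] at hx
    obtain ⟨y, hy, rfl⟩ := hx
    have h1 : g * ((MulAut.conj g⁻¹).toMonoidHom y) * g⁻¹ = y := by
      change g * (g⁻¹ * y * g⁻¹⁻¹) * g⁻¹ = y
      group
    rw [h1]
    exact hy
  have hBE : B ≤ E ⊓ centralizer (Z : Set G) := by
    intro x hx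
    obtain ⟨h1, h2⟩ := hBmem x hx
    refine ⟨?_, ?_⟩
    · have h3 := hEn.conj_mem _ (hQE h1) g⁻¹
      have h4 : g⁻¹ * (g * x * g⁻¹) * g⁻¹⁻¹ = x := by group
      rwa [h4] at h3
    · refine S.loc.mem_of_comm Nat.prime_three hz hz1 ?_
      have h3 := mem_centralizer_singleton_iff.1 h2
      calc z * x = g⁻¹ * ((g * z * g⁻¹) * (g * x * g⁻¹)) * g := by group
        _ = g⁻¹ * ((g * x * g⁻¹) * (g * z * g⁻¹)) * g := by rw [h3]
        _ = x * z := by group
  refine FrameL.nine F inf_le_right (le_inf hQE F.QleC) hBE ?_ ?_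
  · intro a ha b hb haQ hbQ
    have h1 := F.comZ a haQ b hbQ
    have h2 : g * (a * b * a⁻¹ * b⁻¹) * g⁻¹ ∈ Z := by
      have h3 := F.comZ _ (hBmem a ha).1 _ (hBmem b hb).1
      have h4 : g * a * g⁻¹ * (g * b * g⁻¹) * (g * a * g⁻¹)⁻¹ * (g * b * g⁻¹)⁻¹ =
          g * (a * b * a⁻¹ * b⁻¹) * g⁻¹ := by group
      rwa [h4] at h3
    have h3 := hnot _ h1 h2
    exact mul_inv_eq_iff_eq_mul.1 (mul_inv_eq_one.1 h3)
  · rw [hB, Subgroup.card_map_of_injective (MulAut.conj g⁻¹).injective]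
    exact FrameL.card_CQ F htQ htZ

/-- **The properties of the simple group.** -/
theorem cand {E : Subgroup G} [hEn : E.Normal] (hZE : Z ≤ E) (hCE : centralizer (E : Set G) = ⊥) {m : ℕ}
    (hm7 : 7 ≤ m) (hm : 2 ^ m ∣ Nat.card (centralizer (Z : Set G))) :
    ∃ (z : ↥E) (k : ℕ), Cand z k E.index m ∧
      Nat.card (centralizer ({z} : Set ↥E)) = Nat.card (E ⊓ centralizer (Z : Set G) : Subgroup G) ∧
      Nat.card (centralizer ({z} : Set ↥E)) ∣ Nat.card (centralizer (Z : Set G)) := by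
  classical
  have hp3 : Fact (Nat.Prime 3) := ⟨Nat.prime_three⟩
  have F := S.toFrame
  have L := S.loc
  have hQE := S.Q_le hZE
  obtain ⟨z0, hz0, hz01, hZz⟩ := FrameL.exists_gen F
  obtain ⟨z, hz⟩ : ∃ z : ↥E, (z : G) = z0 := ⟨⟨z0, hZE hz0⟩, rfl⟩
  have hmemC : ∀ x : ↥E, x ∈ centralizer ({z} : Set ↥E) ↔ (x : G) ∈ centralizer (Z : Set G) := by
    intro x
    rw [mem_centralizer_singleton_iff]
    constructor
    · intro h
      refine L.mem_of_comm Nat.prime_three hz0 hz01 ?_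
      rw [← hz]
      exact (congrArg Subtype.val h).symm
    · intro h
      apply Subtype.ext
      have h1 := mem_centralizer_iff.1 h z0 hz0
      change (x : G) * z = z * x
      rw [hz]
      exact h1.symm
  have hmapC : (centralizer ({z} : Set ↥E)).map E.subtype = E ⊓ centralizer (Z : Set G) := by
    ext x
    constructor
    · rintro ⟨y, hy, rfl⟩
      exact ⟨y.2, (hmemC y).1 hy⟩
    · rintro ⟨hxE, hxC⟩
      exact ⟨⟨x, hxE⟩, (hmemC ⟨x, hxE⟩).2 hxC, rfl⟩
  have hcardC : Nat.card (centralizer ({z} : Set ↥E)) = Nat.card (E ⊓ centralizer (Z : Set G) : Subgroup G) := by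
    rw [← hmapC, Subgroup.card_map_of_injective E.subtype_injective]
  have hcdvd : Nat.card (centralizer ({z} : Set ↥E)) ∣ Nat.card (centralizer (Z : Set G)) := by
    rw [hcardC]
    exact Subgroup.card_dvd_of_le inf_le_right
  have hc23 := hcdvd.trans (FrameL.card_C F)
  -- a Sylow subgroup
  have hQp : IsPGroup 3 ↥(Q.subgroupOf E) :=
    (IsPGroup.of_card F.cardQ).of_equiv (Subgroup.subgroupOfEquivOfLe hQE).symm
  obtain ⟨T, hT⟩ := hQp.exists_le_sylow
  obtain ⟨k, hk⟩ := IsPGroup.iff_card.1 T.isPGroup'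
  have hTG : IsPGroup 3 ↥((T : Subgroup ↥E).map E.subtype) := T.isPGroup'.map E.subtype
  have hQT : Q ≤ (T : Subgroup ↥E).map E.subtype := by
    intro q hq
    exact ⟨⟨q, hQE hq⟩, hT hq, rfl⟩
  have hTC : (T : Subgroup ↥E).map E.subtype ≤ centralizer (Z : Set G) := L.le_cent Nat.prime_three hTG hQT
  have hTcard : Nat.card ((T : Subgroup ↥E).map E.subtype) = 3 ^ k := by
    rw [Subgroup.card_map_of_injective E.subtype_injective, hk]
  have hTz : (T : Subgroup ↥E) ≤ centralizer ({z} : Set ↥E) := by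
    intro x hx
    exact (hmemC x).2 (hTC ⟨x, hx, rfl⟩)
  have hkE : 3 ^ k ∣ Nat.card ↥E := by
    rw [← hk]
    exact Subgroup.card_subgroup_dvd_card _
  have hidx : ¬ 3 ∣ (T : Subgroup ↥E).index := T.not_dvd_index
  have hEcard : Nat.card ↥E = 3 ^ k * (T : Subgroup ↥E).index := by
    rw [← hk, Subgroup.card_mul_index]
  have hk9 : 9 ≤ k := by
    have h1 : 3 ^ 9 ∣ Nat.card ↥E := (S.nine_dvd hQE).trans (Subgroup.card_dvd_of_le inf_le_left)
    rw [hEcard] at h1
    have h2 : Nat.Coprime (3 ^ 9) (T : Subgroup ↥E).index :=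
      Nat.Coprime.pow_left _ ((Nat.Prime.coprime_iff_not_dvd Nat.prime_three).2 hidx)
    exact (Nat.pow_dvd_pow_iff_le_right (by norm_num)).1 (h2.dvd_of_dvd_mul_right h1)
  have hkc : 3 ^ k ∣ Nat.card (centralizer ({z} : Set ↥E)) := by
    rw [← hk]
    exact Subgroup.card_dvd_of_le hTz
  have hk11 : k ≤ 11 := by
    have h1 := hkc.trans hc23
    have h2 : Nat.Coprime (3 ^ k) (2 ^ 10) := Nat.Coprime.pow _ _ (by norm_num)
    exact (Nat.pow_dvd_pow_iff_le_right (by norm_num)).1 (h2.dvd_of_dvd_mul_left h1)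
  have hz01o : orderOf z0 = 3 := orderOf_eq_prime (FrameL.cubeZ F hz0) hz01
  have hzo : orderOf z = 3 := by
    rw [← Subgroup.orderOf_coe, hz, hz01o]
  refine ⟨z, k, ⟨hk9, hk11, hkE, ?_, hzo, hkc, hc23, ?_, ?_, ?_, hm7, ?_, ?_⟩, hcardC, hcdvd⟩
  · -- the exact power
    intro h1
    rw [hEcard, pow_succ] at h1
    exact hidx (Nat.dvd_of_mul_dvd_mul_left (by positivity) h1)
  · -- abelian subgroups
    intro A hA hab
    obtain ⟨P, hP⟩ := hA.exists_le_sylow
    obtain ⟨x, hx⟩ := MulAction.exists_smul_eq ↥E P T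
    have h1 : ∀ a ∈ A, x * a * x⁻¹ ∈ (T : Subgroup ↥E) := by
      intro a ha
      rw [← hx]
      exact Subgroup.smul_mem_pointwise_smul a (MulAut.conj x) (P : Subgroup ↥E) (hP ha)
    have h2 := FrameL.ab_le F hTC hQT (A := (A.map (MulAut.conj x).toMonoidHom).map E.subtype) (by
      rintro _ ⟨_, ⟨a, ha, rfl⟩, rfl⟩
      exact ⟨_, h1 a ha, rfl⟩) (by
      rintro _ ⟨_, ⟨a, ha, rfl⟩, rfl⟩ _ ⟨_, ⟨b, hb, rfl⟩, rfl⟩
      rw [← map_mul, ← map_mul, hab a ha b hb, map_mul, map_mul])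
    rw [hTcard, Subgroup.card_map_of_injective E.subtype_injective,
      Subgroup.card_map_of_injective (MulAut.conj x).injective] at h2
    exact h2
  · -- uniqueness
    intro y hy hky
    obtain ⟨R, hR⟩ := Sylow.exists_subgroup_card_pow_prime 3 hky
    have hRcard : Nat.card (R.map (centralizer ({y} : Set ↥E)).subtype) = 3 ^ k := by
      rw [Subgroup.card_map_of_injective (Subgroup.subtype_injective _), hR]
    have hRp : IsPGroup 3 ↥(R.map (centralizer ({y} : Set ↥E)).subtype) := IsPGroup.of_card hRcard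
    obtain ⟨P, hP⟩ := hRp.exists_le_sylow
    have hPR : R.map (centralizer ({y} : Set ↥E)).subtype = (P : Subgroup ↥E) := by
      refine Subgroup.eq_of_le_of_card_ge hP ?_
      rw [hRcard]
      have h1 : Nat.card ↥(P : Subgroup ↥E) = Nat.card ↥(T : Subgroup ↥E) := Nat.card_congr (P.equiv T).toEquiv
      rw [h1, hk]
    obtain ⟨x, hx⟩ := MulAction.exists_smul_eq ↥E P T
    -- `x y x⁻¹` centralizes `T`
    have h1 : ∀ t ∈ (T : Subgroup ↥E), t * (x * y * x⁻¹) = (x * y * x⁻¹) * t := by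
      intro t ht
      rw [← hx] at ht
      obtain ⟨p, hp, hpt⟩ := (Subgroup.mem_smul_pointwise_iff_exists t (MulAut.conj x) (P : Subgroup ↥E)).1 ht
      rw [← hPR] at hp
      obtain ⟨r, -, hr⟩ := hp
      have h2 : p * y = y * p := by
        rw [← hr]
        exact mem_centralizer_singleton_iff.1 r.2
      have h3 : t = x * p * x⁻¹ := hpt.symm
      rw [h3]
      calc x * p * x⁻¹ * (x * y * x⁻¹) = x * (p * y) * x⁻¹ := by group
        _ = x * (y * p) * x⁻¹ := by rw [h2]
        _ = x * y * x⁻¹ * (x * p * x⁻¹) := by group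
    have h2 : ((x * y * x⁻¹ : ↥E) : G) ∈ Z := by
      refine L.center_of_le hQT ?_
      rintro _ ⟨t, ht, rfl⟩
      exact congrArg Subtype.val (h1 t ht)
    have h3 : x * y * x⁻¹ ≠ 1 := by
      intro h4
      have h5 : y = 1 := by
        calc y = x⁻¹ * (x * y * x⁻¹) * x := by group
          _ = 1 := by rw [h4]; group
      rw [h5, orderOf_one] at hy
      omega
    have h4 : x * y * x⁻¹ = z ∨ x * y * x⁻¹ = z⁻¹ := by
      have h5 : ((x * y * x⁻¹ : ↥E) : G) ∈ zpowers z0 := by rw [← hZz]; exact h2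
      have hfin0 : IsOfFinOrder z0 := isOfFinOrder_of_finite z0
      obtain ⟨n, hn, hn'⟩ := (hfin0.mem_zpowers_iff_mem_range_orderOf.1 h5 : _) |> Finset.mem_image.1
      rw [Finset.mem_range, hz01o] at hn
      have hn2 : n = 0 ∨ n = 1 ∨ n = 2 := by omega
      rcases hn2 with rfl | rfl | rfl
      · exfalso
        apply h3
        apply Subtype.ext
        rw [← hn', pow_zero]
        rfl
      · left
        apply Subtype.ext
        rw [← hn', pow_one, hz]
      · right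
        apply Subtype.ext
        rw [← hn']
        change z0 ^ 2 = (z : G)⁻¹
        rw [hz]
        refine eq_inv_of_mul_eq_one_left ?_
        rw [← pow_succ]
        exact FrameL.cubeZ F hz0
    rcases h4 with h5 | h5
    · left; exact isConj_iff.2 ⟨x, h5⟩
    · right; exact isConj_iff.2 ⟨x, h5⟩
  · -- the automorphism group
    rw [mul_comm, Subgroup.card_mul_index]
    have hinj : Function.Injective (MulAut.conjNormal (H := E) : G →* MulAut ↥E) := by
      rw [← MonoidHom.ker_eq_bot_iff, eq_bot_iff]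
      intro x hx
      rw [← hCE]
      refine mem_centralizer_iff.2 fun y hy => ?_
      have h1 : (MulAut.conjNormal x : MulAut ↥E) ⟨y, hy⟩ = ⟨y, hy⟩ := by
        have : (MulAut.conjNormal x : MulAut ↥E) = 1 := hx
        rw [this]
        rfl
      have h2 : x * y * x⁻¹ = y := congrArg Subtype.val h1
      exact (mul_inv_eq_iff_eq_mul.1 h2).symm
    have hfin : Finite (MulAut ↥E) := inferInstance
    exact Subgroup.card_dvd_of_injective _ hinj
  · -- the 2-part
    refine hm.trans ?_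
    have h1 := Subgroup.card_mul_index (E.subgroupOf (centralizer (Z : Set G)))
    have h2 : Nat.card (E.subgroupOf (centralizer (Z : Set G))) = Nat.card (centralizer ({z} : Set ↥E)) := by
      rw [hcardC, ← Subgroup.card_map_of_injective (Subgroup.subtype_injective (centralizer (Z : Set G))),
        Subgroup.subgroupOf_map_subtype]
    rw [← h1, h2, mul_comm]
    refine Nat.mul_dvd_mul_right ?_ _
    exact Subgroup.relIndex_dvd_index_of_normal E (centralizer (Z : Set G))
  · -- the involution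
    intro hidx1
    have hEtop : ∀ x : G, x ∈ E := by
      have h1 : E = ⊤ := Subgroup.index_eq_one.1 hidx1
      intro x
      rw [h1]
      trivial
    have he1 : e 0 ≠ 1 := by
      intro h1
      obtain ⟨x, hx, hxZ⟩ := FrameL.exists_not_mem F 0
      have h2 := F.einv 0 x hx
      rw [h1] at h2
      have h3 : 1 * x * 1⁻¹ * x = x * x := by group
      rw [h3] at h2
      exact hxZ (FrameL.mem_of_sq F (F.UleQ 0 hx) h2)
    have hWQ : U 1 ⊔ U 2 ≤ Q := sup_le (F.UleQ 1) (F.UleQ 2)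
    have hWcard := FrameL.card_sup F (i := 1) (j := 2) (by decide)
    refine ⟨⟨e 0, hEtop _⟩, ?_, (U 1 ⊔ U 2).subgroupOf E, ?_, ?_, ?_, ?_⟩
    · rw [Subgroup.orderOf_mk]
      exact orderOf_eq_prime (by rw [pow_two]; exact F.e2 0) he1
    · intro w hw
      rw [mem_centralizer_singleton_iff]
      apply Subtype.ext
      change (w : G) * e 0 = e 0 * w
      have h1 : U 1 ⊔ U 2 ≤ centralizer {e 0} := by
        refine sup_le ?_ ?_
        · intro x hx
          rw [mem_centralizer_singleton_iff]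
          exact (mul_inv_eq_iff_eq_mul.1 (F.eU 0 1 (by decide) x hx)).symm
        · intro x hx
          rw [mem_centralizer_singleton_iff]
          exact (mul_inv_eq_iff_eq_mul.1 (F.eU 0 2 (by decide) x hx)).symm
      exact mem_centralizer_singleton_iff.1 (h1 hw)
    · rw [Nat.card_congr (Subgroup.subgroupOfEquivOfLe (fun x _ => hEtop x)).toEquiv]
      exact hWcard
    · intro x hx
      exact Subtype.ext (F.exp x (hWQ hx))
    · intro A hAW hab
      have h1 := FrameL.abel F (W := U 1 ⊔ U 2) (B := A.map E.subtype) hWQ ((F.ZleU 1).trans le_sup_left) ?_ ?_ ?_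
      · rw [hWcard, Subgroup.card_map_of_injective E.subtype_injective] at h1
        by_contra hcon
        push Not at hcon
        have h2 : 28 * 28 ≤ Nat.card A * Nat.card A := Nat.mul_le_mul hcon hcon
        norm_num at h1 h2
        omega
      · intro x hx hxc
        refine FrameL.mem_Z_of_comm F fun l u hu => ?_
        have hl : l = 0 ∨ l = 1 ∨ l = 2 := by
          have h0 : ∀ i : Fin 3, i = 0 ∨ i = 1 ∨ i = 2 := by decide
          exact h0 l
        rcases hl with rfl | rfl | rfl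
        · have h2 : U 1 ⊔ U 2 ≤ centralizer {u} := by
            refine sup_le ?_ ?_
            · intro y hy
              exact mem_centralizer_singleton_iff.2 (F.comm 1 0 (by decide) y hy u hu)
            · intro y hy
              exact mem_centralizer_singleton_iff.2 (F.comm 2 0 (by decide) y hy u hu)
          exact mem_centralizer_singleton_iff.1 (h2 hx)
        · exact hxc u ((le_sup_left (a := U 1)) hu)
        · exact hxc u ((le_sup_right (a := U 1)) hu)
      · rintro _ ⟨a, ha, rfl⟩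
        exact hAW ha
      · rintro _ ⟨a, ha, rfl⟩ _ ⟨b, hb, rfl⟩
        exact congrArg Subtype.val (hab a ha b hb)

end Setup

end Cfsg.Agent.H349.T3
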