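import Cfsg.Agent.H349.T3.FrameP
import Cfsg.Agent.H349.T3.QleE2
import Cfsg.Agent.H349.T3.Card
import Cfsg.Agent.H349.T3.CandOf

/-!
# Consequences of the local data of S3368 (helper349)
-/

set_option autoImplicit false

namespace Cfsg.Agent.H349.T3

open Cfsg Cfsg.Agent.H341.Weak Cfsg.Agent.H261 Subgroup

universe u

set_option maxRecDepth 100000 in
theorem sl23_exp : ∀ a : Matrix.SpecialLinearGroup (Fin 2) (ZMod 3), a ^ 12 = 1 := by
  decide +kernel

set_option maxRecDepth 100000 in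
theorem sl23_four : ∀ a b : Matrix.SpecialLinearGroup (Fin 2) (ZMod 3), a ^ 4 = 1 → b ^ 4 = 1 → (a * b) ^ 4 = 1 := by
  decide +kernel

theorem sl23_pow {a : Matrix.SpecialLinearGroup (Fin 2) (ZMod 3)} {n : ℕ} (h : a ^ (2 ^ n) = 1) : a ^ 4 = 1 := by
  have h1 := orderOf_dvd_of_pow_eq_one h
  have h2 := orderOf_dvd_of_pow_eq_one (sl23_exp a)
  obtain ⟨k, -, hk⟩ := (Nat.dvd_prime_pow Nat.prime_two).1 h1
  apply orderOf_dvd_iff_pow_eq_one.1
  rw [hk] at h2 ⊢
  by_contra hcon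
  have h3 : 3 ≤ k := by
    by_contra hlt
    apply hcon
    exact pow_dvd_pow 2 (show k ≤ 2 by omega)
  have h4 : 2 ^ 3 ∣ 12 := (pow_dvd_pow 2 h3).trans h2
  omega

theorem perm_three : ∀ (p : Equiv.Perm (Fin 3)) (i j k : Fin 3), (p ^ 3 = 1 ∧ p i ≠ i) → ∃ n : Fin 3, (p ^ (n : ℕ)) j = k := by
  decide

namespace FrameP

variable {G : Type u} [Group G] {Z Q : Subgroup G} {U : Fin 3 → Subgroup G} {e : Fin 3 → G}
  {P : Subgroup G} (S : FrameP Z Q U e P)
include S

theorem PK : P ≤ FrameL.K S.toFrame := by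
  intro x hx
  refine ⟨S.PC hx, fun i u => ⟨fun hu => S.PU x hx i u hu, fun hu => ?_⟩⟩
  have h1 := S.PU x⁻¹ (P.inv_mem hx) i _ hu
  have h2 : x⁻¹ * (x * u * x⁻¹) * x⁻¹⁻¹ = u := by group
  rwa [h2] at h1

theorem seven [Finite G] : 2 ^ 7 ∣ Nat.card (centralizer (Z : Set G)) := by
  have h1 := card_dvd_of_le S.PC
  rw [S.cardP] at h1
  exact (Dvd.intro _ rfl).trans h1

/-- elements of `K` whose fourth powers lie in `Q` lie in `P` -/
theorem mem_P {x : G} (hx : x ∈ FrameL.K S.toFrame) (h4 : x ^ 4 ∈ Q) : x ∈ P := by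
  obtain ⟨σ, hσ, -⟩ := FrameL.exists_sl3 S.toFrame
  have hiff : ∀ k : ↥(FrameL.K S.toFrame), (k : G) ^ 4 ∈ Q ↔ ∀ i, σ i k ^ 4 = 1 := by
    intro k
    constructor
    · intro h i
      rw [← map_pow]
      exact (hσ i _).2 fun u hu => S.comZ _ h u (S.UleQ i hu)
    · intro h
      apply FrameL.kernel S.toFrame
      intro i
      exact (hσ i (k ^ 4)).1 (by rw [map_pow]; exact h i)
  let R : Subgroup G :=
    { carrier := {y | y ∈ FrameL.K S.toFrame ∧ y ^ 4 ∈ Q}
      mul_mem' := by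
        rintro a b ⟨ha, ha4⟩ ⟨hb, hb4⟩
        refine ⟨mul_mem ha hb, ?_⟩
        have h1 := (hiff ⟨a, ha⟩).1 ha4
        have h2 := (hiff ⟨b, hb⟩).1 hb4
        exact (hiff (⟨a, ha⟩ * ⟨b, hb⟩)).2 fun i => by
          rw [map_mul]
          exact sl23_four _ _ (h1 i) (h2 i)
      one_mem' := ⟨one_mem _, by rw [one_pow]; exact one_mem _⟩
      inv_mem' := by
        rintro a ⟨ha, ha4⟩
        exact ⟨inv_mem ha, by rw [inv_pow]; exact inv_mem ha4⟩ }
  have hR : R ≤ P := by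
    apply S.Pmax
    · intro q hq
      exact ⟨FrameL.QleK S.toFrame hq, Q.pow_mem hq 4⟩
    · intro y hy
      exact hy.1.1
    · rintro c hc y ⟨hy, hy4⟩
      refine ⟨?_, ?_⟩
      · refine ⟨(centralizer (Z : Set G)).mul_mem ((centralizer (Z : Set G)).mul_mem hc hy.1)
          ((centralizer (Z : Set G)).inv_mem hc), ?_⟩
        obtain ⟨s, hs⟩ := S.perm c hc
        have key : ∀ w, (w = y ∨ w = y⁻¹) → ∀ i, ∀ u ∈ U i, (c * w * c⁻¹) * u * (c * w * c⁻¹)⁻¹ ∈ U i := by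
          intro w hw i u hu
          -- `u = c v c⁻¹` with `v ∈ U (s⁻¹ i)`
          obtain ⟨t, ht⟩ := S.perm c⁻¹ ((centralizer (Z : Set G)).inv_mem hc)
          have hst : s (t i) = i := by
            by_contra hne
            obtain ⟨x, hx, hxZ⟩ := FrameL.exists_not_mem S.toFrame i
            apply hxZ
            have h1 := hs _ _ (ht i x hx)
            have h2 : c * (c⁻¹ * x * c⁻¹⁻¹) * c⁻¹ = x := by group
            rw [h2] at h1
            exact FrameL.inf S.toFrame hne h1 hx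
          have hv := ht i u hu
          have hwK : w ∈ FrameL.K S.toFrame := by
            rcases hw with rfl | rfl
            · exact hy
            · exact inv_mem hy
          have h3 := (hwK.2 (t i) _).1 hv
          have h4 := hs _ _ h3
          rw [hst] at h4
          have h5 : c * (w * (c⁻¹ * u * c⁻¹⁻¹) * w⁻¹) * c⁻¹ = (c * w * c⁻¹) * u * (c * w * c⁻¹)⁻¹ := by group
          rwa [h5] at h4
        intro i u
        refine ⟨key y (Or.inl rfl) i u, fun hu => ?_⟩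
        have h6 := key y⁻¹ (Or.inr rfl) i _ hu
        have h7 : c * y⁻¹ * c⁻¹ * (c * y * c⁻¹ * u * (c * y * c⁻¹)⁻¹) * (c * y⁻¹ * c⁻¹)⁻¹ = u := by group
        rwa [h7] at h6
      · rw [conj_pow]
        exact S.conjQ c hc _ hy4
    · rintro y ⟨-, hy4⟩
      exact ⟨2, hy4⟩
  exact hR ⟨hx, h4⟩

/-- `2^9` does not divide `|C(Z)|` -/
theorem not_nine [Finite G] : ¬ 2 ^ 9 ∣ Nat.card (centralizer (Z : Set G)) := by
  intro h9
  have hp2 : Fact (Nat.Prime 2) := ⟨Nat.prime_two⟩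
  have F := S.toFrame
  obtain ⟨π, -, hπ⟩ := FrameL.exists_perm S.toFrame
  have h1 := card_mul_index π.ker
  rw [index_ker] at h1
  have h2 : Nat.card ↥π.ker = Nat.card (FrameL.K S.toFrame) := by
    rw [hπ]
    exact Nat.card_congr (subgroupOfEquivOfLe (FrameL.KleC S.toFrame)).toEquiv
  have h3 : Nat.card ↥π.range ∣ 2 * 3 := by
    have h4 := card_subgroup_dvd_card π.range
    rw [Nat.card_perm, Nat.card_fin] at h4
    exact h4
  have h5 : 2 ^ 9 ∣ Nat.card (FrameL.K S.toFrame) * (2 * 3) := by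
    rw [← h2]
    exact (h1 ▸ h9).trans (mul_dvd_mul_left _ h3)
  have h6 : 2 ^ 8 ∣ Nat.card (FrameL.K S.toFrame) := by
    have h7 : 2 ^ 8 * 2 ∣ Nat.card (FrameL.K S.toFrame) * 3 * 2 := by
      have h8 : Nat.card (FrameL.K S.toFrame) * 3 * 2 = Nat.card (FrameL.K S.toFrame) * (2 * 3) := by ring
      rw [h8]
      exact h5
    have h8 := Nat.dvd_of_mul_dvd_mul_right (by norm_num) h7
    exact Nat.Coprime.dvd_of_dvd_mul_right (by norm_num) h8
  obtain ⟨T, hT⟩ := Sylow.exists_subgroup_card_pow_prime 2 h6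
  obtain ⟨σ, hσ, -⟩ := FrameL.exists_sl3 S.toFrame
  have hTP : T.map (FrameL.K S.toFrame).subtype ≤ P := by
    rintro _ ⟨x, hx, rfl⟩
    apply S.mem_P x.2
    have hx8 : x ^ (2 ^ 8) = 1 := by
      have := pow_card_eq_one' (x := (⟨x, hx⟩ : ↥T))
      rw [hT] at this
      exact congrArg Subtype.val this
    apply FrameL.kernel S.toFrame
    intro i
    refine (hσ i (x ^ 4)).1 ?_
    rw [map_pow]
    apply sl23_pow (n := 8)
    rw [← map_pow, hx8, map_one]
  have h10 := card_dvd_of_le hTP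
  rw [card_map_of_injective Subtype.val_injective, hT, S.cardP] at h10
  exact absurd h10 (by norm_num)

/-- if the blocks are moved then `P` acts on every block with elements of order four -/
theorem exists_four [Finite G] (mov : ∃ c ∈ centralizer (Z : Set G), c ^ 3 = 1 ∧ ∃ i, ∃ u ∈ U i, c * u * c⁻¹ ∉ U i)
    (i : Fin 3) : ∃ p ∈ P, ∃ u ∈ U i, p ^ 2 * u * (p ^ 2)⁻¹ * u⁻¹ ∉ Z := by
  classical
  by_contra hcon
  push Not at hcon
  have F := S.toFrame
  obtain ⟨π, hπU, -⟩ := FrameL.exists_perm S.toFrame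
  obtain ⟨c, hc, hc3, i0, u0, hu0, hcu0⟩ := mov
  have hp3 : π ⟨c, hc⟩ ^ 3 = 1 := by
    rw [← map_pow]
    have : (⟨c, hc⟩ : ↥(centralizer (Z : Set G))) ^ 3 = 1 := Subtype.ext hc3
    rw [this, map_one]
  have hpi : π ⟨c, hc⟩ i0 ≠ i0 := by
    intro h
    apply hcu0
    have := (hπU ⟨c, hc⟩ i0 u0).1 hu0
    rwa [h] at this
  have hall : ∀ j, ∀ p ∈ P, ∀ u ∈ U j, p ^ 2 * u * (p ^ 2)⁻¹ * u⁻¹ ∈ Z := by
    intro j p hp u hu
    obtain ⟨n, hn⟩ := perm_three _ i0 i j ⟨hp3, hpi⟩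
    obtain ⟨d, hd⟩ : ∃ d, d = (⟨c, hc⟩ : ↥(centralizer (Z : Set G))) ^ (n : ℕ) := ⟨_, rfl⟩
    have hdi : π d i = j := by rw [hd, map_pow]; exact hn
    have hv : (d : G)⁻¹ * u * d ∈ U i := by
      rw [hπU d i, hdi]
      have : (d : G) * ((d : G)⁻¹ * u * d) * (d : G)⁻¹ = u := by group
      rwa [this]
    have hw : (d : G)⁻¹ * p * d ∈ P := by
      have := S.Pn (d : G)⁻¹ ((centralizer (Z : Set G)).inv_mem d.2) p hp
      rwa [inv_inv] at this
    have h1 := hcon _ hw _ hv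
    have h2 : p ^ 2 * u * (p ^ 2)⁻¹ * u⁻¹ = (d : G) * (((d : G)⁻¹ * p * d) ^ 2 * ((d : G)⁻¹ * u * d) *
        (((d : G)⁻¹ * p * d) ^ 2)⁻¹ * ((d : G)⁻¹ * u * d)⁻¹) * (d : G)⁻¹ := by
      simp only [pow_succ, pow_zero, one_mul]
      group
    rw [h2, FrameL.conjZ S.toFrame h1 d.2]
    exact h1
  obtain ⟨σ, hσ, -⟩ := FrameL.exists_sl3 S.toFrame
  let φ : ↥P →* (Fin 3 → Matrix.SpecialLinearGroup (Fin 2) (ZMod 3)) :=
    { toFun := fun k j => σ j (inclusion S.PK k)
      map_one' := by funext j; rw [map_one, map_one]; rfl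
      map_mul' := fun a b => by
        funext j
        rw [map_mul, map_mul]
        rfl }
  have hφ2 : ∀ k j, φ k j = 1 ∨ φ k j = -1 := by
    intro k j
    apply sl23_sq
    have h1 : σ j ((inclusion S.PK k) ^ 2) = 1 := (hσ j _).2 fun u hu => hall j k k.2 u hu
    rw [map_pow, pow_two] at h1
    exact h1
  have hker : Nat.card φ.ker ≤ 3 ^ 7 := by
    have h1 : φ.ker.map P.subtype ≤ Q := by
      rintro _ ⟨k, hk, rfl⟩
      apply FrameL.kernel S.toFrame
      intro j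
      exact (hσ j (inclusion S.PK k)).1 (congrFun hk j)
    have h2 := card_dvd_of_le h1
    rw [card_map_of_injective Subtype.val_injective, S.cardQ] at h2
    exact Nat.le_of_dvd (by norm_num) h2
  have hrange : Nat.card φ.range ≤ 8 := by
    let g : ↥φ.range → (Fin 3 → Bool) := fun f j => decide (f.1 j = 1)
    have hg : Function.Injective g := by
      rintro ⟨_, a, rfl⟩ ⟨_, b, rfl⟩ hab
      apply Subtype.ext
      funext j
      change φ a j = φ b j
      have h1 : decide (φ a j = 1) = decide (φ b j = 1) := congrFun hab j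
      have h2 : φ a j = 1 ↔ φ b j = 1 := by simpa using h1
      rcases hφ2 a j with h3 | h3
      · rw [h3]; exact (h2.1 h3).symm
      · rcases hφ2 b j with h4 | h4
        · rw [h4]; exact h2.2 h4
        · rw [h3, h4]
    have h1 := Nat.card_le_card_of_injective g hg
    have h2 : Nat.card (Fin 3 → Bool) = 8 := by
      rw [Nat.card_eq_fintype_card]
      rfl
    rwa [h2] at h1
  have h1 := card_mul_index φ.ker
  rw [index_ker, S.cardP] at h1
  have h2 := Nat.mul_le_mul hker hrange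
  rw [h1] at h2
  norm_num at h2

/-- **irreducibility** -/
theorem setup [Finite G] (mov : ∃ c ∈ centralizer (Z : Set G), c ^ 3 = 1 ∧ ∃ i, ∃ u ∈ U i, c * u * c⁻¹ ∉ U i)
    (fus : ∃ g : G, (∀ x ∈ Z, g * x * g⁻¹ ∈ Q) ∧ ¬ ∀ x ∈ Z, g * x * g⁻¹ ∈ Z) : Setup Z Q U e := by
  refine ⟨S.toFrame, S.fs, ?_, fus⟩
  rintro i A hZA hA ⟨x, hxA, hx, hxZ⟩
  have F := S.toFrame
  obtain ⟨p, hp, u, hu, hpu⟩ := S.exists_four mov i
  -- `p ^ 2` inverts the block
  have hinv : ∀ v ∈ U i, p ^ 2 * v * (p ^ 2)⁻¹ * v ∈ Z := by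
    obtain ⟨σ, hσ, hσ'⟩ := FrameL.exists_sl3 S.toFrame
    obtain ⟨k, hk⟩ : ∃ k : ↥(FrameL.K S.toFrame), k = ⟨p, S.PK hp⟩ := ⟨_, rfl⟩
    have h4 : σ i (k ^ 4) = 1 := (hσ i _).2 fun v hv => by
      rw [hk]
      exact S.P4 p hp i v hv
    have h2 : σ i (k ^ 2) = 1 ∨ σ i (k ^ 2) = -1 := by
      apply sl23_sq
      rw [← map_mul, ← pow_add]
      exact h4
    rcases h2 with h2 | h2
    · exfalso
      have := (hσ i _).1 h2 u hu
      rw [hk] at this
      exact hpu this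
    · have := (hσ' i _).1 h2
      rw [hk] at this
      exact this
  obtain ⟨y, hy⟩ : ∃ y, y = p * x * p⁻¹ := ⟨_, rfl⟩
  have hyU : y ∈ U i := hy ▸ S.PU p hp i x hx
  have hyA : y ∈ A := hy ▸ hA p (S.PC hp) x hxA
  by_cases hxy : x * y = y * x
  · exfalso
    apply hxZ
    obtain ⟨v, hv, hxv⟩ : ∃ v ∈ U i, x * v ≠ v * x := by
      by_contra hcon
      push Not at hcon
      exact hxZ (FrameL.cenU F hx hcon)
    obtain ⟨w, hw⟩ : ∃ w, w = v * x * v⁻¹ * x⁻¹ := ⟨_, rfl⟩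
    have hwZ : w ∈ Z := hw ▸ F.comZ v (F.UleQ i hv) x (F.UleQ i hx)
    have hw1 : w ≠ 1 := by
      rw [hw]
      intro h
      exact hxv (mul_inv_eq_iff_eq_mul.1 (mul_inv_eq_one.1 h)).symm
    have hvx : v * x = w * x * v := by rw [hw]; group
    obtain ⟨w', hw'⟩ : ∃ w', w' = v * y * v⁻¹ * y⁻¹ := ⟨_, rfl⟩
    have hwZ' : w' ∈ Z := hw' ▸ F.comZ v (F.UleQ i hv) y (F.UleQ i hyU)
    have hvy : v * y = w' * y * v := by rw [hw']; group
    have hZw : Z ≤ zpowers w := eq_of_mem_of_card_prime Nat.prime_three F.cardZ hwZ hw1 (mem_zpowers w)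
    obtain ⟨n, hn⟩ := mem_zpowers_iff.1 (hZw hwZ')
    -- `y x⁻ⁿ` is central
    have hvxn : ∀ n : ℤ, v * x ^ n = w ^ n * x ^ n * v := by
      intro n
      have h1 : v * x * v⁻¹ = w * x := by rw [hw]; group
      have h2 : Commute w x := FrameL.zc F hwZ (FrameL.UleC F i hx)
      have h3 : v * x ^ n * v⁻¹ = w ^ n * x ^ n := by rw [← conj_zpow, h1, h2.mul_zpow]
      calc v * x ^ n = (v * x ^ n * v⁻¹) * v := by group
        _ = _ := by rw [h3]
    obtain ⟨r, hr⟩ : ∃ r, r = y * x ^ (-n) := ⟨_, rfl⟩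
    have hrU : r ∈ U i := hr ▸ (U i).mul_mem hyU ((U i).zpow_mem hx _)
    have hrx : r * x = x * r := by
      have h1 : Commute x y := hxy
      rw [hr]
      exact ((h1.symm).mul_left ((Commute.refl x).zpow_left (-n))).eq
    have hrv : v * r = r * v := by
      have h2 : Commute (w ^ (-n)) y := (show Commute w y from FrameL.zc F hwZ (FrameL.UleC F i hyU)).zpow_left (-n)
      calc v * r = (v * y) * x ^ (-n) := by rw [hr]; group
        _ = w' * y * (v * x ^ (-n)) := by rw [hvy]; group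
        _ = w' * y * (w ^ (-n) * x ^ (-n) * v) := by rw [hvxn]
        _ = w' * (y * w ^ (-n)) * x ^ (-n) * v := by group
        _ = w' * (w ^ (-n) * y) * x ^ (-n) * v := by rw [h2.eq]
        _ = (w ^ n * w ^ (-n)) * (y * x ^ (-n)) * v := by rw [← hn]; group
        _ = r * v := by rw [hr, zpow_neg, mul_inv_cancel, one_mul]
    have hrZ : r ∈ Z := by
      apply FrameL.cenU F hrU
      have h1 : U i ≤ (centralizer ({r} : Set G) ⊓ U i : Subgroup G) := by
        refine le_of_noncomm (F.cardU i) inf_le_right (x := x) (y := v) (z := x) ?_ ?_ hxv ?_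
        · exact ⟨mem_centralizer_singleton_iff.2 hrx.symm, hx⟩
        · exact ⟨mem_centralizer_singleton_iff.2 hrv, hv⟩
        · exact ⟨mem_centralizer_singleton_iff.2 hrx.symm, hx⟩
      intro t ht
      exact (mem_centralizer_singleton_iff.1 (h1 ht).1).symm
    -- compute with exponents
    have hyx : y = r * x ^ n := by rw [hr]; group
    have h5 : p ^ 2 * x * (p ^ 2)⁻¹ = r * r ^ n * x ^ (n * n) := by
      have h6 : p * r * p⁻¹ = r := FrameL.conjZ F hrZ (S.PC hp)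
      have h7 : Commute r (x ^ n) := (show Commute r x from hrx).zpow_right n
      calc p ^ 2 * x * (p ^ 2)⁻¹ = p * (p * x * p⁻¹) * p⁻¹ := by simp only [pow_succ, pow_zero, one_mul]; group
        _ = p * (r * x ^ n) * p⁻¹ := by rw [← hy, hyx]
        _ = (p * r * p⁻¹) * (p * x * p⁻¹) ^ n := by rw [conj_zpow]; group
        _ = r * (r * x ^ n) ^ n := by rw [h6, ← hy, hyx]
        _ = r * (r ^ n * x ^ (n * n)) := by rw [h7.mul_zpow, zpow_mul]
        _ = _ := by group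
    have h6 := hinv x hx
    rw [h5] at h6
    have h7 : x ^ (n * n + 1) ∈ Z := by
      have h8 : r * r ^ n * x ^ (n * n) * x = (r * r ^ n) * x ^ (n * n + 1) := by
        rw [zpow_add, zpow_one]; group
      rw [h8] at h6
      exact (Z.mul_mem_cancel_left (Z.mul_mem hrZ (Z.zpow_mem hrZ n))).1 h6
    have h8 : x ^ (3 : ℤ) = 1 := by
      have := F.exp x (F.UleQ i hx)
      exact_mod_cast this
    -- `n * n + 1` is prime to three
    have h9 : ∃ a : ℤ, n * n + 1 = 3 * a + 1 ∨ n * n + 1 = 3 * a + 2 := by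
      obtain ⟨b, hb | hb | hb⟩ : ∃ b : ℤ, n = 3 * b ∨ n = 3 * b + 1 ∨ n = 3 * b + 2 := ⟨n / 3, by omega⟩
      · exact ⟨3 * b * b, Or.inl (by rw [hb]; ring)⟩
      · exact ⟨3 * b * b + 2 * b, Or.inr (by rw [hb]; ring)⟩
      · exact ⟨3 * b * b + 4 * b + 1, Or.inr (by rw [hb]; ring)⟩
    obtain ⟨a, ha | ha⟩ := h9
    · rw [ha, zpow_add, zpow_mul, h8, one_zpow, one_mul, zpow_one] at h7
      exact h7
    · rw [ha, zpow_add, zpow_mul, h8, one_zpow, one_mul] at h7
      refine FrameL.mem_of_sq F (F.UleQ i hx) ?_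
      have h10 : x * x = x ^ (2 : ℤ) := by rw [zpow_two]
      rw [h10]
      exact h7
  · have h1 : U i ≤ (A ⊓ U i : Subgroup G) :=
      le_of_noncomm (F.cardU i) inf_le_right (x := x) (y := y) (z := x) ⟨hxA, hx⟩ ⟨hyA, hyU⟩ hxy ⟨hxA, hx⟩
    exact h1.trans inf_le_left

end FrameP

end Cfsg.Agent.H349.T3
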