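import Mathlib
import Cfsg.Prelude.Def_Local
import Cfsg.Agent.Lib.GenFitting
import Cfsg.Agent.Lib.Cores

/-!
# Lifting a normal 2-subgroup of a quotient by a 3-group (helper349)
-/

set_option autoImplicit false

namespace Cfsg.Agent.H349.T3

open Cfsg

/-- A complement to `Q` in the preimage of `O₂(C/Q)`. -/
theorem exists_hom {C : Type*} [Group C] [Finite C] (Q : Subgroup C) [Q.Normal] (hQ : IsPGroup 3 Q) {X : Type*}
    [Group X] (e : pCore 2 (C ⧸ Q) ≃* X) :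
    ∃ ρ : X →* C, ∀ x, QuotientGroup.mk' Q (ρ x) = (e.symm x : C ⧸ Q) := by
  classical
  have : Fact (Nat.Prime 2) := ⟨Nat.prime_two⟩
  have : Fact (Nat.Prime 3) := ⟨Nat.prime_three⟩
  let P : Subgroup C := (pCore 2 (C ⧸ Q)).comap (QuotientGroup.mk' Q)
  have hQP : Q ≤ P := by
    intro q hq
    rw [Subgroup.mem_comap]
    have : QuotientGroup.mk' Q q = 1 := (QuotientGroup.eq_one_iff q).2 hq
    rw [this]
    exact one_mem _
  let f : ↥P →* ↥(pCore 2 (C ⧸ Q)) :=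
    ((QuotientGroup.mk' Q).comp P.subtype).codRestrict _ (fun p => p.2)
  have hfs : Function.Surjective f := by
    rintro ⟨x, hx⟩
    obtain ⟨c, rfl⟩ := QuotientGroup.mk'_surjective Q x
    exact ⟨⟨c, hx⟩, rfl⟩
  have hker : f.ker = Q.subgroupOf P := by
    ext p
    rw [MonoidHom.mem_ker, Subgroup.mem_subgroupOf, ← QuotientGroup.eq_one_iff]
    exact Subtype.ext_iff
  have hcop : (Nat.card ↥(Q.subgroupOf P)).Coprime (Q.subgroupOf P).index := by
    obtain ⟨n, hn⟩ := IsPGroup.iff_card.1 hQ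
    have h1 : Nat.card ↥(Q.subgroupOf P) = 3 ^ n := by
      rw [← hn]
      exact Nat.card_congr (Subgroup.subgroupOfEquivOfLe hQP).toEquiv
    have h2 : (Q.subgroupOf P).index = Nat.card ↥(pCore 2 (C ⧸ Q)) := by
      rw [← hker, Subgroup.index_ker, MonoidHom.range_eq_top.2 hfs]
      exact Nat.card_congr Subgroup.topEquiv.toEquiv
    obtain ⟨m, hm⟩ := IsPGroup.iff_card.1 (Cfsg.Agent.Lib.Cores.pCore_isPGroup (G := C ⧸ Q) 2)
    rw [h1, h2, hm]
    exact Nat.Coprime.pow _ _ (by norm_num)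
  have hN : (Q.subgroupOf P).Normal := inferInstance
  obtain ⟨K, hK⟩ := Subgroup.exists_right_complement'_of_coprime hcop
  have hg : Function.Bijective (f.comp K.subtype) := by
    constructor
    · rw [injective_iff_map_eq_one]
      intro k hk
      have h1 : (k : ↥P) ∈ f.ker := hk
      rw [hker] at h1
      have h2 : (k : ↥P) ∈ Q.subgroupOf P ⊓ K := ⟨h1, k.2⟩
      rw [hK.isCompl.inf_eq_bot, Subgroup.mem_bot] at h2
      exact Subtype.ext h2
    · intro x
      obtain ⟨p, rfl⟩ := hfs x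
      obtain ⟨⟨n, k⟩, hnk⟩ := hK.2 p
      refine ⟨k, ?_⟩
      have h1 : f (n : ↥P) = 1 := by
        have : (n : ↥P) ∈ f.ker := by rw [hker]; exact n.2
        exact this
      have h2 : (n : ↥P) * (k : ↥P) = p := hnk
      rw [← h2, map_mul, h1, one_mul]
      rfl
  let g : ↥K ≃* ↥(pCore 2 (C ⧸ Q)) := MulEquiv.ofBijective (f.comp K.subtype) hg
  refine ⟨(P.subtype.comp K.subtype).comp (g.symm.toMonoidHom.comp e.symm.toMonoidHom), fun x => ?_⟩
  have h1 : g (g.symm (e.symm x)) = e.symm x := g.apply_symm_apply _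
  have h2 := congrArg (Subtype.val) h1
  exact h2

section

variable {C : Type*} [Group C] {Q : Subgroup C} [Q.Normal] {X : Type*} [Group X] {e : pCore 2 (C ⧸ Q) ≃* X}
  {ρ : X →* C} (hρ : ∀ x, QuotientGroup.mk' Q (ρ x) = (e.symm x : C ⧸ Q))
include hρ

theorem lift_inj {x y : X} (h : QuotientGroup.mk' Q (ρ x) = QuotientGroup.mk' Q (ρ y)) : x = y := by
  rw [hρ, hρ] at h
  exact e.symm.injective (Subtype.ext h)

theorem lift_mem (x : X) : QuotientGroup.mk' Q (ρ x) ∈ pCore 2 (C ⧸ Q) := by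
  rw [hρ]; exact (e.symm x).2

theorem lift_surj {c : C} (hc : QuotientGroup.mk' Q c ∈ pCore 2 (C ⧸ Q)) :
    ∃ x, ∃ q ∈ Q, c = ρ x * q := by
  refine ⟨e ⟨_, hc⟩, (ρ (e ⟨_, hc⟩))⁻¹ * c, ?_, by group⟩
  have h1 : QuotientGroup.mk' Q (ρ (e ⟨_, hc⟩)) = QuotientGroup.mk' Q c := by
    rw [hρ, e.symm_apply_apply]
  rw [← QuotientGroup.eq_one_iff]
  have h2 : QuotientGroup.mk' Q ((ρ (e ⟨_, hc⟩))⁻¹ * c) = 1 := by
    rw [map_mul, map_inv, h1, inv_mul_cancel]
  exact h2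

end

end Cfsg.Agent.H349.T3
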