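import Mathlib

/-!
# Faithful representations of `Q₈ × Q₈ × Q₈` of degree six (helper349)

`a i`, `b i` (`i : Fin 3`) : operators on a vector space over `ZMod 3` of dimension six with `(a i)² = (b i)² = z i`,
`(z i)² = 1`, `b i * a i = a i * b i * z i`, operators with different indices commute, and `z i ≠ 1`, `z i ≠ z j`.
Then the `-1`-eigenspaces `N i` of the `z i` are of dimension two, span the whole space, and `z j` is trivial on `N i`
(`j ≠ i`).
-/

set_option autoImplicit false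
set_option linter.unusedSectionVars false

namespace Cfsg.Agent.H349.T3.QuatRep

open Module

variable {F V : Type*} [Field F] [AddCommGroup V] [Module F V] [FiniteDimensional F V]

/-- splitting a subspace by an involution and an operator anticommuting with it -/
theorem split (h2 : (2 : F) ≠ 0) (M : Submodule F V) (s x : Module.End F V) (hs : ∀ v ∈ M, s v ∈ M)
    (hss : ∀ v ∈ M, s (s v) = v) (hx : ∀ v ∈ M, x v ∈ M) (hxi : ∀ v ∈ M, x v = 0 → v = 0)
    (hsx : ∀ v ∈ M, s (x v) = -x (s v)) (hM : ∃ v ∈ M, v ≠ 0) :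
    ∃ E : Submodule F V, (∀ v, v ∈ E ↔ v ∈ M ∧ s v = v) ∧ (∃ v ∈ E, v ≠ 0) ∧ 2 * finrank F E ≤ finrank F M := by
  let E : Submodule F V := M ⊓ LinearMap.ker (s - 1)
  have hE : ∀ v, v ∈ E ↔ v ∈ M ∧ s v = v := by
    intro v
    rw [Submodule.mem_inf, LinearMap.mem_ker, LinearMap.sub_apply, Module.End.one_apply, sub_eq_zero]
  have hneg : ∀ v : V, v = -v → v = 0 := by
    intro v hv
    have h3 : (2 : F) • v = 0 := by rw [two_smul]; nth_rw 1 [hv]; exact neg_add_cancel v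
    exact (smul_eq_zero.1 h3).resolve_left h2
  refine ⟨E, hE, ?_, ?_⟩
  · obtain ⟨v, hv, hv0⟩ := hM
    by_cases h : v + s v = 0
    · refine ⟨x v, (hE _).2 ⟨hx v hv, ?_⟩, fun h0 => hv0 (hxi v hv h0)⟩
      have h1 : s v = -v := by rw [← add_eq_zero_iff_neg_eq.1 h]
      rw [hsx v hv, h1, map_neg, neg_neg]
    · refine ⟨v + s v, (hE _).2 ⟨M.add_mem hv (hs v hv), ?_⟩, h⟩
      rw [map_add, hss v hv, add_comm]
  · have hEM : E ≤ M := inf_le_left
    have hmap : E.map x ≤ M := by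
      rintro _ ⟨v, hv, rfl⟩
      exact hx v (hEM hv)
    have hfin : finrank F (E.map x) = finrank F E := by
      have h1 : Function.Injective (x.domRestrict E) := by
        rw [← LinearMap.ker_eq_bot, LinearMap.ker_eq_bot']
        intro v hv
        exact Subtype.ext (hxi v (hEM v.2) hv)
      have h3 := LinearMap.finrank_range_of_inj h1
      rw [← h3, LinearMap.range_domRestrict]
    have hdis : Disjoint E (E.map x) := by
      rw [Submodule.disjoint_def]
      rintro v hv ⟨w, hw, rfl⟩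
      have h1 := ((hE _).1 hv).2
      have h3 := ((hE _).1 hw).2
      rw [hsx w (hEM hw), h3] at h1
      exact hneg _ h1.symm
    have h1 := Submodule.finrank_sup_add_finrank_inf_eq E (E.map x)
    rw [hdis.eq_bot, finrank_bot, hfin, add_zero] at h1
    have h3 : finrank F ↥(E ⊔ E.map x) ≤ finrank F M := Submodule.finrank_mono (sup_le hEM hmap)
    omega

/-- operators of three commuting quaternion groups -/
structure Quat3 (a b z : Fin 3 → Module.End F V) : Prop where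
  aa : ∀ i, a i * a i = z i
  bb : ∀ i, b i * b i = z i
  zz : ∀ i, z i * z i = 1
  ba : ∀ i, b i * a i = a i * b i * z i
  caa : ∀ i j, i ≠ j → a i * a j = a j * a i
  cab : ∀ i j, i ≠ j → a i * b j = b j * a i
  cbb : ∀ i j, i ≠ j → b i * b j = b j * b i

namespace Quat3

variable {a b z : Fin 3 → Module.End F V} (h : Quat3 a b z)
include h

theorem az (i j : Fin 3) : a i * z j = z j * a i := by
  by_cases hij : i = j
  · subst hij
    rw [← h.aa i, mul_assoc]
  · rw [← h.aa j, ← mul_assoc, h.caa i j hij, mul_assoc, h.caa i j hij, mul_assoc]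

theorem bz (i j : Fin 3) : b i * z j = z j * b i := by
  by_cases hij : i = j
  · subst hij
    rw [← h.bb i, mul_assoc]
  · rw [← h.bb j, ← mul_assoc, h.cbb i j hij, mul_assoc, h.cbb i j hij, mul_assoc]

theorem zc (i j : Fin 3) : z i * z j = z j * z i := by
  by_cases hij : i = j
  · subst hij; rfl
  · rw [← h.aa i, mul_assoc, h.az, ← mul_assoc, h.az, mul_assoc]

theorem aav (i : Fin 3) (v : V) : a i (a i v) = z i v := by rw [← Module.End.mul_apply, h.aa]
theorem bbv (i : Fin 3) (v : V) : b i (b i v) = z i v := by rw [← Module.End.mul_apply, h.bb]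
theorem zzv (i : Fin 3) (v : V) : z i (z i v) = v := by rw [← Module.End.mul_apply, h.zz]; rfl
theorem bav (i : Fin 3) (v : V) : b i (a i v) = z i (a i (b i v)) := by
  rw [← Module.End.mul_apply, h.ba, ← Module.End.mul_apply, ← Module.End.mul_apply, mul_assoc, h.bz, ← mul_assoc, h.az,
    mul_assoc]
theorem azv (i j : Fin 3) (v : V) : a i (z j v) = z j (a i v) := by
  rw [← Module.End.mul_apply, h.az, Module.End.mul_apply]
theorem bzv (i j : Fin 3) (v : V) : b i (z j v) = z j (b i v) := by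
  rw [← Module.End.mul_apply, h.bz, Module.End.mul_apply]
theorem zcv (i j : Fin 3) (v : V) : z i (z j v) = z j (z i v) := by
  rw [← Module.End.mul_apply, h.zc, Module.End.mul_apply]
theorem aac (i j : Fin 3) (hij : i ≠ j) (v : V) : a i (a j v) = a j (a i v) := by
  rw [← Module.End.mul_apply, h.caa i j hij, Module.End.mul_apply]
theorem abc (i j : Fin 3) (hij : i ≠ j) (v : V) : a i (b j v) = b j (a i v) := by
  rw [← Module.End.mul_apply, h.cab i j hij, Module.End.mul_apply]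
theorem bbc (i j : Fin 3) (hij : i ≠ j) (v : V) : b i (b j v) = b j (b i v) := by
  rw [← Module.End.mul_apply, h.cbb i j hij, Module.End.mul_apply]

theorem a_inj (i : Fin 3) (v : V) (hv : a i v = 0) : v = 0 := by
  have h1 := h.aav i v
  rw [hv, map_zero] at h1
  rw [← h.zzv i v, ← h1, map_zero]

theorem b_inj (i : Fin 3) (v : V) (hv : b i v = 0) : v = 0 := by
  have h1 := h.bbv i v
  rw [hv, map_zero] at h1
  rw [← h.zzv i v, ← h1, map_zero]

/-- joint `-1`-eigenspaces have dimension at least four -/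
theorem four (h2 : (2 : F) ≠ 0) {i j : Fin 3} (hij : i ≠ j) (M : Submodule F V)
    (hMa : ∀ k, ∀ v ∈ M, a k v ∈ M) (hMb : ∀ k, ∀ v ∈ M, b k v ∈ M)
    (hi : ∀ v ∈ M, z i v = -v) (hj : ∀ v ∈ M, z j v = -v) (hM : ∃ v ∈ M, v ≠ 0) :
    ∃ E : Submodule F V, E ≤ M ∧ (∀ k, k ≠ i → k ≠ j → ∀ v ∈ E, a k v ∈ E) ∧ (∃ v ∈ E, v ≠ 0) ∧
      4 * finrank F E ≤ finrank F M := by
  obtain ⟨E, hE, hE0, hE2⟩ := split h2 M (a i * a j) (b i)
    (fun v hv => hMa _ _ (hMa _ _ hv))
    (fun v hv => by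
      rw [Module.End.mul_apply, Module.End.mul_apply, h.aac j i hij.symm, h.aav i, h.aav j, hj v hv, map_neg, hi v hv,
        neg_neg])
    (fun v hv => hMb _ _ hv) (fun v _ => h.b_inj i v)
    (fun v hv => by
      rw [Module.End.mul_apply, Module.End.mul_apply, h.abc j i hij.symm, h.bav i,
        hi _ (hMa i _ (hMb i _ (hMa j _ hv))), neg_neg]) hM
  obtain ⟨E', hE', hE0', hE2'⟩ := split h2 E (b i * b j) (a i)
    (fun v hv => by
      obtain ⟨h1, h3⟩ := (hE v).1 hv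
      refine (hE _).2 ⟨hMb _ _ (hMb _ _ h1), ?_⟩
      rw [Module.End.mul_apply, Module.End.mul_apply] at *
      have e1 : a j (b i (b j v)) = b i (a j (b j v)) := h.abc j i hij.symm _
      rw [e1]
      have e2 : a i (b i (a j (b j v))) = z i (b i (a i (a j (b j v)))) := by
        rw [h.bav i, h.zzv]
      rw [e2, hi _ (hMb _ _ (hMa _ _ (hMa _ _ (hMb _ _ h1))))]
      have e3 : a j (b j v) = z j (b j (a j v)) := by rw [h.bav j, h.zzv]
      rw [e3, hj _ (hMb _ _ (hMa _ _ h1)), map_neg, map_neg, neg_neg, h.abc i j hij, h3])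
    (fun v hv => by
      have h1 := ((hE v).1 hv).1
      rw [Module.End.mul_apply, Module.End.mul_apply, h.bbc j i hij.symm, h.bbv i, h.bbv j, hj v h1, map_neg, hi v h1,
        neg_neg])
    (fun v hv => by
      obtain ⟨h1, h3⟩ := (hE v).1 hv
      refine (hE _).2 ⟨hMa _ _ h1, ?_⟩
      rw [Module.End.mul_apply] at *
      rw [h.aac j i hij.symm, h3]) (fun v _ => h.a_inj i v)
    (fun v hv => by
      have h1 := ((hE v).1 hv).1
      rw [Module.End.mul_apply, Module.End.mul_apply, ← h.abc i j hij, h.bav i,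
        hi _ (hMa i _ (hMb i _ (hMb j _ h1)))]) hE0
  refine ⟨E', fun v hv => ((hE v).1 ((hE' v).1 hv).1).1, ?_, hE0', by omega⟩
  intro k hki hkj v hv
  obtain ⟨h1, h3⟩ := (hE' v).1 hv
  obtain ⟨h4, h5⟩ := (hE v).1 h1
  refine (hE' _).2 ⟨(hE _).2 ⟨hMa _ _ h4, ?_⟩, ?_⟩
  · rw [Module.End.mul_apply] at *
    rw [h.aac j k hkj.symm, h.aac i k hki.symm, h5]
  · rw [Module.End.mul_apply] at *
    rw [← h.abc k j hkj, ← h.abc k i hki, h3]

end Quat3

/-- two independent vectors -/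
theorem two_le {E : Submodule F V} {v w : V} (hv : v ∈ E) (hw : w ∈ E) (hv0 : v ≠ 0) (hvw : ∀ c : F, w ≠ c • v) :
    2 ≤ finrank F E := by
  have h1 : LinearIndependent F ![(⟨v, hv⟩ : E), ⟨w, hw⟩] := by
    rw [LinearIndependent.pair_iff]
    intro s t hst
    have h3 : s • v + t • w = 0 := congrArg Subtype.val hst
    have ht : t = 0 := by
      by_contra ht
      apply hvw (-(t⁻¹ * s))
      have h4 : t • w = -(s • v) := eq_neg_of_add_eq_zero_right h3
      calc w = t⁻¹ • t • w := by rw [smul_smul, inv_mul_cancel₀ ht, one_smul]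
        _ = -(t⁻¹ * s) • v := by rw [h4, smul_neg, smul_smul, neg_smul]
    rw [ht, zero_smul, add_zero] at h3
    exact ⟨(smul_eq_zero.1 h3).resolve_right hv0, ht⟩
  have := h1.fintype_card_le_finrank
  simpa using this

namespace Quat3

variable {a b z : Fin 3 → Module.End F V} (h : Quat3 a b z)
include h

/-- the `-1`-eigenspace of `z i` -/
def neg (z : Fin 3 → Module.End F V) (i : Fin 3) : Submodule F V := LinearMap.ker (z i + 1)

omit h in
theorem mem_neg {z : Fin 3 → Module.End F V} {i : Fin 3} {v : V} : v ∈ neg z i ↔ z i v = -v := by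
  rw [neg, LinearMap.mem_ker, LinearMap.add_apply, Module.End.one_apply, add_eq_zero_iff_eq_neg]

theorem a_neg (i k : Fin 3) {v : V} (hv : v ∈ neg z i) : a k v ∈ neg z i := by
  rw [mem_neg] at hv ⊢
  rw [← h.azv, hv, map_neg]

theorem b_neg (i k : Fin 3) {v : V} (hv : v ∈ neg z i) : b k v ∈ neg z i := by
  rw [mem_neg] at hv ⊢
  rw [← h.bzv, hv, map_neg]

/-- a subspace of `neg z k`, nonzero and invariant under `a k`, has dimension at least two -/
theorem two_of (hsq : ∀ c : F, c * c ≠ -1) {k : Fin 3} {E : Submodule F V} (hE : E ≤ neg z k)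
    (ha : ∀ v ∈ E, a k v ∈ E) (hne : ∃ v ∈ E, v ≠ 0) : 2 ≤ finrank F E := by
  obtain ⟨v, hv, hv0⟩ := hne
  refine two_le hv (ha v hv) hv0 fun c hc => ?_
  have h1 : a k (a k v) = -v := by rw [h.aav, mem_neg.1 (hE hv)]
  rw [hc, map_smul, hc, smul_smul] at h1
  have h2 : (c * c + 1) • v = 0 := by rw [add_smul, one_smul, h1, neg_add_cancel]
  rcases smul_eq_zero.1 h2 with h3 | h3
  · exact hsq c (eq_neg_of_add_eq_zero_left h3)
  · exact hv0 h3

theorem neg_ne (k : Fin 3) (hz : z k ≠ 1) : ∃ v ∈ neg z k, v ≠ 0 := by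
  by_contra hcon
  push Not at hcon
  apply hz
  ext v
  have h1 : z k v - v ∈ neg z k := by
    rw [mem_neg, map_sub, h.zzv, neg_sub]
  exact sub_eq_zero.1 (hcon _ h1)

/-- `z i` is trivial on a submodule `M`, invariant under `z i` and meeting `neg z i` trivially -/
theorem triv_of {M : Submodule F V} {i : Fin 3} (hM : ∀ v ∈ M, z i v ∈ M) (hd : M ⊓ neg z i = ⊥) {v : V} (hv : v ∈ M) :
    z i v = v := by
  have h1 : z i v - v ∈ M ⊓ neg z i := by
    refine ⟨M.sub_mem (hM v hv) hv, ?_⟩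
    rw [SetLike.mem_coe, mem_neg, map_sub, h.zzv, neg_sub]
  rw [hd, Submodule.mem_bot] at h1
  exact sub_eq_zero.1 h1

theorem inf_eq_bot (h2 : (2 : F) ≠ 0) (hsq : ∀ c : F, c * c ≠ -1) (hV : finrank F V = 6) (hz : ∀ i, z i ≠ 1)
    (hzz : ∀ i j, i ≠ j → z i ≠ z j) {i j : Fin 3} (hij : i ≠ j) : neg z i ⊓ neg z j = ⊥ := by
  by_contra hne
  have hle : ∀ M : Submodule F V, finrank F M ≤ 6 := fun M => hV ▸ Submodule.finrank_le M
  obtain ⟨k, hki, hkj⟩ : ∃ k : Fin 3, k ≠ i ∧ k ≠ j := by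
    have h0 : ∀ i j : Fin 3, ∃ k : Fin 3, k ≠ i ∧ k ≠ j := by decide
    exact h0 i j
  have hfour : ∀ i' j' : Fin 3, i' ≠ j' → ∀ M : Submodule F V, M ≤ neg z i' → M ≤ neg z j' →
      (∀ k, ∀ v ∈ M, a k v ∈ M) → (∀ k, ∀ v ∈ M, b k v ∈ M) → M ≠ ⊥ →
      ∃ E : Submodule F V, E ≤ M ∧ (∀ k, k ≠ i' → k ≠ j' → ∀ v ∈ E, a k v ∈ E) ∧ (∃ v ∈ E, v ≠ 0) ∧
      4 * finrank F E ≤ finrank F M := by
    intro i' j' hij' M hMi hMj hMa hMb hM
    exact h.four h2 hij' M hMa hMb (fun v hv => mem_neg.1 (hMi hv)) (fun v hv => mem_neg.1 (hMj hv))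
      ((Submodule.ne_bot_iff M).1 hM)
  have hpos : ∀ E : Submodule F V, (∃ v ∈ E, v ≠ 0) → 1 ≤ finrank F E := by
    intro E hE
    have h1 : E ≠ ⊥ := (Submodule.ne_bot_iff E).2 hE
    exact Submodule.one_le_finrank_iff.2 h1
  have hinv2 : ∀ i' j' : Fin 3, (∀ k, ∀ v ∈ neg z i' ⊓ neg z j', a k v ∈ neg z i' ⊓ neg z j') ∧
      (∀ k, ∀ v ∈ neg z i' ⊓ neg z j', b k v ∈ neg z i' ⊓ neg z j') := by
    intro i' j'
    exact ⟨fun k v hv => ⟨h.a_neg _ _ hv.1, h.a_neg _ _ hv.2⟩, fun k v hv => ⟨h.b_neg _ _ hv.1, h.b_neg _ _ hv.2⟩⟩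
  -- the joint eigenspace of the three is trivial
  have h3 : neg z i ⊓ neg z j ⊓ neg z k = ⊥ := by
    by_contra hne3
    obtain ⟨E, hEM, hEa, hE0, hE4⟩ := hfour i j hij (neg z i ⊓ neg z j ⊓ neg z k) (inf_le_left.trans inf_le_left)
      (inf_le_left.trans inf_le_right)
      (fun k' v hv => ⟨(hinv2 i j).1 _ _ hv.1, h.a_neg _ _ hv.2⟩)
      (fun k' v hv => ⟨(hinv2 i j).2 _ _ hv.1, h.b_neg _ _ hv.2⟩) hne3
    have h4 := h.two_of hsq (hEM.trans inf_le_right) (hEa k hki hkj) hE0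
    have h5 := hle (neg z i ⊓ neg z j ⊓ neg z k)
    omega
  -- dimensions
  have hM4 : 4 ≤ finrank F ↥(neg z i ⊓ neg z j) := by
    obtain ⟨E, hEM, -, hE0, hE4⟩ := hfour i j hij _ inf_le_left inf_le_right (hinv2 i j).1 (hinv2 i j).2 hne
    have := hpos E hE0
    omega
  have hk2 : 2 ≤ finrank F ↥(neg z k) :=
    h.two_of hsq le_rfl (fun v hv => h.a_neg _ _ hv) (h.neg_ne k (hz k))
  have hsum := Submodule.finrank_sup_add_finrank_inf_eq (neg z i ⊓ neg z j) (neg z k)
  rw [h3, finrank_bot, add_zero] at hsum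
  have hsup := hle (neg z i ⊓ neg z j ⊔ neg z k)
  have htop : neg z i ⊓ neg z j ⊔ neg z k = ⊤ := Submodule.eq_top_of_finrank_eq (by omega)
  have hkk : finrank F ↥(neg z k) = 2 := by omega
  have hdis : ∀ i', i' ≠ k → neg z k ⊓ neg z i' = ⊥ := by
    intro i' hi'
    by_contra hne'
    obtain ⟨E, hEM, -, hE0, hE4⟩ := hfour k i' hi'.symm _ inf_le_left inf_le_right (hinv2 k i').1 (hinv2 k i').2 hne'
    have h6 := hpos E hE0
    have h7 : finrank F ↥(neg z k ⊓ neg z i') ≤ finrank F ↥(neg z k) := Submodule.finrank_mono inf_le_left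
    omega
  have htriv : ∀ i', i' ≠ k → ∀ v ∈ neg z k, z i' v = v := by
    intro i' hi' v hv
    refine h.triv_of (fun w hw => ?_) (hdis i' hi') hv
    rw [mem_neg] at hw ⊢
    rw [h.zcv, hw, map_neg]
  apply hzz i j hij
  ext v
  have hv : v ∈ neg z i ⊓ neg z j ⊔ neg z k := by rw [htop]; exact Submodule.mem_top
  obtain ⟨w, hw, u, hu, rfl⟩ := Submodule.mem_sup.1 hv
  rw [map_add, map_add, mem_neg.1 hw.1, mem_neg.1 hw.2, htriv i hki.symm u hu, htriv j hkj.symm u hu]

/-- **Main theorem.** -/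
theorem main (h2 : (2 : F) ≠ 0) (hsq : ∀ c : F, c * c ≠ -1) (hV : finrank F V = 6) (hz : ∀ i, z i ≠ 1)
    (hzz : ∀ i j, i ≠ j → z i ≠ z j) :
    (∀ i, finrank F (neg z i) = 2) ∧ (∀ i j, i ≠ j → ∀ v ∈ neg z i, z j v = v) ∧
    neg z 0 ⊔ neg z 1 ⊔ neg z 2 = ⊤ := by
  have hd := fun (i j : Fin 3) (hij : i ≠ j) => h.inf_eq_bot h2 hsq hV hz hzz hij
  have ht : ∀ i j, i ≠ j → ∀ v ∈ neg z i, z j v = v := by
    intro i j hij v hv
    refine h.triv_of (fun w hw => ?_) (hd i j hij) hv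
    rw [mem_neg] at hw ⊢
    rw [h.zcv, hw, map_neg]
  have h2' : ∀ k, 2 ≤ finrank F ↥(neg z k) := fun k =>
    h.two_of hsq le_rfl (fun v hv => h.a_neg _ _ hv) (h.neg_ne k (hz k))
  have hneg : ∀ v : V, v = -v → v = 0 := by
    intro v hv
    have h3 : (2 : F) • v = 0 := by rw [two_smul]; nth_rw 1 [hv]; exact neg_add_cancel v
    exact (smul_eq_zero.1 h3).resolve_left h2
  have h01 := Submodule.finrank_sup_add_finrank_inf_eq (neg z 0) (neg z 1)
  rw [hd 0 1 (by decide), finrank_bot, add_zero] at h01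
  have h012 := Submodule.finrank_sup_add_finrank_inf_eq (neg z 0 ⊔ neg z 1) (neg z 2)
  have hi : (neg z 0 ⊔ neg z 1) ⊓ neg z 2 = ⊥ := by
    rw [eq_bot_iff]
    rintro v ⟨hv1, hv2⟩
    obtain ⟨u, hu, w, hw, rfl⟩ := Submodule.mem_sup.1 hv1
    have h3 : z 2 (u + w) = -(u + w) := mem_neg.1 hv2
    rw [map_add, ht 0 2 (by decide) u hu, ht 1 2 (by decide) w hw] at h3
    exact hneg _ h3
  rw [hi, finrank_bot, add_zero] at h012
  have hle : finrank F ↥(neg z 0 ⊔ neg z 1 ⊔ neg z 2) ≤ 6 := hV ▸ Submodule.finrank_le _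
  have e0 := h2' 0
  have e1 := h2' 1
  have e2 := h2' 2
  refine ⟨?_, ht, Submodule.eq_top_of_finrank_eq (by omega)⟩
  intro i
  fin_cases i
  · change finrank F ↥(neg z 0) = 2; omega
  · change finrank F ↥(neg z 1) = 2; omega
  · change finrank F ↥(neg z 2) = 2; omega

end Quat3

end Cfsg.Agent.H349.T3.QuatRep
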