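import Cfsg.Agent.H349.T3.Base
import Cfsg.Agent.H349.T3.Lift
import Cfsg.Agent.H349.T3.QuatRep

/-!
# The frame for `O₂(H/Q) ≅ Q₈ × Q₈ × Q₈` (helper349)
-/

set_option autoImplicit false

namespace Cfsg.Agent.H349.T3

open Cfsg Cfsg.Agent.H341.Weak Module QuatRep

universe u

/-- the representation of `C` on `Q/Z` -/
theorem Base.exists_rep {C : Type u} [Group C] [Finite C] {Z Q : Subgroup C} (B : Base Z Q) :
    ∃ (V : Type u) (_ : AddCommGroup V) (_ : Module (ZMod 3) V) (_ : Finite V) (τ : C →* Module.End (ZMod 3) V)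
      (m : ↥Q → V), Function.Surjective m ∧ (∀ x y, m (x * y) = m x + m y) ∧ (∀ x, m x = 0 ↔ (x : C) ∈ Z) ∧
      (∀ (c : C) (x y : ↥Q), (y : C) = c * x * c⁻¹ → τ c (m x) = m y) ∧ finrank (ZMod 3) V = 6 := by
  classical
  have : Fact (Nat.Prime 3) := ⟨Nat.prime_three⟩
  have hZn : Z.Normal := ⟨fun z hz c => B.conj_mem hz c⟩
  have hQn : Q.Normal := ⟨fun q hq c => B.nQ c q hq⟩
  let N : Subgroup ↥Q := Z.subgroupOf Q
  have hcomm : ∀ a b : ↥Q ⧸ N, a * b = b * a := by
    intro a b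
    obtain ⟨x, rfl⟩ := QuotientGroup.mk'_surjective N a
    obtain ⟨y, rfl⟩ := QuotientGroup.mk'_surjective N b
    rw [← map_mul, ← map_mul]
    have h1 : (x * y) * (y * x)⁻¹ ∈ N := by
      rw [Subgroup.mem_subgroupOf]
      have h2 := B.comZ x x.2 y y.2
      have h3 : (((x * y) * (y * x)⁻¹ : ↥Q) : C) = (x : C) * y * (x : C)⁻¹ * (y : C)⁻¹ := by
        push_cast
        group
      rw [h3]
      exact h2
    have h4 : QuotientGroup.mk' N ((x * y) * (y * x)⁻¹) = 1 := (QuotientGroup.eq_one_iff _).2 h1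
    rw [map_mul, map_inv] at h4
    exact mul_inv_eq_one.1 h4
  let _ : CommGroup (↥Q ⧸ N) := { (inferInstance : Group (↥Q ⧸ N)) with mul_comm := hcomm }
  have h3 : ∀ v : Additive (↥Q ⧸ N), 3 • v = 0 := by
    intro v
    obtain ⟨x, hx⟩ := QuotientGroup.mk'_surjective N v.toMul
    have h1 : v.toMul ^ 3 = 1 := by
      rw [← hx, ← map_pow]
      refine (QuotientGroup.eq_one_iff _).2 ?_
      rw [Subgroup.mem_subgroupOf]
      have := B.cube x.2
      simpa using this
    exact h1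
  let _ : Module (ZMod 3) (Additive (↥Q ⧸ N)) := AddCommGroup.zmodModule h3
  have hκ : ∀ c : C, N ≤ N.comap (MulAut.conjNormal c : MulAut ↥Q).toMonoidHom := by
    intro c x hx
    rw [Subgroup.mem_comap, Subgroup.mem_subgroupOf]
    rw [Subgroup.mem_subgroupOf] at hx
    have h1 : (((MulAut.conjNormal c : MulAut ↥Q).toMonoidHom x : ↥Q) : C) = c * x * c⁻¹ := rfl
    rw [h1]
    exact B.conj_mem hx c
  let κ : C → (↥Q ⧸ N →* ↥Q ⧸ N) := fun c => QuotientGroup.map N N (MulAut.conjNormal c : MulAut ↥Q).toMonoidHom (hκ c)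
  let τ : C →* Module.End (ZMod 3) (Additive (↥Q ⧸ N)) :=
    { toFun := fun c => AddMonoidHom.toZModLinearMap 3 (MonoidHom.toAdditive (κ c))
      map_one' := by
        apply LinearMap.ext
        intro v
        obtain ⟨x, hx⟩ := QuotientGroup.mk'_surjective N v.toMul
        have h1 : v = Additive.ofMul (QuotientGroup.mk' N x) := by rw [hx]; rfl
        rw [h1]
        change Additive.ofMul (QuotientGroup.mk' N ((MulAut.conjNormal (1 : C) : MulAut ↥Q) x)) = _
        rw [map_one]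
        rfl
      map_mul' := by
        intro c d
        apply LinearMap.ext
        intro v
        obtain ⟨x, hx⟩ := QuotientGroup.mk'_surjective N v.toMul
        have h1 : v = Additive.ofMul (QuotientGroup.mk' N x) := by rw [hx]; rfl
        rw [h1]
        change Additive.ofMul (QuotientGroup.mk' N ((MulAut.conjNormal (c * d) : MulAut ↥Q) x)) =
          Additive.ofMul (QuotientGroup.mk' N ((MulAut.conjNormal c : MulAut ↥Q) ((MulAut.conjNormal d : MulAut ↥Q) x)))
        rw [map_mul]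
        rfl }
  refine ⟨Additive (↥Q ⧸ N), inferInstance, inferInstance, (inferInstance : Finite (↥Q ⧸ N)), τ,
    fun x => Additive.ofMul (QuotientGroup.mk' N x), ?_, ?_, ?_, ?_, ?_⟩
  · intro v
    obtain ⟨x, hx⟩ := QuotientGroup.mk'_surjective N v.toMul
    exact ⟨x, hx⟩
  · intro x y
    rfl
  · intro x
    have h1 : Additive.ofMul (QuotientGroup.mk' N x) = 0 ↔ QuotientGroup.mk' N x = 1 := Iff.rfl
    rw [h1]
    exact QuotientGroup.eq_one_iff x
  · intro c x y hy
    change Additive.ofMul (QuotientGroup.mk' N ((MulAut.conjNormal c : MulAut ↥Q) x)) = _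
    have h1 : (MulAut.conjNormal c : MulAut ↥Q) x = y := Subtype.ext hy.symm
    rw [h1]
  · have h1 : Nat.card (Additive (↥Q ⧸ N)) = 3 ^ 6 := by
      have h2 := Subgroup.card_eq_card_quotient_mul_card_subgroup N
      have h4 : Nat.card ↥N = 3 := by
        rw [← B.cardZ]
        exact Nat.card_congr (Subgroup.subgroupOfEquivOfLe B.ZQ).toEquiv
      rw [B.cardQ, h4] at h2
      have h5 : Nat.card (Additive (↥Q ⧸ N)) = Nat.card (↥Q ⧸ N) := rfl
      rw [h5]
      omega
    have h2 : Nat.card (Additive (↥Q ⧸ N)) = Nat.card (ZMod 3) ^ finrank (ZMod 3) (Additive (↥Q ⧸ N)) :=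
      Module.natCard_eq_pow_finrank
    rw [h1, Nat.card_zmod] at h2
    exact (Nat.pow_right_injective (le_refl 2 |>.trans (by norm_num)) h2).symm

/-! ### The group `Q₈ × Q₈ × Q₈` -/

/-- `Q₈ × Q₈ × Q₈` -/
abbrev X3 : Type := QuaternionGroup 2 × QuaternionGroup 2 × QuaternionGroup 2

/-- the embedding of the `i`-th factor -/
def emb (i : Fin 3) (q : QuaternionGroup 2) : X3 :=
  (if i = 0 then q else 1, if i = 1 then q else 1, if i = 2 then q else 1)

theorem emb_mul (i : Fin 3) (q r : QuaternionGroup 2) : emb i q * emb i r = emb i (q * r) := by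
  unfold emb
  ext1
  · by_cases h : i = 0 <;> simp [h]
  · ext1
    · by_cases h : i = 1 <;> simp [h]
    · by_cases h : i = 2 <;> simp [h]

theorem emb_one (i : Fin 3) : emb i 1 = 1 := by
  unfold emb
  simp

theorem emb_inj (i : Fin 3) {q r : QuaternionGroup 2} (h : emb i q = emb i r) : q = r := by
  have h0 : ∀ i : Fin 3, i = 0 ∨ i = 1 ∨ i = 2 := by decide
  rcases h0 i with rfl | rfl | rfl
  · exact congrArg Prod.fst h
  · exact congrArg (fun x => x.2.1) h
  · exact congrArg (fun x => x.2.2) h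

theorem emb_comm {i j : Fin 3} (hij : i ≠ j) (q r : QuaternionGroup 2) : emb i q * emb j r = emb j r * emb i q := by
  have h0 : ∀ i : Fin 3, i = 0 ∨ i = 1 ∨ i = 2 := by decide
  rcases h0 i with rfl | rfl | rfl <;> rcases h0 j with rfl | rfl | rfl <;>
    first
    | exact absurd rfl hij
    | (unfold emb; simp)

theorem emb_ne {i j : Fin 3} (hij : i ≠ j) {q r : QuaternionGroup 2} (hq : q ≠ 1) : emb i q ≠ emb j r := by
  have h0 : ∀ i : Fin 3, i = 0 ∨ i = 1 ∨ i = 2 := by decide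
  intro h
  rcases h0 i with rfl | rfl | rfl <;> rcases h0 j with rfl | rfl | rfl
  · exact absurd rfl hij
  · exact hq (congrArg Prod.fst h)
  · exact hq (congrArg Prod.fst h)
  · exact hq (congrArg (fun x => x.2.1) h)
  · exact absurd rfl hij
  · exact hq (congrArg (fun x => x.2.1) h)
  · exact hq (congrArg (fun x => x.2.2) h)
  · exact hq (congrArg (fun x => x.2.2) h)
  · exact absurd rfl hij

theorem eq_emb (x : X3) : x = emb 0 x.1 * emb 1 x.2.1 * emb 2 x.2.2 := by
  unfold emb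
  simp

theorem q8_sq : ∀ q : QuaternionGroup 2, q * q = 1 → q = 1 ∨ q = QuaternionGroup.a 2 := by
  have h : ∀ q : ZMod 4 ⊕ ZMod 4, (match q with
      | Sum.inl i => QuaternionGroup.a i | Sum.inr i => QuaternionGroup.xa i : QuaternionGroup 2) *
      (match q with | Sum.inl i => QuaternionGroup.a i | Sum.inr i => QuaternionGroup.xa i : QuaternionGroup 2) = 1 →
      (match q with | Sum.inl i => QuaternionGroup.a i | Sum.inr i => QuaternionGroup.xa i : QuaternionGroup 2) = 1 ∨
      (match q with | Sum.inl i => QuaternionGroup.a i | Sum.inr i => QuaternionGroup.xa i : QuaternionGroup 2) =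
        QuaternionGroup.a 2 := by decide
  intro q
  rcases q with i | i
  · exact h (Sum.inl i)
  · exact h (Sum.inr i)

theorem quat3 {V : Type*} [AddCommGroup V] [Module (ZMod 3) V] (θ : X3 →* Module.End (ZMod 3) V) :
    Quat3 (fun i => θ (emb i (QuaternionGroup.a 1))) (fun i => θ (emb i (QuaternionGroup.xa 0)))
      (fun i => θ (emb i (QuaternionGroup.a 2))) := by
  have e1 : (QuaternionGroup.a 1 : QuaternionGroup 2) * QuaternionGroup.a 1 = QuaternionGroup.a 2 := by decide
  have e2 : (QuaternionGroup.xa 0 : QuaternionGroup 2) * QuaternionGroup.xa 0 = QuaternionGroup.a 2 := by decide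
  have e3 : (QuaternionGroup.a 2 : QuaternionGroup 2) * QuaternionGroup.a 2 = 1 := by decide
  have e4 : (QuaternionGroup.xa 0 : QuaternionGroup 2) * QuaternionGroup.a 1 =
      QuaternionGroup.a 1 * QuaternionGroup.xa 0 * QuaternionGroup.a 2 := by decide
  refine ⟨fun i => ?_, fun i => ?_, fun i => ?_, fun i => ?_, fun i j hij => ?_, fun i j hij => ?_, fun i j hij => ?_⟩
  · rw [← map_mul, emb_mul, e1]
  · rw [← map_mul, emb_mul, e2]
  · rw [← map_mul, emb_mul, e3, emb_one, map_one]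
  · rw [← map_mul, ← map_mul, ← map_mul, emb_mul, emb_mul, emb_mul, e4]
  · rw [← map_mul, ← map_mul, emb_comm hij]
  · rw [← map_mul, ← map_mul, emb_comm hij]
  · rw [← map_mul, ← map_mul, emb_comm hij]

theorem sq_add_one_ne : ∀ c : ZMod 3, c * c + 1 ≠ 0 := by decide

/-- **The frame** of the rows with `O₂(H/Q) ≅ Q₈ × Q₈ × Q₈`. -/
theorem frameE {C : Type u} [Group C] [Finite C] {Z Q : Subgroup C} (B : Base Z Q) [Q.Normal]
    (e : pCore 2 (C ⧸ Q) ≃* X3) (ρ : X3 →* C) (hρ : ∀ x, QuotientGroup.mk' Q (ρ x) = (e.symm x : C ⧸ Q)) :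
    ∃ U : Fin 3 → Subgroup C, Frame Z Q U (fun i => ρ (emb i (QuaternionGroup.a 2))) ∧
      ∀ i, ∀ A : Subgroup C, Z ≤ A → (∀ x : X3, ∀ y ∈ A, ρ x * y * (ρ x)⁻¹ ∈ A) → (∃ x ∈ A, x ∈ U i ∧ x ∉ Z) →
        U i ≤ A := by
  classical
  have hp3 : Fact (Nat.Prime 3) := ⟨Nat.prime_three⟩
  obtain ⟨V, _, _, _, τ, m, hms, hmm, hm0, hmc, hV⟩ := B.exists_rep
  have hfd : FiniteDimensional (ZMod 3) V := Module.Finite.of_finite
  let θ : X3 →* Module.End (ZMod 3) V := τ.comp ρ
  let z : Fin 3 → Module.End (ZMod 3) V := fun i => θ (emb i (QuaternionGroup.a 2))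
  have hq : Quat3 (fun i => θ (emb i (QuaternionGroup.a 1))) (fun i => θ (emb i (QuaternionGroup.xa 0))) z := quat3 θ
  have ha2 : (QuaternionGroup.a 2 : QuaternionGroup 2) ≠ 1 := by decide
  have ha22 : (QuaternionGroup.a 2 : QuaternionGroup 2) * QuaternionGroup.a 2 = 1 := by decide
  have hmi : ∀ x, m x⁻¹ = -m x := by
    intro x
    have h1 : m (x⁻¹ * x) = m x⁻¹ + m x := hmm _ _
    rw [inv_mul_cancel, (hm0 1).2 (by simp)] at h1
    exact eq_neg_of_add_eq_zero_left h1.symm
  -- involutions are faithful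
  have hfaith : ∀ x : X3, x * x = 1 → θ x = 1 → x = 1 := by
    intro x hx h1
    have h2 : ρ x * ρ x = 1 := by rw [← map_mul, hx, map_one]
    have h3 : ρ x ∈ Subgroup.centralizer (Q : Set C) := by
      rw [Subgroup.mem_centralizer_iff]
      intro q hq'
      refine (B.comm_of_triv h2 ?_).symm
      have h4 := hmc (ρ x) ⟨q, hq'⟩ ⟨ρ x * q * (ρ x)⁻¹, B.nQ _ _ hq'⟩ rfl
      have h5 : τ (ρ x) (m ⟨q, hq'⟩) = m ⟨q, hq'⟩ := by
        have h6 : θ x (m ⟨q, hq'⟩) = m ⟨q, hq'⟩ := by rw [h1]; rfl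
        exact h6
      rw [h5] at h4
      have h6 := (hm0 (⟨ρ x * q * (ρ x)⁻¹, B.nQ _ _ hq'⟩ * (⟨q, hq'⟩ : ↥Q)⁻¹)).1 (by
        rw [hmm, hmi, ← h4, add_neg_cancel])
      exact h6
    have h4 := B.CQ h3
    have h5 : QuotientGroup.mk' Q (ρ x) = QuotientGroup.mk' Q (ρ 1) := by
      rw [map_one, map_one]
      exact (QuotientGroup.eq_one_iff _).2 h4
    exact lift_inj hρ h5
  have hz1 : ∀ i, z i ≠ 1 := by
    intro i h1
    have h2 := hfaith _ (by rw [emb_mul, ha22, emb_one]) h1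
    rw [← emb_one i] at h2
    exact ha2 (emb_inj i h2)
  have hzz : ∀ i j, i ≠ j → z i ≠ z j := by
    intro i j hij h1
    have h2 : θ (emb i (QuaternionGroup.a 2) * emb j (QuaternionGroup.a 2)) = 1 := by
      rw [map_mul]
      change z i * z j = 1
      rw [h1]
      exact hq.zz j
    have h3 := hfaith _ (by
      calc emb i (QuaternionGroup.a 2) * emb j (QuaternionGroup.a 2) * (emb i (QuaternionGroup.a 2) *
            emb j (QuaternionGroup.a 2))
          = emb i (QuaternionGroup.a 2) * (emb j (QuaternionGroup.a 2) * emb i (QuaternionGroup.a 2)) *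
            emb j (QuaternionGroup.a 2) := by group
        _ = emb i (QuaternionGroup.a 2) * (emb i (QuaternionGroup.a 2) * emb j (QuaternionGroup.a 2)) *
            emb j (QuaternionGroup.a 2) := by rw [emb_comm hij]
        _ = (emb i (QuaternionGroup.a 2) * emb i (QuaternionGroup.a 2)) * (emb j (QuaternionGroup.a 2) *
            emb j (QuaternionGroup.a 2)) := by group
        _ = 1 := by rw [emb_mul, emb_mul, ha22, emb_one, emb_one, one_mul]) h2
    have h4 : emb i (QuaternionGroup.a 2) = emb j (QuaternionGroup.a 2) := by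
      have h5 : emb j (QuaternionGroup.a 2) * emb j (QuaternionGroup.a 2) = 1 := by rw [emb_mul, ha22, emb_one]
      exact mul_right_cancel (h3.trans h5.symm)
    exact emb_ne hij ha2 h4
  obtain ⟨hdim, htriv, htop⟩ := hq.main (by decide) (by decide) hV hz1 hzz
  -- the blocks
  let W : Fin 3 → Subgroup ↥Q := fun i =>
    { carrier := {x | m x ∈ Quat3.neg z i}
      mul_mem' := by
        intro x y hx hy
        change m (x * y) ∈ Quat3.neg z i
        rw [hmm]
        exact (Quat3.neg z i).add_mem hx hy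
      one_mem' := by
        change m 1 ∈ Quat3.neg z i
        rw [(hm0 1).2 (by simp)]
        exact (Quat3.neg z i).zero_mem
      inv_mem' := by
        intro x hx
        change m x⁻¹ ∈ Quat3.neg z i
        rw [hmi]
        exact (Quat3.neg z i).neg_mem hx }
  let U : Fin 3 → Subgroup C := fun i => (W i).map Q.subtype
  have hU : ∀ i x, x ∈ U i ↔ ∃ hx : x ∈ Q, m ⟨x, hx⟩ ∈ Quat3.neg z i := by
    intro i x
    constructor
    · rintro ⟨y, hy, rfl⟩
      exact ⟨y.2, hy⟩
    · rintro ⟨hx, h⟩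
      exact ⟨⟨x, hx⟩, h, rfl⟩
  have hUQ : ∀ i, U i ≤ Q := fun i x hx => ((hU i x).1 hx).1
  have hZU : ∀ i, Z ≤ U i := by
    intro i x hx
    refine (hU i x).2 ⟨B.ZQ hx, ?_⟩
    rw [(hm0 ⟨x, B.ZQ hx⟩).2 hx]
    exact Submodule.zero_mem _
  -- conjugation and `τ`
  have hconj : ∀ (c x : C) (hx : x ∈ Q), τ c (m ⟨x, hx⟩) = m ⟨c * x * c⁻¹, B.nQ c x hx⟩ :=
    fun c x hx => hmc c ⟨x, hx⟩ ⟨c * x * c⁻¹, B.nQ c x hx⟩ rfl
  have hinv_iff : ∀ (c x : C) (hx : x ∈ Q), τ c (m ⟨x, hx⟩) = -m ⟨x, hx⟩ ↔ c * x * c⁻¹ * x ∈ Z := by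
    intro c x hx
    rw [hconj, ← sub_eq_zero, sub_neg_eq_add, ← hmm, hm0]
    rfl
  have htriv_iff : ∀ (c x : C) (hx : x ∈ Q), τ c (m ⟨x, hx⟩) = m ⟨x, hx⟩ ↔ c * x * c⁻¹ * x⁻¹ ∈ Z := by
    intro c x hx
    rw [hconj, ← sub_eq_zero, sub_eq_add_neg, ← hmi, ← hmm, hm0]
    rfl
  have cardU : ∀ i, Nat.card (U i) = 27 := by
    intro i
    have h1 : Nat.card (U i) = Nat.card (W i) :=
      (Nat.card_congr ((W i).equivMapOfInjective Q.subtype Q.subtype_injective).toEquiv).symm
    rw [h1]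
    -- the homomorphism to `neg z i`
    let f : ↥(W i) →* Multiplicative ↥(Quat3.neg z i) :=
      { toFun := fun x => Multiplicative.ofAdd ⟨m x, x.2⟩
        map_one' := by
          apply Multiplicative.toAdd.injective
          apply Subtype.ext
          exact (hm0 1).2 (by simp)
        map_mul' := by
          intro x y
          apply Multiplicative.toAdd.injective
          apply Subtype.ext
          exact hmm x y }
    have hf : Function.Surjective f := by
      intro v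
      obtain ⟨x, hx⟩ := hms (v.toAdd : V)
      refine ⟨⟨x, ?_⟩, ?_⟩
      · change m x ∈ Quat3.neg z i
        rw [hx]
        exact v.toAdd.2
      · apply Multiplicative.toAdd.injective
        apply Subtype.ext
        exact hx
    have h2 : Nat.card ↥f.ker = Nat.card ↥Z := by
      refine Nat.card_congr ⟨fun x => ⟨((x : ↥(W i)) : C), ?_⟩, fun x => ⟨⟨⟨x, B.ZQ x.2⟩, ?_⟩, ?_⟩, fun x => ?_,
        fun x => ?_⟩
      · have h3 : f x = 1 := x.2
        have h4 : m ((x : ↥(W i)) : ↥Q) = 0 := by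
          have h5 := congrArg (fun y : Multiplicative ↥(Quat3.neg z i) => ((Multiplicative.toAdd y : ↥(Quat3.neg z i)) : V)) h3
          exact h5
        exact (hm0 _).1 h4
      · change m _ ∈ Quat3.neg z i
        rw [(hm0 ⟨x, B.ZQ x.2⟩).2 x.2]
        exact Submodule.zero_mem _
      · rw [MonoidHom.mem_ker]
        apply Multiplicative.toAdd.injective
        apply Subtype.ext
        exact (hm0 ⟨x, B.ZQ x.2⟩).2 x.2
      · rfl
      · rfl
    have h3 := Subgroup.card_mul_index f.ker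
    rw [h2, B.cardZ, Subgroup.index_ker, MonoidHom.range_eq_top.2 hf] at h3
    have h4 : Nat.card ↥(⊤ : Subgroup (Multiplicative ↥(Quat3.neg z i))) = 9 := by
      rw [Nat.card_congr Subgroup.topEquiv.toEquiv]
      have h5 : Nat.card (Multiplicative ↥(Quat3.neg z i)) = Nat.card ↥(Quat3.neg z i) := rfl
      rw [h5]
      have h6 : Nat.card ↥(Quat3.neg z i) = Nat.card (ZMod 3) ^ finrank (ZMod 3) ↥(Quat3.neg z i) :=
        Module.natCard_eq_pow_finrank
      rw [h6, hdim i, Nat.card_zmod]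
      norm_num
    rw [h4] at h3
    omega
  have hsup : Q = U 0 ⊔ U 1 ⊔ U 2 := by
    refine le_antisymm ?_ (sup_le (sup_le (hUQ 0) (hUQ 1)) (hUQ 2))
    intro x hx
    have h1 : m ⟨x, hx⟩ ∈ Quat3.neg z 0 ⊔ Quat3.neg z 1 ⊔ Quat3.neg z 2 := by rw [htop]; trivial
    obtain ⟨v, hv, w2, hw2, h2⟩ := Submodule.mem_sup.1 h1
    obtain ⟨w0, hw0, w1, hw1, h3⟩ := Submodule.mem_sup.1 hv
    obtain ⟨x0, hx0⟩ := hms w0
    obtain ⟨x1, hx1⟩ := hms w1
    obtain ⟨x2, hx2⟩ := hms w2
    have m0 : (x0 : C) ∈ U 0 := (hU 0 _).2 ⟨x0.2, by rw [← hx0] at hw0; exact hw0⟩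
    have m1 : (x1 : C) ∈ U 1 := (hU 1 _).2 ⟨x1.2, by rw [← hx1] at hw1; exact hw1⟩
    have m2 : (x2 : C) ∈ U 2 := (hU 2 _).2 ⟨x2.2, by rw [← hx2] at hw2; exact hw2⟩
    have h4 : m (⟨x, hx⟩ * (x0 * x1 * x2)⁻¹) = 0 := by
      rw [hmm, hmi, hmm, hmm, hx0, hx1, hx2, h3, h2, add_neg_cancel]
    have h5 : x * ((x0 : C) * x1 * x2)⁻¹ ∈ Z := (hm0 _).1 h4
    have h6 : x = (x * ((x0 : C) * x1 * x2)⁻¹) * ((x0 : C) * x1 * x2) := by group
    rw [h6]
    have le0 : U 0 ≤ U 0 ⊔ U 1 ⊔ U 2 := le_sup_left.trans le_sup_left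
    have le1 : U 1 ≤ U 0 ⊔ U 1 ⊔ U 2 := le_sup_right.trans le_sup_left
    have le2 : U 2 ≤ U 0 ⊔ U 1 ⊔ U 2 := le_sup_right
    exact mul_mem (le0 (hZU 0 h5)) (mul_mem (mul_mem (le0 m0) (le1 m1)) (le2 m2))
  refine ⟨U, ?_, ?_⟩
  · refine B.frame ?_ ?_ cardU hZU hUQ hsup ?_ ?_ ?_
    · intro i
      rw [← map_mul, emb_mul, ha22, emb_one, map_one]
    · intro i j
      by_cases hij : i = j
      · rw [hij]
      · rw [← map_mul, ← map_mul, emb_comm hij]
    · intro i x hx
      obtain ⟨hxQ, h1⟩ := (hU i x).1 hx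
      exact (hinv_iff _ x hxQ).1 (Quat3.mem_neg.1 h1)
    · intro i j hij x hx
      obtain ⟨hxQ, h1⟩ := (hU j x).1 hx
      exact (htriv_iff _ x hxQ).1 (htriv j i hij _ h1)
    · intro c i j
      obtain ⟨y, hy⟩ : ∃ y, y = c * ρ (emb i (QuaternionGroup.a 2)) * c⁻¹ := ⟨_, rfl⟩
      rw [← hy]
      have hy2 : y * y = 1 := by
        rw [hy]
        have h1 : c * ρ (emb i (QuaternionGroup.a 2)) * c⁻¹ * (c * ρ (emb i (QuaternionGroup.a 2)) * c⁻¹) =
            c * (ρ (emb i (QuaternionGroup.a 2)) * ρ (emb i (QuaternionGroup.a 2))) * c⁻¹ := by group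
        rw [h1, ← map_mul, emb_mul, ha22, emb_one, map_one]
        group
      have hyP : QuotientGroup.mk' Q y ∈ pCore 2 (C ⧸ Q) := by
        rw [hy, map_mul, map_mul, map_inv]
        exact (Cfsg.Agent.Lib.Cores.pCore_normal 2).conj_mem _ (lift_mem hρ _) _
      obtain ⟨x, q, hqQ, hxq⟩ := lift_surj hρ hyP
      have hx2 : x * x = 1 := by
        have h1 : QuotientGroup.mk' Q y = QuotientGroup.mk' Q (ρ x) := by
          rw [hxq, map_mul]
          have h2 : QuotientGroup.mk' Q q = 1 := (QuotientGroup.eq_one_iff q).2 hqQ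
          rw [h2, mul_one]
        have h2 : QuotientGroup.mk' Q (ρ (x * x)) = QuotientGroup.mk' Q (ρ 1) := by
          rw [map_mul ρ, map_mul, ← h1, ← map_mul, hy2, map_one, map_one, map_one]
        exact lift_inj hρ h2
      -- `q` acts trivially
      have hτq : ∀ v, τ q v = v := by
        intro v
        obtain ⟨u, rfl⟩ := hms v
        exact (htriv_iff q u u.2).2 (B.comZ q hqQ u u.2)
      have hτy : ∀ v, τ y v = θ x v := by
        intro v
        rw [hxq, map_mul, Module.End.mul_apply, hτq]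
        rfl
      -- components
      have hcomp : ∀ j : Fin 3, (∀ v ∈ Quat3.neg z j, θ x v = v) ∨ (∀ v ∈ Quat3.neg z j, θ x v = -v) := by
        intro j
        have h1 : x.1 * x.1 = 1 := congrArg Prod.fst hx2
        have h2 : x.2.1 * x.2.1 = 1 := congrArg (fun x => x.2.1) hx2
        have h3 : x.2.2 * x.2.2 = 1 := congrArg (fun x => x.2.2) hx2
        have hone : ∀ (k : Fin 3) (q : QuaternionGroup 2), q * q = 1 →
            (∀ v ∈ Quat3.neg z j, θ (emb k q) v = v) ∨ (∀ v ∈ Quat3.neg z j, θ (emb k q) v = -v) := by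
          intro k q hqq
          rcases q8_sq q hqq with rfl | rfl
          · left
            intro v _
            rw [emb_one, map_one]
            rfl
          · by_cases hkj : j = k
            · right
              intro v hv
              rw [← hkj]
              exact Quat3.mem_neg.1 hv
            · left
              intro v hv
              exact htriv j k hkj v hv
        have hxx : ∀ v, θ x v = θ (emb 0 x.1) (θ (emb 1 x.2.1) (θ (emb 2 x.2.2) v)) := by
          intro v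
          conv_lhs => rw [eq_emb x]
          rw [map_mul, map_mul]
          rfl
        have hn : ∀ v ∈ Quat3.neg z j, -v ∈ Quat3.neg z j := fun v hv => (Quat3.neg z j).neg_mem hv
        rcases hone 0 _ h1 with g0 | g0 <;> rcases hone 1 _ h2 with g1 | g1 <;> rcases hone 2 _ h3 with g2 | g2
        · left; intro v hv; rw [hxx, g2 v hv, g1 v hv, g0 v hv]
        · right; intro v hv; rw [hxx, g2 v hv, map_neg, map_neg, g1 v hv, g0 v hv]
        · right; intro v hv; rw [hxx, g2 v hv, g1 v hv, map_neg, g0 v hv]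
        · left; intro v hv; rw [hxx, g2 v hv, map_neg, g1 v hv, neg_neg, g0 v hv]
        · right; intro v hv; rw [hxx, g2 v hv, g1 v hv, g0 v hv]
        · left; intro v hv; rw [hxx, g2 v hv, map_neg, map_neg, g1 v hv, g0 v hv, neg_neg]
        · left; intro v hv; rw [hxx, g2 v hv, g1 v hv, map_neg, g0 v hv, neg_neg]
        · right; intro v hv; rw [hxx, g2 v hv, map_neg, g1 v hv, neg_neg, g0 v hv]
      rcases hcomp j with h1 | h1
      · left
        intro u hu
        obtain ⟨huQ, h2⟩ := (hU j u).1 hu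
        exact (htriv_iff y u huQ).1 (by rw [hτy, h1 _ h2])
      · right
        intro u hu
        obtain ⟨huQ, h2⟩ := (hU j u).1 hu
        exact (hinv_iff y u huQ).1 (by rw [hτy, h1 _ h2])
  · intro i A hZA hA hex y hy
    obtain ⟨x, hxA, hxU, hxZ⟩ := hex
    obtain ⟨hxQ, hxn⟩ := (hU i x).1 hxU
    obtain ⟨hyQ, hyn⟩ := (hU i y).1 hy
    let v : V := m ⟨x, hxQ⟩
    let w : V := θ (emb i (QuaternionGroup.a 1)) v
    have hv0 : v ≠ 0 := fun h => hxZ ((hm0 _).1 h)
    have hwn : w ∈ Quat3.neg z i := hq.a_neg i i hxn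
    have hvw : ∀ c : ZMod 3, w ≠ c • v := by
      intro c hc
      have h1 : θ (emb i (QuaternionGroup.a 1)) w = -v := by
        have := hq.aav i v
        rw [Quat3.mem_neg.1 hxn] at this
        exact this
      rw [hc, map_smul] at h1
      change c • w = -v at h1
      rw [hc, smul_smul] at h1
      have h2 : (c * c + 1) • v = 0 := by rw [add_smul, one_smul, h1, neg_add_cancel]
      rcases smul_eq_zero.1 h2 with h3 | h3
      · exact sq_add_one_ne c h3
      · exact hv0 h3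
    -- `v`, `w` span
    have hli : LinearIndependent (ZMod 3) ![(⟨v, hxn⟩ : Quat3.neg z i), ⟨w, hwn⟩] := by
      rw [LinearIndependent.pair_iff]
      intro s t hst
      have h3 : s • v + t • w = 0 := congrArg Subtype.val hst
      have ht : t = 0 := by
        by_contra ht
        apply hvw (-(t⁻¹ * s))
        have h4 : t • w = -(s • v) := eq_neg_of_add_eq_zero_right h3
        calc w = t⁻¹ • t • w := by rw [smul_smul, inv_mul_cancel₀ ht, one_smul]
          _ = -(t⁻¹ * s) • v := by rw [h4, smul_neg, smul_smul, neg_smul]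
      rw [ht, zero_smul, add_zero] at h3
      exact ⟨(smul_eq_zero.1 h3).resolve_right hv0, ht⟩
    have hspan := hli.span_eq_top_of_card_eq_finrank' (by rw [hdim i]; rfl)
    have h1 : (⟨m ⟨y, hyQ⟩, hyn⟩ : Quat3.neg z i) ∈
        Submodule.span (ZMod 3) (Set.range ![(⟨v, hxn⟩ : Quat3.neg z i), ⟨w, hwn⟩]) := by
      rw [hspan]; trivial
    rw [Matrix.range_cons, Matrix.range_cons, Matrix.range_empty, Set.union_empty, Set.singleton_union,
      Submodule.mem_span_pair] at h1
    obtain ⟨s, t, hst⟩ := h1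
    have h2 : s • v + t • w = m ⟨y, hyQ⟩ := congrArg Subtype.val hst
    -- elements of `A`
    have hx' : w = m ⟨ρ (emb i (QuaternionGroup.a 1)) * x * (ρ (emb i (QuaternionGroup.a 1)))⁻¹, B.nQ _ _ hxQ⟩ :=
      hconj _ x hxQ
    have hsmul : ∀ (s : ZMod 3) (x : C) (hx : x ∈ Q), s • m ⟨x, hx⟩ = m ⟨x ^ s.val, Q.pow_mem hx _⟩ := by
      intro s x hx
      have h3 : ∀ n : ℕ, (n : ZMod 3) • m ⟨x, hx⟩ = m ⟨x ^ n, Q.pow_mem hx _⟩ := by
        intro n
        induction n with
        | zero =>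
          rw [Nat.cast_zero, zero_smul]
          exact ((hm0 _).2 (by simp)).symm
        | succ n ih =>
          rw [Nat.cast_succ, add_smul, one_smul, ih, ← hmm]
          exact congrArg m (Subtype.ext (pow_succ x n).symm)
      have h4 := h3 s.val
      rwa [ZMod.natCast_zmod_val] at h4
    rw [hx', hsmul, hsmul, ← hmm] at h2
    have h3 := (hm0 (⟨y, hyQ⟩ * (⟨x ^ s.val, Q.pow_mem hxQ _⟩ * ⟨(ρ (emb i (QuaternionGroup.a 1)) * x *
      (ρ (emb i (QuaternionGroup.a 1)))⁻¹) ^ t.val, Q.pow_mem (B.nQ _ _ hxQ) _⟩)⁻¹)).1 (by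
      rw [hmm, hmi, h2, add_neg_cancel])
    have h4 : y * (x ^ s.val * (ρ (emb i (QuaternionGroup.a 1)) * x *
      (ρ (emb i (QuaternionGroup.a 1)))⁻¹) ^ t.val)⁻¹ ∈ Z := h3
    have h5 : y = y * (x ^ s.val * (ρ (emb i (QuaternionGroup.a 1)) * x *
      (ρ (emb i (QuaternionGroup.a 1)))⁻¹) ^ t.val)⁻¹ * (x ^ s.val * (ρ (emb i (QuaternionGroup.a 1)) * x *
      (ρ (emb i (QuaternionGroup.a 1)))⁻¹) ^ t.val) := by group
    rw [h5]
    exact A.mul_mem (hZA h4) (A.mul_mem (A.pow_mem hxA _) (A.pow_mem (hA _ x hxA) _))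

end Cfsg.Agent.H349.T3
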