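import Cfsg.Agent.H349.T3.Wc
import Cfsg.Agent.H349.T3.FrameE
import Cfsg.Agent.H349.T3.CandOf2

/-!
# The local data of S3337 (helper349)
-/

set_option autoImplicit false

namespace Cfsg.Agent.H349.T3

open Cfsg Cfsg.Agent.H341.Weak Cfsg.Agent.H261 Subgroup

universe u

/-- abelian normal subgroups of the centralizer lie in `Q = F*(H)` -/
theorem fs_of {G : Type u} [Group G] {H : Subgroup G} [Finite H] {Q : Subgroup H}
    (hQF : Q = Cfsg.generalizedFittingSubgroup H) (A : Subgroup G) (hA : A ≤ H)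
    (hn : H ≤ normalizer (A : Set G)) (hab : ∀ a ∈ A, ∀ b ∈ A, a * b = b * a) : A ≤ Q.map H.subtype := by
  have h1 : (A.subgroupOf H).Normal := by
    refine ⟨fun x hx g => ?_⟩
    rw [Subgroup.mem_subgroupOf] at hx ⊢
    exact (mem_normalizer_iff.1 (hn g.2) x).1 hx
  have h2 : Group.IsNilpotent ↥(A.subgroupOf H) := by
    let _ : CommGroup ↥(A.subgroupOf H) :=
      { (inferInstance : Group ↥(A.subgroupOf H)) with
        mul_comm := by
          rintro ⟨a, ha⟩ ⟨b, hb⟩
          exact Subtype.ext (Subtype.ext (hab a ha b hb)) }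
    exact CommGroup.isNilpotent
  have h3 : A.subgroupOf H ≤ Q := by
    rw [hQF]
    exact (Cfsg.Agent.Lib.Cores.le_fittingSubgroup h1 h2).trans le_sup_right
  intro a ha
  exact ⟨⟨a, hA ha⟩, h3 ha, rfl⟩

theorem le_pCore_three {H : Type*} [Group H] {Q : Subgroup H} [hQn : Q.Normal] (hQcard : Nat.card Q = 3 ^ 7) :
    Q ≤ Cfsg.pCore 3 H :=
  Cfsg.Agent.Lib.Cores.le_pCore hQn (IsPGroup.of_card hQcard)

/-- **The local data of S3337.** -/
theorem setup37 {G : Type u} [Group G] [Finite G]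
    (H : Subgroup G) (Q : Subgroup H) (hQF : Q = Cfsg.generalizedFittingSubgroup H) [hQn : Q.Normal]
    (hQex : Cfsg.IsExtraspecial 3 Q) (hQcard : Nat.card Q = 3 ^ 7)
    (hZZ : (Subgroup.center Q).map Q.subtype = Subgroup.center H)
    (eO : Cfsg.pCore 2 (H ⧸ Q) ≃* QuaternionGroup 2 × QuaternionGroup 2 × QuaternionGroup 2)
    (Z : Subgroup G) (hZ : Z = (Subgroup.center H).map H.subtype) (hHC : H = Subgroup.centralizer (Z : Set G))
    (S : Sylow 3 G) (hZS : Z ≤ S) (hnwc : ¬ Cfsg.IsWeaklyClosed Z S) :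
    ∃ (U : Fin 3 → Subgroup G) (e : Fin 3 → G), Setup Z (Q.map H.subtype) U e ∧
      2 ^ 9 ∣ Nat.card (centralizer (Z : Set G)) := by
  have hp2 : Fact (Nat.Prime 2) := ⟨Nat.prime_two⟩
  have B := base_of Q hQF hQex hQcard hZZ
  obtain ⟨ρ, hρ⟩ := exists_hom Q (IsPGroup.of_card hQcard) eO
  obtain ⟨U, F0, hirr⟩ := frameE B eO ρ hρ
  have hHC' : H = Subgroup.centralizer (((Subgroup.center H).map H.subtype : Subgroup G) : Set G) := by
    rw [← hZ]; exact hHC
  have F := frame_of_sub F0 hHC'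
  rw [← hZ] at F
  have hcm : ∀ c, c ∈ H ↔ c ∈ centralizer (Z : Set G) := fun c => by rw [← hHC]
  refine ⟨_, _, ⟨F, ?_, ?_, ?_⟩, ?_⟩
  · intro A hAC hAn hab
    rw [← hHC] at hAC hAn
    exact fs_of hQF A hAC hAn hab
  · rintro i A hZA hA ⟨x, hxA, ⟨x', hx', rfl⟩, hxZ⟩
    have h1 := hirr i (A.subgroupOf H) ?_ ?_ ⟨x', hxA, hx', ?_⟩
    · rintro _ ⟨y, hy, rfl⟩
      exact h1 hy
    · intro z hz
      rw [Subgroup.mem_subgroupOf]
      apply hZA
      rw [hZ]
      exact ⟨z, hz, rfl⟩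
    · intro x y hy
      rw [Subgroup.mem_subgroupOf] at hy ⊢
      exact hA (ρ x : H) ((hcm _).1 (ρ x : H).2) y hy
    · intro h
      apply hxZ
      rw [hZ]
      exact ⟨x', h, rfl⟩
  · obtain ⟨g, hg1, hg2⟩ := exists_conj F (fun T hT hQT => le_cent_of_frame F T hT hQT) S hZS hnwc
    exact Cfsg.Agent.H341.Weak.main F g hg1 hg2
  · rw [← hHC]
    have h1 : Nat.card ↥(Cfsg.pCore 2 (↥H ⧸ Q)) = 2 ^ 9 := by
      rw [Nat.card_congr eO.toEquiv, Nat.card_prod, Nat.card_prod, Nat.card_eq_fintype_card, QuaternionGroup.card]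
      norm_num
    have h2 : Nat.card ↥(Cfsg.pCore 2 (↥H ⧸ Q)) ∣ Nat.card (↥H ⧸ Q) := Subgroup.card_subgroup_dvd_card _
    rw [h1] at h2
    rw [Subgroup.card_eq_card_quotient_mul_card_subgroup Q]
    exact Dvd.dvd.mul_right h2 _

/-- the index of a normal subgroup with trivial centralizer -/
theorem index_dvd_of_out {E : Type u} [Group E] [Finite E] (hc : Subgroup.center E = ⊥) {d n : ℕ}
    (hd : d * Nat.card E ∣ Nat.card (MulAut E)) (hn : (MulAut.conj : E →* MulAut E).range.index ∣ n) : d ∣ n := by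
  have h1 := Subgroup.card_mul_index (MulAut.conj : E →* MulAut E).range
  have h2 : Nat.card (MulAut.conj : E →* MulAut E).range = Nat.card E := by
    have h3 : Function.Injective (MulAut.conj : E →* MulAut E) := by
      rw [← MonoidHom.ker_eq_bot_iff, eq_bot_iff, ← hc]
      intro x hx
      rw [Subgroup.mem_center_iff]
      intro y
      have h4 : MulAut.conj x = 1 := hx
      have h5 : MulAut.conj x y = y := by rw [h4]; rfl
      rw [MulAut.conj_apply] at h5
      exact (mul_inv_eq_iff_eq_mul.1 h5).symm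
    exact (Nat.card_congr (MonoidHom.ofInjective h3).toEquiv).symm
  rw [h2] at h1
  rw [← h1, mul_comm] at hd
  exact (Nat.dvd_of_mul_dvd_mul_left Nat.card_pos hd).trans hn

end Cfsg.Agent.H349.T3
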