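import Cfsg.Agent.H349.T3.End
import Cfsg.Agent.H349.T3.Cons68
import Cfsg.Agent.H836.T3Move

/-!
# The end of S3368 (helper349)
-/

set_option autoImplicit false

namespace Cfsg.Agent.H349.T3

open Cfsg Cfsg.Agent.H341.Weak Cfsg.Agent.H261 Subgroup

universe u

theorem main68 {G : Type u} [Group G] [Finite G] {Z Q : Subgroup G} {U : Fin 3 → Subgroup G} {e : Fin 3 → G}
    {P : Subgroup G} (FP : FrameP Z Q U e P) (S : Sylow 3 G) (hZS : Z ≤ S) (hnwc : ¬ Cfsg.IsWeaklyClosed Z S) :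
    (∃ g : G, (∀ x ∈ Z, g * x * g⁻¹ ∈ Q) ∧ ¬ ∀ x ∈ Z, g * x * g⁻¹ ∈ Z) ∧
      (Spor.IsoFi22 G ∨ Nonempty (G ≃* MulAut Spor.Fi22)) := by
  have F := FP.toFrame
  obtain ⟨g, hg1, hg2⟩ := exists_conj F (fun T hT hQT => le_cent_of_frame F T hT hQT) S hZS hnwc
  have fus := Cfsg.Agent.H341.Weak.main F g hg1 hg2
  have mov := H836.T3Move.exists_moving F fus
  have hS := FP.setup mov fus
  refine ⟨fus, ?_⟩
  obtain ⟨E, hEn, hCE, ⟨z, k, hc, hdvd⟩, h1 | h1⟩ := hS.fin (m := 7) le_rfl FP.seven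
  · exfalso
    obtain ⟨K, _, _, hK, ⟨f⟩⟩ := h1
    have hz3 : z ^ 3 = 1 := by rw [← hc.oz, pow_orderOf_eq_one]
    exact FP.not_nine ((H449.T3Exc.nine hK f hz3).trans hdvd)
  · exact H834.TThree.fi22_or E h1 hCE

end Cfsg.Agent.H349.T3
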