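import Cfsg.Agent.H341.WeakDef

/-!
# The local data of S3368 (helper349)

`P` is the preimage in `C(Z)` of `O_2(C(Z)/Q)`, of order `2^7 * 3^7`.
-/

set_option autoImplicit false

namespace Cfsg.Agent.H349.T3

open Cfsg.Agent.H341.Weak Subgroup

/-- The local data of S3368: a frame together with the subgroup `P`. -/
structure FrameP {G : Type*} [Group G] (Z Q : Subgroup G) (U : Fin 3 → Subgroup G) (e : Fin 3 → G)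
    (P : Subgroup G) : Prop extends Frame Z Q U e where
  PC : P ≤ centralizer (Z : Set G)
  QP : Q ≤ P
  cardP : Nat.card P = 2 ^ 7 * 3 ^ 7
  PU : ∀ x ∈ P, ∀ i, ∀ u ∈ U i, x * u * x⁻¹ ∈ U i
  P4 : ∀ x ∈ P, ∀ i, ∀ u ∈ U i, x ^ 4 * u * (x ^ 4)⁻¹ * u⁻¹ ∈ Z
  P2 : ∀ x ∈ P, ∀ i, (∀ u ∈ U i, x ^ 2 * u * (x ^ 2)⁻¹ * u⁻¹ ∈ Z) →
    (∀ u ∈ U i, x * u * x⁻¹ * u⁻¹ ∈ Z) ∨ (∀ u ∈ U i, x * u * x⁻¹ * u ∈ Z)
  Pn : ∀ c ∈ centralizer (Z : Set G), ∀ x ∈ P, c * x * c⁻¹ ∈ P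
  Pmax : ∀ R : Subgroup G, Q ≤ R → R ≤ centralizer (Z : Set G) →
    (∀ c ∈ centralizer (Z : Set G), ∀ x ∈ R, c * x * c⁻¹ ∈ R) → (∀ x ∈ R, ∃ n : ℕ, x ^ (2 ^ n) ∈ Q) → R ≤ P
  fs : ∀ A : Subgroup G, A ≤ centralizer (Z : Set G) → centralizer (Z : Set G) ≤ normalizer (A : Set G) →
    (∀ a ∈ A, ∀ b ∈ A, a * b = b * a) → A ≤ Q

end Cfsg.Agent.H349.T3
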