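import Cfsg.Agent.H349.T3.SLRep
import Cfsg.Agent.H349.T3.Base

/-!
# Consequences of a frame: the order of the centralizer (helper349)
-/

set_option autoImplicit false

namespace Cfsg.Agent.H349.T3

open Cfsg.Agent.H341.Weak

/-- a subgroup of a group of order 27, containing a central subgroup of order three and two noncommuting elements -/
theorem le_of_noncomm {G : Type*} [Group G] {U W : Subgroup G} (hU : Nat.card U = 27) (hWU : W ≤ U) {x y z : G}
    (hx : x ∈ W) (hy : y ∈ W) (hxy : x * y ≠ y * x) (_hz : z ∈ W) : U ≤ W := by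
  classical
  have : Fact (Nat.Prime 3) := ⟨Nat.prime_three⟩
  have hfin : Finite ↥U := Nat.finite_of_card_ne_zero (by rw [hU]; norm_num)
  have hfinW : Finite ↥W := Finite.of_injective (Subgroup.inclusion hWU) (Subgroup.inclusion_injective hWU)
  have h1 : Nat.card W ∣ 3 ^ 3 := by
    have := Subgroup.card_dvd_of_le hWU
    rw [hU] at this
    exact this
  obtain ⟨n, hn, hW⟩ := (Nat.dvd_prime_pow Nat.prime_three).1 h1
  have hn3 : n = 3 := by
    by_contra hne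
    have h2 : n = 0 ∨ n = 1 ∨ n = 2 := by omega
    apply hxy
    have hcomm : ∀ a b : ↥W, a * b = b * a := by
      rcases h2 with rfl | rfl | rfl
      · have : Subsingleton ↥W := (Nat.card_eq_one_iff_unique.1 hW).1
        intro a b
        exact Subsingleton.elim _ _
      · have : IsCyclic ↥W := isCyclic_of_prime_card (p := 3) (by rw [hW, pow_one])
        intro a b
        exact (IsCyclic.commGroup (α := ↥W)).mul_comm a b
      · have h3 := IsPGroup.isMulCommutative_of_card_eq_prime_sq (G := ↥W) (p := 3) hW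
        exact h3.is_comm.comm
    exact congrArg Subtype.val (hcomm ⟨x, hx⟩ ⟨y, hy⟩)
  rw [hn3] at hW
  have h4 : W = U := by
    refine Subgroup.eq_of_le_of_card_ge hWU ?_
    rw [hU, hW]
    norm_num
  exact h4.ge

/-- an automorphism trivial on `U/Z` and `Z` is inner -/
theorem exists_inner {G : Type*} [Group G] {Z U : Subgroup G} (hZ3 : Nat.card Z = 3) (hU27 : Nat.card U = 27)
    (hZU : Z ≤ U) (hUZ : ∀ u ∈ U, ∀ z ∈ Z, u * z = z * u) (hcom : ∀ x ∈ U, ∀ y ∈ U, x * y * x⁻¹ * y⁻¹ ∈ Z)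
    (hcen : ∀ x ∈ U, (∀ y ∈ U, x * y = y * x) → x ∈ Z) {c : G}
    (hc : ∀ u ∈ U, c * u * c⁻¹ * u⁻¹ ∈ Z) : ∃ q ∈ U, ∀ u ∈ U, c * u * c⁻¹ = q * u * q⁻¹ := by
  classical
  have hfin : Finite ↥U := Nat.finite_of_card_ne_zero (by rw [hU27]; norm_num)
  have hfinZ : Finite ↥Z := Nat.finite_of_card_ne_zero (by rw [hZ3]; norm_num)
  obtain ⟨x, hxU, hxZ⟩ : ∃ x ∈ U, x ∉ Z := by
    by_contra hcon
    push Not at hcon
    have h1 : U = Z := le_antisymm hcon hZU
    rw [h1, hZ3] at hU27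
    omega
  obtain ⟨y, hyU, hxy⟩ : ∃ y ∈ U, x * y ≠ y * x := by
    by_contra hcon
    push Not at hcon
    exact hxZ (hcen x hxU hcon)
  -- a commutator map
  have hmul : ∀ v ∈ U, ∀ p ∈ U, ∀ q ∈ U, p * q * v * (p * q)⁻¹ * v⁻¹ =
      (p * v * p⁻¹ * v⁻¹) * (q * v * q⁻¹ * v⁻¹) := by
    intro v hv p hp q hq
    obtain ⟨w, hw⟩ : ∃ w, w = q * v * q⁻¹ * v⁻¹ := ⟨_, rfl⟩
    have hwZ : w ∈ Z := hw ▸ hcom q hq v hv
    have h1 : q * v * q⁻¹ = w * v := by rw [hw]; group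
    calc p * q * v * (p * q)⁻¹ * v⁻¹ = p * (q * v * q⁻¹) * p⁻¹ * v⁻¹ := by group
      _ = (p * w) * v * p⁻¹ * v⁻¹ := by rw [h1]; group
      _ = (w * p) * v * p⁻¹ * v⁻¹ := by rw [hUZ p hp w hwZ]
      _ = w * (p * v * p⁻¹ * v⁻¹) := by group
      _ = (p * v * p⁻¹ * v⁻¹) * w := (hUZ _ (hZU (hcom p hp v hv)) w hwZ).symm
      _ = (p * v * p⁻¹ * v⁻¹) * (q * v * q⁻¹ * v⁻¹) := by rw [hw]
  let f : ↥U →* ↥Z × ↥Z :=
    { toFun := fun q => (⟨q * x * (q : G)⁻¹ * x⁻¹, hcom q q.2 x hxU⟩, ⟨q * y * (q : G)⁻¹ * y⁻¹, hcom q q.2 y hyU⟩)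
      map_one' := by
        ext1
        · apply Subtype.ext; simp
        · apply Subtype.ext; simp
      map_mul' := by
        intro p q
        ext1
        · exact Subtype.ext (hmul x hxU p p.2 q q.2)
        · exact Subtype.ext (hmul y hyU p p.2 q q.2) }
  have hker : ∀ q : ↥U, q ∈ f.ker → (q : G) ∈ Z := by
    intro q hq
    have h1 : f q = 1 := hq
    have h2 : (q : G) * x * (q : G)⁻¹ * x⁻¹ = 1 := congrArg (fun t => ((Prod.fst t : ↥Z) : G)) h1
    have h3 : (q : G) * y * (q : G)⁻¹ * y⁻¹ = 1 := congrArg (fun t => ((Prod.snd t : ↥Z) : G)) h1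
    have h4 : U ≤ U ⊓ Subgroup.centralizer {(q : G)} := by
      refine le_of_noncomm hU27 inf_le_left (x := x) (y := y) (z := x) ⟨hxU, ?_⟩ ⟨hyU, ?_⟩ hxy ⟨hxU, ?_⟩
      · refine Subgroup.mem_centralizer_singleton_iff.2 ?_
        have h5 : (q : G) * x = x * q := mul_inv_eq_iff_eq_mul.1 (mul_inv_eq_one.1 h2)
        exact h5.symm
      · refine Subgroup.mem_centralizer_singleton_iff.2 ?_
        have h5 : (q : G) * y = y * q := mul_inv_eq_iff_eq_mul.1 (mul_inv_eq_one.1 h3)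
        exact h5.symm
      · refine Subgroup.mem_centralizer_singleton_iff.2 ?_
        have h5 : (q : G) * x = x * q := mul_inv_eq_iff_eq_mul.1 (mul_inv_eq_one.1 h2)
        exact h5.symm
    refine hcen q q.2 fun u hu => ?_
    exact (Subgroup.mem_centralizer_singleton_iff.1 (h4 hu).2).symm
  have hsurj : Function.Surjective f := by
    rw [← MonoidHom.range_eq_top]
    refine Subgroup.eq_top_of_card_eq _ ?_
    have h1 : Nat.card ↥f.ker ≤ 3 := by
      rw [← hZ3]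
      exact Nat.card_le_card_of_injective (fun q : ↥f.ker => (⟨((q : ↥U) : G), hker q q.2⟩ : ↥Z)) (by
        intro a b hab
        have := congrArg Subtype.val hab
        exact Subtype.ext (Subtype.ext this))
    have h2 := Subgroup.card_mul_index f.ker
    rw [Subgroup.index_ker, hU27] at h2
    have h3 : Nat.card (↥Z × ↥Z) = 9 := by rw [Nat.card_prod, hZ3]
    have h4 : Nat.card ↥f.range ≤ 9 := by
      rw [← h3]
      exact Subgroup.card_le_card_group _
    rw [h3]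
    have h5 : 0 < Nat.card ↥f.ker := Nat.card_pos
    obtain ⟨k, hk⟩ : ∃ k, k = Nat.card ↥f.ker := ⟨_, rfl⟩
    rw [← hk] at h1 h2 h5
    interval_cases k <;> omega
  obtain ⟨q, hq⟩ := hsurj (⟨c * x * c⁻¹ * x⁻¹, hc x hxU⟩, ⟨c * y * c⁻¹ * y⁻¹, hc y hyU⟩)
  have hqx : (q : G) * x * (q : G)⁻¹ * x⁻¹ = c * x * c⁻¹ * x⁻¹ := congrArg (fun t => ((Prod.fst t : ↥Z) : G)) hq
  have hqy : (q : G) * y * (q : G)⁻¹ * y⁻¹ = c * y * c⁻¹ * y⁻¹ := congrArg (fun t => ((Prod.snd t : ↥Z) : G)) hq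
  refine ⟨q, q.2, ?_⟩
  have h4 : U ≤ U ⊓ Subgroup.centralizer {(q : G)⁻¹ * c} := by
    have key : ∀ v, v ∈ U → (q : G) * v * (q : G)⁻¹ * v⁻¹ = c * v * c⁻¹ * v⁻¹ →
        v ∈ U ⊓ Subgroup.centralizer {(q : G)⁻¹ * c} := by
      intro v hv h
      refine ⟨hv, ?_⟩
      refine Subgroup.mem_centralizer_singleton_iff.2 ?_
      have h5 := mul_right_cancel h
      calc v * ((q : G)⁻¹ * c) = (q : G)⁻¹ * (q * v * (q : G)⁻¹) * c := by group
        _ = (q : G)⁻¹ * (c * v * c⁻¹) * c := by rw [h5]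
        _ = (q : G)⁻¹ * c * v := by group
    exact le_of_noncomm hU27 inf_le_left (key x hxU hqx) (key y hyU hqy) hxy (key x hxU hqx)
  intro u hu
  have h5 := Subgroup.mem_centralizer_singleton_iff.1 (h4 hu).2
  calc c * u * c⁻¹ = q * ((q : G)⁻¹ * c * u) * c⁻¹ := by group
    _ = q * (u * ((q : G)⁻¹ * c)) * c⁻¹ := by rw [h5]
    _ = q * u * (q : G)⁻¹ := by group

end Cfsg.Agent.H349.T3
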