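import Cfsg.Agent.H349.T3.Base
import Cfsg.Prelude.Def_Transfer
import Cfsg.Agent.Lib.GenFitting
import Cfsg.Agent.Lib.Cores
import Cfsg.Agent.H261.Reduction

/-!
# From the centralizer to the group (helper349)
-/

set_option autoImplicit false

namespace Cfsg.Agent.H349.T3

open Cfsg Cfsg.Agent.H341.Weak

/-- A frame of the subgroup `H = C_G(Z)` is a frame of `G`. -/
theorem frame_of_sub {G : Type*} [Group G] {H : Subgroup G} {Z Q : Subgroup H} {U : Fin 3 → Subgroup H}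
    {e : Fin 3 → H} (F : Frame Z Q U e) (hH : H = Subgroup.centralizer ((Z.map H.subtype : Subgroup G) : Set G)) :
    Frame (Z.map H.subtype) (Q.map H.subtype) (fun i => (U i).map H.subtype) (fun i => (e i : G)) := by
  have hcard : ∀ K : Subgroup H, Nat.card (K.map H.subtype) = Nat.card K := fun K =>
    Subgroup.card_map_of_injective H.subtype_injective
  have hcm : ∀ c (hc : c ∈ H), (⟨c, hc⟩ : H) ∈ Subgroup.centralizer (Z : Set H) := by
    intro c hc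
    have h1 := hc
    rw [hH, Subgroup.mem_centralizer_iff] at h1
    rw [Subgroup.mem_centralizer_iff]
    intro z hz
    exact Subtype.ext (h1 z ⟨z, hz, rfl⟩)
  have hC : ∀ c, c ∈ Subgroup.centralizer ((Z.map H.subtype : Subgroup G) : Set G) → c ∈ H := by
    intro c hc
    rw [hH]
    exact hc
  have hC' : ∀ c, c ∈ H → c ∈ Subgroup.centralizer ((Z.map H.subtype : Subgroup G) : Set G) := by
    intro c hc
    rw [hH] at hc
    exact hc
  have hmapC : ∀ K : Subgroup H, K.map H.subtype ≤ Subgroup.centralizer ((Z.map H.subtype : Subgroup G) : Set G) := by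
    rintro K _ ⟨x, -, rfl⟩
    exact hC' _ x.2
  refine ⟨?_, ?_, fun i => ?_, hmapC Q, ?_, ?_, ?_, ?_, ?_, ?_, ?_, ?_, ?_, ?_, ?_, ?_, ?_, ?_, ?_⟩
  · rw [hcard, F.cardZ]
  · rw [hcard, F.cardQ]
  · rw [hcard, F.cardU]
  · rintro c hc _ ⟨x, hx, rfl⟩
    exact ⟨_, F.conjQ ⟨c, hC c hc⟩ (hcm c _) x hx, rfl⟩
  · intro x hx
    have hxH : x ∈ H := by
      apply hC
      rw [Subgroup.mem_centralizer_iff] at hx ⊢
      rintro _ ⟨z, hz, rfl⟩
      exact hx _ ⟨z, F.UleQ 0 (F.ZleU 0 hz), rfl⟩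
    refine ⟨⟨x, hxH⟩, F.CQ ?_, rfl⟩
    rw [Subgroup.mem_centralizer_iff]
    rw [Subgroup.mem_centralizer_iff] at hx
    intro q hq
    exact Subtype.ext (hx _ ⟨q, hq, rfl⟩)
  · rintro _ ⟨x, hx, rfl⟩
    have := F.exp x hx
    exact congrArg Subtype.val this
  · rintro i _ ⟨x, hx, rfl⟩
    exact ⟨x, F.ZleU i hx, rfl⟩
  · rintro i _ ⟨x, hx, rfl⟩
    exact ⟨x, F.UleQ i hx, rfl⟩
  · rintro i j hij _ ⟨x, hx, rfl⟩ _ ⟨y, hy, rfl⟩
    exact congrArg Subtype.val (F.comm i j hij x hx y hy)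
  · rintro _ ⟨x, hx, rfl⟩ _ ⟨y, hy, rfl⟩
    exact ⟨_, F.comZ x hx y hy, rfl⟩
  · rintro _ ⟨x, hx, rfl⟩ h
    refine ⟨x, F.cenZ x hx fun y hy => Subtype.ext (h _ ⟨y, hy, rfl⟩), rfl⟩
  · rw [← Subgroup.map_sup, ← Subgroup.map_sup, ← F.sup]
  · intro c hc
    obtain ⟨s, hs⟩ := F.perm ⟨c, hC c hc⟩ (hcm c _)
    refine ⟨s, ?_⟩
    rintro i _ ⟨x, hx, rfl⟩
    exact ⟨_, hs i x hx, rfl⟩
  · intro i
    exact hC' _ (e i).2
  · intro i
    exact congrArg Subtype.val (F.e2 i)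
  · intro i j
    exact congrArg Subtype.val (F.ee i j)
  · rintro i j hij _ ⟨x, hx, rfl⟩
    exact congrArg Subtype.val (F.eU i j hij x hx)
  · rintro i _ ⟨x, hx, rfl⟩
    exact ⟨_, F.einv i x hx, rfl⟩

/-- The base of the statements. -/
theorem base_of {H : Type*} [Group H] [Finite H] (Q : Subgroup H) (hQF : Q = Cfsg.generalizedFittingSubgroup H)
    [hQn : Q.Normal] (hQex : Cfsg.IsExtraspecial 3 Q) (hQcard : Nat.card Q = 3 ^ 7)
    (hZZ : (Subgroup.center Q).map Q.subtype = Subgroup.center H) : Base (Subgroup.center H) Q := by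
  have hcen : ∀ x : H, x ∈ Q → (∀ y ∈ Q, x * y = y * x) → x ∈ Subgroup.center H := by
    intro x hx h
    rw [← hZZ]
    refine ⟨⟨x, hx⟩, ?_, rfl⟩
    rw [SetLike.mem_coe, Subgroup.mem_center_iff]
    intro y
    exact Subtype.ext (h y y.2).symm
  refine ⟨?_, hQcard, fun c x hx => hQn.conj_mem x hx c, ?_, ?_, ?_, ?_, hcen⟩
  · rw [← hZZ, Subgroup.card_map_of_injective Q.subtype_injective]
    exact hQex.2
  · have := Cfsg.Agent.Lib.GenFitting.centralizer_genFitting_le (G := H)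
    rw [← hQF] at this
    exact this
  · rw [← hZZ]
    exact Subgroup.map_subtype_le _
  · intro z hz c
    exact (Subgroup.mem_center_iff.1 hz c).symm
  · intro x hx y hy
    rw [← hZZ]
    have h1 : (⟨x, hx⟩ : Q) * ⟨y, hy⟩ * (⟨x, hx⟩ : Q)⁻¹ * (⟨y, hy⟩ : Q)⁻¹ ∈ commutator Q := by
      have := Subgroup.commutator_mem_commutator (Subgroup.mem_top (⟨x, hx⟩ : Q)) (Subgroup.mem_top (⟨y, hy⟩ : Q))
      exact this
    rw [hQex.1.2.2] at h1
    exact ⟨_, h1, rfl⟩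

end Cfsg.Agent.H349.T3
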