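import Cfsg.Agent.H349.T3.Card
import Cfsg.Agent.H349.T3.Transfer
import Cfsg.Agent.PLocal.OffenderBound

/-!
# Local analysis in a frame, part 1 (helper349)
-/

set_option autoImplicit false

namespace Cfsg.Agent.H349.T3

open Cfsg Cfsg.Agent.H341.Weak Cfsg.Agent.H261 Subgroup

universe u

/-- A frame with the remaining local hypotheses. -/
structure Setup {G : Type u} [Group G] (Z Q : Subgroup G) (U : Fin 3 → Subgroup G) (e : Fin 3 → G) : Prop
    extends Frame Z Q U e where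
  fs : ∀ A : Subgroup G, A ≤ centralizer (Z : Set G) → centralizer (Z : Set G) ≤ normalizer (A : Set G) →
    (∀ a ∈ A, ∀ b ∈ A, a * b = b * a) → A ≤ Q
  irr : ∀ i, ∀ A : Subgroup G, Z ≤ A → (∀ c ∈ centralizer (Z : Set G), ∀ y ∈ A, c * y * c⁻¹ ∈ A) →
    (∃ x ∈ A, x ∈ U i ∧ x ∉ Z) → U i ≤ A
  fus : ∃ g : G, (∀ x ∈ Z, g * x * g⁻¹ ∈ Q) ∧ ¬ ∀ x ∈ Z, g * x * g⁻¹ ∈ Z

namespace FrameL

variable {G : Type u} [Group G] {Z Q : Subgroup G} {U : Fin 3 → Subgroup G} {e : Fin 3 → G} (F : Frame Z Q U e)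
include F

/-- the `i`-th component of an element of an `e i`-invariant subgroup -/
theorem comp_mem {A : Subgroup G} (hZA : Z ≤ A) {i : Fin 3} (hA : ∀ x ∈ A, e i * x * (e i)⁻¹ ∈ A) {a y : G}
    (ha : a ∈ U i) (hy : e i * y * (e i)⁻¹ = y) (hay : a * y ∈ A) : a ∈ A := by
  obtain ⟨v, hv⟩ : ∃ v, v = e i * a * (e i)⁻¹ * a := ⟨_, rfl⟩
  have hvZ : v ∈ Z := hv ▸ F.einv i a ha
  have h1 : e i * a * (e i)⁻¹ = v * a⁻¹ := by rw [hv]; group
  have h2 : e i * (a * y) * (e i)⁻¹ = v * a⁻¹ * y := by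
    calc e i * (a * y) * (e i)⁻¹ = (e i * a * (e i)⁻¹) * (e i * y * (e i)⁻¹) := by group
      _ = v * a⁻¹ * y := by rw [h1, hy]
  have h3 := hA _ hay
  rw [h2] at h3
  have h4 : a * a = (a * y) * (v * a⁻¹ * y)⁻¹ * v := by
    calc a * a = (a * y) * (y⁻¹ * (a * 1)) := by group
      _ = (a * y) * (y⁻¹ * (a * (v⁻¹ * v))) := by rw [inv_mul_cancel]
      _ = _ := by group
  refine mem_of_sq F (F.UleQ i ha) ?_
  rw [h4]
  exact A.mul_mem (A.mul_mem hay (A.inv_mem h3)) (hZA hvZ)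

theorem e_fix {i j : Fin 3} (hij : j ≠ i) {x : G} (hx : x ∈ U j) : e i * x * (e i)⁻¹ = x := F.eU i j hij x hx

/-- an `e`-invariant subgroup of `Q` splits -/
theorem split_mem {A : Subgroup G} (hZA : Z ≤ A) (hA : ∀ i, ∀ x ∈ A, e i * x * (e i)⁻¹ ∈ A) {a b c : G}
    (ha : a ∈ U 0) (hb : b ∈ U 1) (hc : c ∈ U 2) (h : a * b * c ∈ A) : a ∈ A ∧ b ∈ A ∧ c ∈ A := by
  have hab := F.comm 0 1 (by decide) a ha b hb
  have hac := F.comm 0 2 (by decide) a ha c hc
  have hbc := F.comm 1 2 (by decide) b hb c hc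
  refine ⟨?_, ?_, ?_⟩
  · refine comp_mem F hZA (hA 0) ha (y := b * c) ?_ (by rwa [← mul_assoc])
    calc e 0 * (b * c) * (e 0)⁻¹ = (e 0 * b * (e 0)⁻¹) * (e 0 * c * (e 0)⁻¹) := by group
      _ = b * c := by rw [e_fix F (by decide) hb, e_fix F (by decide) hc]
  · refine comp_mem F hZA (hA 1) hb (y := a * c) ?_ ?_
    · calc e 1 * (a * c) * (e 1)⁻¹ = (e 1 * a * (e 1)⁻¹) * (e 1 * c * (e 1)⁻¹) := by group
        _ = a * c := by rw [e_fix F (by decide) ha, e_fix F (by decide) hc]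
    · rw [← mul_assoc, ← hab]; exact h
  · refine comp_mem F hZA (hA 2) hc (y := a * b) ?_ ?_
    · calc e 2 * (a * b) * (e 2)⁻¹ = (e 2 * a * (e 2)⁻¹) * (e 2 * b * (e 2)⁻¹) := by group
        _ = a * b := by rw [e_fix F (by decide) ha, e_fix F (by decide) hb]
    · have h1 : a * b * c = c * (a * b) := by
        calc a * b * c = a * (b * c) := by group
          _ = a * (c * b) := by rw [hbc]
          _ = (a * c) * b := by group
          _ = (c * a) * b := by rw [hac]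
          _ = _ := by group
      rwa [← h1]

/-- `U i` is not abelian -/
theorem exists_noncomm (i : Fin 3) : ∃ x ∈ U i, ∃ y ∈ U i, x * y ≠ y * x := by
  obtain ⟨x, hx, hxZ⟩ := exists_not_mem F i
  by_contra hcon
  push Not at hcon
  exact hxZ (cenU F hx (hcon x hx))

/-- a generator of `Z` -/
theorem exists_gen : ∃ z ∈ Z, z ≠ 1 ∧ Z = zpowers z := by
  have h1 : Z ≠ ⊥ := by
    intro hb
    have := F.cardZ
    rw [hb, Subgroup.card_bot] at this
    omega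
  obtain ⟨⟨z, hz⟩, hz0⟩ := Subgroup.ne_bot_iff_exists_ne_one.1 h1
  have hz1 : z ≠ 1 := fun h => hz0 (Subtype.ext h)
  refine ⟨z, hz, hz1, le_antisymm ?_ ((zpowers_le).2 hz)⟩
  exact eq_of_mem_of_card_prime Nat.prime_three F.cardZ hz hz1 (mem_zpowers z)

/-- elements of `Q` outside `Z` are conjugate to all their multiples by elements of `Z` -/
theorem conj_line {x : G} (hx : x ∈ Q) (hxZ : x ∉ Z) {w : G} (hw : w ∈ Z) : ∃ q ∈ Q, q * x * q⁻¹ = w * x := by
  obtain ⟨y, hy, hxy⟩ : ∃ y ∈ Q, x * y ≠ y * x := by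
    by_contra hcon
    push Not at hcon
    exact hxZ (F.cenZ x hx hcon)
  have hxC := F.QleC hx
  let W : Subgroup G :=
    { carrier := {w | w ∈ Z ∧ ∃ q ∈ Q, q * x * q⁻¹ = w * x}
      mul_mem' := by
        rintro a b ⟨ha, p, hp, hpa⟩ ⟨hb, q, hq, hqb⟩
        refine ⟨Z.mul_mem ha hb, p * q, Q.mul_mem hp hq, ?_⟩
        calc p * q * x * (p * q)⁻¹ = p * (q * x * q⁻¹) * p⁻¹ := by group
          _ = (p * b) * x * p⁻¹ := by rw [hqb]; group
          _ = (b * p) * x * p⁻¹ := by rw [zc F hb (F.QleC hp)]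
          _ = b * (p * x * p⁻¹) := by group
          _ = b * (a * x) := by rw [hpa]
          _ = (b * a) * x := by group
          _ = (a * b) * x := by rw [zc F hb (F.QleC (ZleQ F ha))]
      one_mem' := ⟨Z.one_mem, 1, Q.one_mem, by simp⟩
      inv_mem' := by
        rintro a ⟨ha, p, hp, hpa⟩
        refine ⟨Z.inv_mem ha, p⁻¹, Q.inv_mem hp, ?_⟩
        have h1 : x = p⁻¹ * (a * x) * p := by rw [← hpa]; group
        have h2 : p⁻¹ * (a * x) * p = a * (p⁻¹ * x * p) := by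
          calc p⁻¹ * (a * x) * p = (p⁻¹ * a) * x * p := by group
            _ = (a * p⁻¹) * x * p := by rw [zc F ha (F.QleC (Q.inv_mem hp))]
            _ = _ := by group
        rw [h2] at h1
        rw [inv_inv]
        exact (inv_mul_eq_of_eq_mul h1).symm }
  have h1 : y * x * y⁻¹ * x⁻¹ ∈ W := by
    refine ⟨F.comZ y hy x hx, y, hy, by group⟩
  have h2 : y * x * y⁻¹ * x⁻¹ ≠ 1 := by
    intro h
    apply hxy
    have h3 : y * x * y⁻¹ = x := mul_inv_eq_one.1 h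
    exact (mul_inv_eq_iff_eq_mul.1 h3).symm
  have h3 : Z ≤ W := eq_of_mem_of_card_prime Nat.prime_three F.cardZ (F.comZ y hy x hx) h2 h1
  exact (h3 hw).2

/-- a normal subgroup of `C(Z)` meeting `Q` trivially is trivial -/
theorem eq_bot_of_inf {A : Subgroup G} (hA : ∀ c ∈ Q, ∀ y ∈ A, c * y * c⁻¹ ∈ A)
    (hAC : A ≤ centralizer (Z : Set G)) (hAQ : ∀ x ∈ A, x ∈ Q → x = 1) : A = ⊥ := by
  rw [Subgroup.eq_bot_iff_forall]
  intro x hx
  have h1 : x ∈ centralizer (Q : Set G) := by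
    rw [Subgroup.mem_centralizer_iff]
    intro q hq
    have h2 : q * x * q⁻¹ * x⁻¹ ∈ A := A.mul_mem (hA q hq x hx) (A.inv_mem hx)
    have h3 : q * x * q⁻¹ * x⁻¹ ∈ Q := by
      have h4 : q * x * q⁻¹ * x⁻¹ = q * (x * q⁻¹ * x⁻¹) := by group
      rw [h4]
      exact Q.mul_mem hq (F.conjQ x (hAC hx) _ (Q.inv_mem hq))
    have h4 := hAQ _ h2 h3
    exact mul_inv_eq_iff_eq_mul.1 (mul_inv_eq_one.1 h4)
  exact hAQ x hx (F.CQ h1)

variable [Finite G]

/-- `O_{3'}(G) = 1` as soon as `Z` is not weakly closed in `Q` -/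
theorem primeCore (hf : ∃ g : G, (∀ x ∈ Z, g * x * g⁻¹ ∈ Q) ∧ ¬ ∀ x ∈ Z, g * x * g⁻¹ ∈ Z) :
    pPrimeCore 3 G = ⊥ := by
  classical
  have hp3 : Fact (Nat.Prime 3) := ⟨Nat.prime_three⟩
  obtain ⟨Y, hY⟩ : ∃ Y, Y = pPrimeCore 3 G := ⟨_, rfl⟩
  have hYn : Y.Normal := hY ▸ Cfsg.Agent.Lib.Cores.pPrimeCore_normal 3
  have hYc : (Nat.card Y).Coprime 3 := hY ▸ Cfsg.Agent.Lib.Cores.pPrimeCore_coprime 3
  rw [← hY]
  -- `C_Y(Z) = 1`
  have hCY : ∀ z ∈ Z, z ≠ 1 → ∀ y ∈ Y, z * y = y * z → y = 1 := by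
    intro z hz hz1 y hy hzy
    have h1 : Y ⊓ centralizer (Z : Set G) = ⊥ := by
      refine eq_bot_of_inf F (fun c hc y hy => ⟨hYn.conj_mem y hy.1 c, ?_⟩) inf_le_right ?_
      · exact (centralizer (Z : Set G)).mul_mem ((centralizer (Z : Set G)).mul_mem (F.QleC hc) hy.2)
          ((centralizer (Z : Set G)).inv_mem (F.QleC hc))
      · intro x hx hxQ
        have h2 : x ^ 3 = 1 := F.exp x hxQ
        have h3 : orderOf (⟨x, hx.1⟩ : Y) ∣ Nat.card Y := orderOf_dvd_natCard _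
        rw [Subgroup.orderOf_mk] at h3
        have h4 : orderOf x ∣ 3 := orderOf_dvd_of_pow_eq_one h2
        have h5 : orderOf x ∣ 1 := by
          rw [← hYc]
          exact Nat.dvd_gcd h3 h4
        exact orderOf_eq_one_iff.1 (Nat.dvd_one.1 h5)
    have h2 : Z ≤ zpowers z := eq_of_mem_of_card_prime Nat.prime_three F.cardZ hz hz1 (mem_zpowers z)
    have h3 : y ∈ Y ⊓ centralizer (Z : Set G) := by
      refine ⟨hy, ?_⟩
      refine Subgroup.mem_centralizer_iff.2 fun w hw => ?_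
      obtain ⟨n, rfl⟩ := Subgroup.mem_zpowers_iff.1 (h2 hw)
      have h4 : Commute z y := hzy
      exact (h4.zpow_left n).eq
    rw [h1] at h3
    exact Subgroup.mem_bot.1 h3
  obtain ⟨g, hgQ, hgZ⟩ := hf
  obtain ⟨z, hz, hz1, hZz⟩ := exists_gen F
  obtain ⟨t, ht⟩ : ∃ t, t = g * z * g⁻¹ := ⟨_, rfl⟩
  have htQ : t ∈ Q := ht ▸ hgQ z hz
  have htZ : t ∉ Z := by
    intro h
    apply hgZ
    intro x hx
    rw [hZz] at hx
    obtain ⟨n, rfl⟩ := Subgroup.mem_zpowers_iff.1 hx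
    rw [← conj_zpow, ← ht]
    exact Z.zpow_mem h n
  have htn : ∀ x, (∃ h, ∃ w ∈ Z, w ≠ 1 ∧ x = h * w * h⁻¹) → ∀ y ∈ Y, x * y = y * x → y = 1 := by
    rintro x ⟨h, w, hw, hw1, rfl⟩ y hy hxy
    have h1 : h⁻¹ * y * h ∈ Y := by
      have := hYn.conj_mem y hy h⁻¹
      rwa [inv_inv] at this
    have h2 := hCY w hw hw1 _ h1 (by
      calc w * (h⁻¹ * y * h) = h⁻¹ * (h * w * h⁻¹ * y) * h := by group
        _ = h⁻¹ * (y * (h * w * h⁻¹)) * h := by rw [hxy]
        _ = h⁻¹ * y * h * w := by group)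
    calc y = h * (h⁻¹ * y * h) * h⁻¹ := by group
      _ = 1 := by rw [h2]; group
  -- the group of order nine
  let S : Set G := {z, t}
  have hcomm : ∀ x ∈ S, ∀ y ∈ S, x * y = y * x := by
    have h1 : z * t = t * z := zc F hz (F.QleC htQ)
    rintro x (rfl | rfl) y (rfl | rfl)
    · rfl
    · exact h1
    · exact h1.symm
    · rfl
  have hSQ : Subgroup.closure S ≤ Q := by
    rw [Subgroup.closure_le]
    rintro x (rfl | rfl)
    · exact ZleQ F hz
    · exact htQ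
  let _ : CommGroup ↥(Subgroup.closure S) := Subgroup.closureCommGroupOfComm hcomm
  let ψ : ↥(Subgroup.closure S) →* MulAut ↥Y := (MulAut.conjNormal (H := Y)).comp (Subgroup.closure S).subtype
  let zz : ↥(Subgroup.closure S) := ⟨z, Subgroup.subset_closure (Or.inl rfl)⟩
  let tt : ↥(Subgroup.closure S) := ⟨t, Subgroup.subset_closure (Or.inr rfl)⟩
  have hfix : ∀ (c : ↥(Subgroup.closure S)) (y : ↥Y), ψ c y = y → (c : G) * y = y * c := by
    intro c y h
    have h1 : (c : G) * y * (c : G)⁻¹ = y := congrArg Subtype.val h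
    exact mul_inv_eq_iff_eq_mul.1 h1
  rw [Subgroup.eq_bot_iff_forall]
  intro y hy
  have hall := Cfsg.Agent.PLocal.OffenderBound.two_gen (A := ↥(Subgroup.closure S)) (p := 3)
    (fun a => Subtype.ext (F.exp _ (hSQ a.2))) tt zz (Nat.card Y) (Q := ↥Y) le_rfl hYc ψ
    (fun x hx c => by
      have h1 := hCY z hz hz1 x x.2 (hfix zz x hx)
      have h2 : x = 1 := Subtype.ext h1
      rw [h2, map_one])
    (fun i x hx c => by
      have h1 : ((tt * zz ^ i : ↥(Subgroup.closure S)) : G) = z ^ i * t := by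
        have h3 : Commute t (z ^ i) := (show Commute t z from (zc F hz (F.QleC htQ)).symm).pow_right i
        have h4 : ((tt * zz ^ i : ↥(Subgroup.closure S)) : G) = t * z ^ i := rfl
        rw [h4, h3.eq]
      obtain ⟨q, hq, hqt⟩ := conj_line F htQ htZ (w := z ^ i) (Z.pow_mem hz i)
      have h2 := htn (z ^ i * t) ⟨q * g, z, hz, hz1, by rw [← hqt, ht]; group⟩ x x.2 (by
        rw [← h1]; exact hfix _ x hx)
      have h3 : x = 1 := Subtype.ext h2
      rw [h3, map_one]) ⟨y, hy⟩ zz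
  exact hCY z hz hz1 y hy (hfix zz ⟨y, hy⟩ hall)

end FrameL

end Cfsg.Agent.H349.T3
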