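import Cfsg.Agent.H349.T3.Inner

/-!
# The order of the centralizer in a frame (helper349)
-/

set_option autoImplicit false

namespace Cfsg.Agent.H349.T3

open Cfsg.Agent.H341.Weak

namespace FrameL

universe u

variable {G : Type u} [Group G] {Z Q : Subgroup G} {U : Fin 3 → Subgroup G} {e : Fin 3 → G} (F : Frame Z Q U e)
include F

theorem zc {z : G} (hz : z ∈ Z) {c : G} (hc : c ∈ Subgroup.centralizer (Z : Set G)) : z * c = c * z :=
  Subgroup.mem_centralizer_iff.1 hc z hz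

theorem ZleQ : Z ≤ Q := (F.ZleU 0).trans (F.UleQ 0)

theorem UleC (i : Fin 3) : U i ≤ Subgroup.centralizer (Z : Set G) := (F.UleQ i).trans F.QleC

theorem cubeZ {z : G} (hz : z ∈ Z) : z ^ 3 = 1 := F.exp z (ZleQ F hz)

theorem eq_one_of_sq {x : G} (hx : x ∈ Q) (h : x * x = 1) : x = 1 := by
  have h1 := F.exp x hx
  rw [pow_succ, pow_two, h, one_mul] at h1
  exact h1

theorem mem_of_sq {x : G} (hx : x ∈ Q) {W : Subgroup G} (h : x * x ∈ W) : x ∈ W := by
  have h1 : x = (x * x) * (x * x) := by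
    have h2 := F.exp x hx
    calc x = x ^ 3 * x := by rw [h2, one_mul]
      _ = _ := by simp only [pow_succ, pow_zero, one_mul, mul_assoc]
  rw [h1]
  exact W.mul_mem h h

theorem dec {x : G} (hx : x ∈ Q) : ∃ a ∈ U 0, ∃ b ∈ U 1, ∃ c ∈ U 2, x = a * b * c := by
  let W : Subgroup G :=
    { carrier := {x | ∃ a ∈ U 0, ∃ b ∈ U 1, ∃ c ∈ U 2, x = a * b * c}
      mul_mem' := by
        rintro _ _ ⟨a, ha, b, hb, c, hc, rfl⟩ ⟨a', ha', b', hb', c', hc', rfl⟩
        refine ⟨a * a', (U 0).mul_mem ha ha', b * b', (U 1).mul_mem hb hb', c * c', (U 2).mul_mem hc hc', ?_⟩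
        have h1 := F.comm 0 1 (by decide) a' ha' b hb
        have h2 := F.comm 0 2 (by decide) a' ha' c hc
        have h3 := F.comm 1 2 (by decide) b' hb' c hc
        calc a * b * c * (a' * b' * c') = a * b * (c * a') * b' * c' := by group
          _ = a * (b * a') * c * b' * c' := by rw [← h2]; group
          _ = a * (a' * b) * c * b' * c' := by rw [h1]
          _ = a * a' * b * (c * b') * c' := by group
          _ = a * a' * b * (b' * c) * c' := by rw [h3]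
          _ = a * a' * (b * b') * (c * c') := by group
      one_mem' := ⟨1, (U 0).one_mem, 1, (U 1).one_mem, 1, (U 2).one_mem, by simp⟩
      inv_mem' := by
        rintro _ ⟨a, ha, b, hb, c, hc, rfl⟩
        refine ⟨a⁻¹, (U 0).inv_mem ha, b⁻¹, (U 1).inv_mem hb, c⁻¹, (U 2).inv_mem hc, ?_⟩
        have h1 := F.comm 0 1 (by decide) a⁻¹ ((U 0).inv_mem ha) b⁻¹ ((U 1).inv_mem hb)
        have h2 := F.comm 0 2 (by decide) a⁻¹ ((U 0).inv_mem ha) c⁻¹ ((U 2).inv_mem hc)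
        have h3 := F.comm 1 2 (by decide) b⁻¹ ((U 1).inv_mem hb) c⁻¹ ((U 2).inv_mem hc)
        calc (a * b * c)⁻¹ = c⁻¹ * b⁻¹ * a⁻¹ := by group
          _ = b⁻¹ * (c⁻¹ * a⁻¹) := by rw [← h3]; group
          _ = b⁻¹ * (a⁻¹ * c⁻¹) := by rw [h2]
          _ = (b⁻¹ * a⁻¹) * c⁻¹ := by group
          _ = a⁻¹ * b⁻¹ * c⁻¹ := by rw [← h1] }
  have h1 : Q ≤ W := by
    rw [F.sup]
    refine sup_le (sup_le ?_ ?_) ?_
    · intro x hx; exact ⟨x, hx, 1, (U 1).one_mem, 1, (U 2).one_mem, by simp⟩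
    · intro x hx; exact ⟨1, (U 0).one_mem, x, hx, 1, (U 2).one_mem, by simp⟩
    · intro x hx; exact ⟨1, (U 0).one_mem, 1, (U 1).one_mem, x, hx, by simp⟩
  exact h1 hx

/-- elements centralizing all blocks centralize `Q` -/
theorem comm_Q {c : G} (h : ∀ i, ∀ u ∈ U i, c * u = u * c) : ∀ q ∈ Q, c * q = q * c := by
  intro q hq
  obtain ⟨a, ha, b, hb, d, hd, rfl⟩ := dec F hq
  have e0 : Commute c a := h 0 a ha
  have e1 : Commute c b := h 1 b hb
  have e2 : Commute c d := h 2 d hd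
  exact ((e0.mul_right e1).mul_right e2).eq

theorem mem_Z_of_comm {c : G} (h : ∀ i, ∀ u ∈ U i, c * u = u * c) : c ∈ Z := by
  have h1 := comm_Q F h
  have h2 : c ∈ Q := F.CQ (Subgroup.mem_centralizer_iff.2 fun q hq => (h1 q hq).symm)
  exact F.cenZ c h2 h1

theorem cenU {i : Fin 3} {x : G} (hx : x ∈ U i) (h : ∀ y ∈ U i, x * y = y * x) : x ∈ Z := by
  refine mem_Z_of_comm F fun j u hu => ?_
  by_cases hij : i = j
  · subst hij; exact h u hu
  · exact F.comm i j hij x hx u hu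

theorem inf {i j : Fin 3} (hij : i ≠ j) {x : G} (hxi : x ∈ U i) (hxj : x ∈ U j) : x ∈ Z :=
  cenU F hxi fun y hy => (F.comm i j hij y hy x hxj).symm

theorem exists_not_mem (i : Fin 3) : ∃ x ∈ U i, x ∉ Z := by
  by_contra hcon
  push Not at hcon
  have h1 : U i = Z := le_antisymm hcon (F.ZleU i)
  have h2 := F.cardU i
  rw [h1, F.cardZ] at h2
  omega

/-- an element of `C(Z)` acting trivially on all blocks modulo `Z` lies in `Q` -/
theorem kernel {c : G} (h : ∀ i, ∀ u ∈ U i, c * u * c⁻¹ * u⁻¹ ∈ Z) : c ∈ Q := by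
  have hin : ∀ i, ∃ q ∈ U i, ∀ u ∈ U i, c * u * c⁻¹ = q * u * q⁻¹ := by
    intro i
    refine exists_inner F.cardZ (F.cardU i) (F.ZleU i) (fun u hu z hz => (zc F hz (UleC F i hu)).symm)
      (fun x hx y hy => F.comZ x (F.UleQ i hx) y (F.UleQ i hy)) (fun x hx hy => cenU F hx hy) (h i)
  choose q hqU hq using hin
  have hqq : q 0 * q 1 * q 2 ∈ Q :=
    Q.mul_mem (Q.mul_mem (F.UleQ 0 (hqU 0)) (F.UleQ 1 (hqU 1))) (F.UleQ 2 (hqU 2))
  have hact : ∀ i, ∀ u ∈ U i, (q 0 * q 1 * q 2) * u * (q 0 * q 1 * q 2)⁻¹ = q i * u * (q i)⁻¹ := by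
    intro i u hu
    have hcj : ∀ j, j ≠ i → ∀ v ∈ U i, q j * v * (q j)⁻¹ = v := by
      intro j hji v hv
      rw [F.comm j i hji (q j) (hqU j) v hv, mul_inv_cancel_right]
    have hi : i = 0 ∨ i = 1 ∨ i = 2 := by
      have h0 : ∀ i : Fin 3, i = 0 ∨ i = 1 ∨ i = 2 := by decide
      exact h0 i
    have hm : q i * u * (q i)⁻¹ ∈ U i := (U i).mul_mem ((U i).mul_mem (hqU i) hu) ((U i).inv_mem (hqU i))
    have h1 : (q 0 * q 1 * q 2) * u * (q 0 * q 1 * q 2)⁻¹ =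
        q 0 * (q 1 * (q 2 * u * (q 2)⁻¹) * (q 1)⁻¹) * (q 0)⁻¹ := by group
    rw [h1]
    rcases hi with rfl | rfl | rfl
    · rw [hcj 2 (by decide) u hu, hcj 1 (by decide) u hu]
    · rw [hcj 2 (by decide) u hu, hcj 0 (by decide) _ hm]
    · rw [hcj 1 (by decide) _ hm, hcj 0 (by decide) _ hm]
  have h2 : (q 0 * q 1 * q 2)⁻¹ * c ∈ Z := by
    refine mem_Z_of_comm F fun i u hu => ?_
    have h3 : c * u * c⁻¹ = (q 0 * q 1 * q 2) * u * (q 0 * q 1 * q 2)⁻¹ := by rw [hact i u hu, hq i u hu]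
    calc (q 0 * q 1 * q 2)⁻¹ * c * u = (q 0 * q 1 * q 2)⁻¹ * (c * u * c⁻¹) * c := by group
      _ = (q 0 * q 1 * q 2)⁻¹ * ((q 0 * q 1 * q 2) * u * (q 0 * q 1 * q 2)⁻¹) * c := by rw [h3]
      _ = u * ((q 0 * q 1 * q 2)⁻¹ * c) := by group
  have h3 : c = (q 0 * q 1 * q 2) * ((q 0 * q 1 * q 2)⁻¹ * c) := by group
  rw [h3]
  exact Q.mul_mem hqq (ZleQ F h2)

/-- the subgroup normalizing all blocks -/
def K (_ : Frame Z Q U e) : Subgroup G where
  carrier := {c | c ∈ Subgroup.centralizer (Z : Set G) ∧ ∀ i, ∀ x, x ∈ U i ↔ c * x * c⁻¹ ∈ U i}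
  mul_mem' := by
    rintro a b ⟨ha, ha'⟩ ⟨hb, hb'⟩
    refine ⟨mul_mem ha hb, fun i x => ?_⟩
    rw [hb' i x, ha' i]
    have h1 : a * (b * x * b⁻¹) * a⁻¹ = a * b * x * (a * b)⁻¹ := by group
    rw [h1]
  one_mem' := ⟨one_mem _, fun i x => by simp⟩
  inv_mem' := by
    rintro a ⟨ha, ha'⟩
    refine ⟨inv_mem ha, fun i x => ?_⟩
    rw [ha' i (a⁻¹ * x * a⁻¹⁻¹)]
    have h1 : a * (a⁻¹ * x * a⁻¹⁻¹) * a⁻¹ = x := by group
    rw [h1]

omit F in
theorem mem_K {F : Frame Z Q U e} {c : G} :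
    c ∈ K F ↔ c ∈ Subgroup.centralizer (Z : Set G) ∧ ∀ i, ∀ x, x ∈ U i ↔ c * x * c⁻¹ ∈ U i := Iff.rfl

theorem QleK : Q ≤ K F := by
  intro q hq
  refine ⟨F.QleC hq, fun i x => ?_⟩
  have key : ∀ q ∈ Q, ∀ x ∈ U i, q * x * q⁻¹ ∈ U i := by
    intro q hq x hx
    have h1 := F.comZ q hq x (F.UleQ i hx)
    have h2 : q * x * q⁻¹ = (q * x * q⁻¹ * x⁻¹) * x := by group
    rw [h2]
    exact (U i).mul_mem (F.ZleU i h1) hx
  refine ⟨key q hq x, fun h => ?_⟩
  have h1 := key q⁻¹ (Q.inv_mem hq) _ h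
  have h2 : q⁻¹ * (q * x * q⁻¹) * q⁻¹⁻¹ = x := by group
  rwa [h2] at h1

/-- the blocks are permuted, with equality -/
theorem perm_iff [Finite G] {c : G} (hc : c ∈ Subgroup.centralizer (Z : Set G)) :
    ∃ s : Equiv.Perm (Fin 3), ∀ i x, x ∈ U i ↔ c * x * c⁻¹ ∈ U (s i) := by
  obtain ⟨s, hs⟩ := F.perm c hc
  refine ⟨s, fun i x => ⟨fun hx => hs i x hx, fun hx => ?_⟩⟩
  let f : ↥(U i) → ↥(U (s i)) := fun u => ⟨c * u * c⁻¹, hs i u u.2⟩
  have hf : Function.Injective f := by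
    intro u v huv
    have h5 : c * (u : G) * c⁻¹ = c * v * c⁻¹ := congrArg Subtype.val huv
    exact Subtype.ext (mul_left_cancel (mul_right_cancel h5))
  have hb : Function.Bijective f := by
    have := Fintype.ofFinite ↥(U i)
    have := Fintype.ofFinite ↥(U (s i))
    rw [Fintype.bijective_iff_injective_and_card]
    refine ⟨hf, ?_⟩
    rw [← Nat.card_eq_fintype_card, ← Nat.card_eq_fintype_card, F.cardU, F.cardU]
  obtain ⟨u, hu⟩ := hb.2 ⟨_, hx⟩
  have h5 : c * (u : G) * c⁻¹ = c * x * c⁻¹ := congrArg Subtype.val hu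
  rw [← mul_left_cancel (mul_right_cancel h5)]
  exact u.2

/-- uniqueness of the permutation -/
theorem perm_unique {c : G} {s t : Fin 3 → Fin 3}
    (hs : ∀ i x, x ∈ U i → c * x * c⁻¹ ∈ U (s i)) (ht : ∀ i x, x ∈ U i → c * x * c⁻¹ ∈ U (t i))
    (hc : c ∈ Subgroup.centralizer (Z : Set G)) : s = t := by
  funext i
  by_contra hne
  obtain ⟨x, hx, hxZ⟩ := exists_not_mem F i
  apply hxZ
  have h1 := inf F hne (hs i x hx) (ht i x hx)
  have h2 : x = c⁻¹ * (c * x * c⁻¹) * c := by group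
  rw [h2, mul_assoc, zc F h1 hc, ← mul_assoc, inv_mul_cancel, one_mul]
  exact h1

/-- the permutation representation on the blocks -/
theorem exists_perm [Finite G] : ∃ π : ↥(Subgroup.centralizer (Z : Set G)) →* Equiv.Perm (Fin 3),
    (∀ (c : ↥(Subgroup.centralizer (Z : Set G))) (i : Fin 3) (x : G), x ∈ U i ↔ (c : G) * x * (c : G)⁻¹ ∈ U (π c i)) ∧
    π.ker = (K F).subgroupOf (Subgroup.centralizer (Z : Set G)) := by
  have h1 := fun c : ↥(Subgroup.centralizer (Z : Set G)) => perm_iff F c.2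
  choose s hs using h1
  have hone : s 1 = 1 := by
    apply Equiv.ext
    have := perm_unique F (c := 1) (s := s 1) (t := id) (fun i x hx => by
      have := (hs 1 i x).1 hx
      simpa using this) (fun i x hx => by simpa using hx) (one_mem _)
    exact fun i => congrFun this i
  have hmul : ∀ c d, s (c * d) = s c * s d := by
    intro c d
    apply Equiv.ext
    have := perm_unique F (c := (c * d : ↥(Subgroup.centralizer (Z : Set G)))) (s := s (c * d))
      (t := fun i => s c (s d i)) (fun i x hx => (hs (c * d) i x).1 hx) (fun i x hx => by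
        have h2 := (hs c _ _).1 ((hs d i x).1 hx)
        have h3 : ((c * d : ↥(Subgroup.centralizer (Z : Set G))) : G) * x *
            ((c * d : ↥(Subgroup.centralizer (Z : Set G))) : G)⁻¹ = c * (d * x * (d : G)⁻¹) * (c : G)⁻¹ := by
          push_cast
          group
        rw [h3]
        exact h2) (c * d).2
    exact fun i => congrFun this i
  refine ⟨⟨⟨s, hone⟩, hmul⟩, hs, ?_⟩
  ext c
  rw [MonoidHom.mem_ker, Subgroup.mem_subgroupOf, mem_K]
  constructor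
  · intro h
    refine ⟨c.2, fun i x => ?_⟩
    have h2 : s c = 1 := h
    have h3 := hs c i x
    rw [h2] at h3
    exact h3
  · rintro ⟨-, h⟩
    change s c = 1
    apply Equiv.ext
    have := perm_unique F (c := (c : G)) (s := s c) (t := id) (fun i x hx => (hs c i x).1 hx)
      (fun i x hx => (h i x).1 hx) c.2
    exact fun i => congrFun this i

theorem KleC : K F ≤ Subgroup.centralizer (Z : Set G) := fun _ hc => hc.1

/-- the homomorphism of `K` to `SL₂(3)³` -/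
theorem exists_sl3 : ∃ σ : Fin 3 → (↥(K F) →* Matrix.SpecialLinearGroup (Fin 2) (ZMod 3)),
      (∀ i (k : K F), σ i k = 1 ↔ ∀ u ∈ U i, (k : G) * u * (k : G)⁻¹ * u⁻¹ ∈ Z) ∧
      (∀ i (k : K F), σ i k = -1 ↔ ∀ u ∈ U i, (k : G) * u * (k : G)⁻¹ * u ∈ Z) := by
  have h := fun i : Fin 3 => exists_sl (K := K F) F.cardZ (F.cardU i) (F.ZleU i)
    (fun k hk z hz => (zc F hz hk.1).symm) (fun u hu z hz => (zc F hz (UleC F i hu)).symm)
    (fun k hk u hu => (hk.2 i u).1 hu) (fun x hx y hy => F.comZ x (F.UleQ i hx) y (F.UleQ i hy))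
    (fun x hx => by rw [F.exp x (F.UleQ i hx)]; exact Z.one_mem) (fun x hx hy => cenU F hx hy)
  choose σ h1 h2 using h
  exact ⟨σ, h1, h2⟩

end FrameL

end Cfsg.Agent.H349.T3
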