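import Cfsg.Agent.H349.T3.Local

/-!
# Local analysis in a frame, part 2: `Q ≤ E` (helper349)
-/

set_option autoImplicit false

namespace Cfsg.Agent.H349.T3

open Cfsg Cfsg.Agent.H341.Weak Cfsg.Agent.H261 Subgroup

universe u

namespace Setup

variable {G : Type u} [Group G] {Z Q : Subgroup G} {U : Fin 3 → Subgroup G} {e : Fin 3 → G} (S : Setup Z Q U e)
include S

theorem sup_conj {A : Subgroup G} (hn : centralizer (Z : Set G) ≤ normalizer (A : Set G)) {c : G}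
    (hc : c ∈ centralizer (Z : Set G)) {y : G} (hy : y ∈ A ⊔ Z) : c * y * c⁻¹ ∈ A ⊔ Z := by
  have h1 : (A ⊔ Z).map (MulAut.conj c).toMonoidHom ≤ A ⊔ Z := by
    rw [Subgroup.map_sup]
    refine sup_le_sup ?_ ?_
    · rintro _ ⟨x, hx, rfl⟩
      exact (mem_normalizer_iff.1 (hn hc) x).1 hx
    · rintro _ ⟨x, hx, rfl⟩
      change c * x * c⁻¹ ∈ Z
      rw [← FrameL.zc S.toFrame hx hc, mul_inv_cancel_right]
      exact hx
  exact h1 ⟨y, hy, rfl⟩

theorem loc : Loc 3 Z Q := by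
  have F := S.toFrame
  refine ⟨F.cardZ, FrameL.ZleQ F, F.QleC, IsPGroup.of_card F.cardQ, ?_, F.CQ, ?_⟩
  · exact le_normalizer_of_conj fun c hc y hy => F.conjQ c hc y hy
  · intro A hAC hAn hab
    have hAQ := S.fs A hAC hAn hab
    have hcomm : ∀ x ∈ A ⊔ Z, ∀ y ∈ A ⊔ Z, x * y = y * x := by
      have h0 : A ≤ centralizer (A : Set G) := fun a ha => mem_centralizer_iff.2 fun b hb => hab b hb a ha
      have hZA : Z ≤ centralizer (A : Set G) := by
        intro z hz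
        exact mem_centralizer_iff.2 fun a ha => (FrameL.zc F hz (hAC ha)).symm
      have hZZ : Z ≤ centralizer (Z : Set G) := (FrameL.ZleQ F).trans F.QleC
      have h1 : A ⊔ Z ≤ centralizer ((A ⊔ Z : Subgroup G) : Set G) := by
        refine sup_le ?_ ?_
        · rw [Subgroup.le_centralizer_iff]
          exact sup_le h0 hZA
        · rw [Subgroup.le_centralizer_iff]
          exact sup_le hAC hZZ
      intro x hx y hy
      exact mem_centralizer_iff.1 (h1 hy) x hx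
    intro x hx
    by_contra hxZ
    have hinv := fun (c : G) (hc : c ∈ centralizer (Z : Set G)) (y : G) (hy : y ∈ A ⊔ Z) => S.sup_conj hAn hc hy
    obtain ⟨a, ha, b, hb, c, hc, rfl⟩ := FrameL.dec F (hAQ hx)
    obtain ⟨h0, h1, h2⟩ := FrameL.split_mem F (A := A ⊔ Z) le_sup_right (fun i x hx => hinv _ (F.eC i) x hx) ha hb hc
      (le_sup_left (a := A) hx)
    have key : ∀ i, ∀ v ∈ U i, v ∈ A ⊔ Z → v ∈ Z := by
      intro i v hv hvA
      by_contra hvZ
      have h3 := S.irr i (A ⊔ Z) le_sup_right hinv ⟨v, hvA, hv, hvZ⟩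
      obtain ⟨p, hp, q, hq, hpq⟩ := FrameL.exists_noncomm F i
      exact hpq (hcomm p (h3 hp) q (h3 hq))
    exact hxZ (Z.mul_mem (Z.mul_mem (key 0 a ha h0) (key 1 b hb h1)) (key 2 c hc h2))

section

variable {E : Subgroup G} [hEn : E.Normal] (hZE : Z ≤ E)
include hZE

/-- each block is contained in `E` or meets it in `Z` -/
theorem alt (i : Fin 3) : U i ≤ E ∨ ∀ x ∈ U i, x ∈ E → x ∈ Z := by
  by_cases h : ∃ x ∈ E ⊓ Q, x ∈ U i ∧ x ∉ Z
  · left
    refine (S.irr i (E ⊓ Q) (le_inf hZE (FrameL.ZleQ S.toFrame)) ?_ h).trans inf_le_left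
    intro c hc y hy
    exact ⟨hEn.conj_mem y hy.1 c, S.conjQ c hc y hy.2⟩
  · right
    intro x hx hxE
    by_contra hxZ
    exact h ⟨x, ⟨hxE, S.UleQ i hx⟩, hx, hxZ⟩

omit hZE hEn in
/-- component in a centralized block -/
theorem comp_central {i : Fin 3} {a y : G} (ha : a ∈ U i) (hy : ∀ u ∈ U i, y * u = u * y)
    (h : ∀ u ∈ U i, (a * y) * u = u * (a * y)) : a ∈ Z := by
  refine FrameL.cenU S.toFrame ha fun u hu => ?_
  have h1 := h u hu
  have h2 : (a * u) * y = (u * a) * y := by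
    calc (a * u) * y = a * (u * y) := by group
      _ = a * (y * u) := by rw [hy u hu]
      _ = (a * y) * u := by group
      _ = u * (a * y) := h1
      _ = (u * a) * y := by group
  exact mul_right_cancel h2

omit hZE hEn in
/-- elements of `Q` centralizing `U j` and `U k` lie in `U i` -/
theorem mem_block {i j k : Fin 3} (hij : j ≠ i) (hik : k ≠ i) (hjk : j ≠ k) {x : G} (hx : x ∈ Q)
    (hj : ∀ u ∈ U j, x * u = u * x) (hk : ∀ u ∈ U k, x * u = u * x) : x ∈ U i := by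
  have F := S.toFrame
  have h0 : ∀ i j k : Fin 3, j ≠ i → k ≠ i → j ≠ k → ∀ a ∈ U i, ∀ b ∈ U j, ∀ c ∈ U k,
      (∀ u ∈ U j, a * b * c * u = u * (a * b * c)) → (∀ u ∈ U k, a * b * c * u = u * (a * b * c)) →
      a * b * c ∈ U i := by
    intro i j k hij hik hjk a ha b hb c hc h1 h2
    have hab := F.comm i j hij.symm a ha b hb
    have hac := F.comm i k hik.symm a ha c hc
    have hbc := F.comm j k hjk b hb c hc
    have hbZ : b ∈ Z := by
      refine S.comp_central (i := j) hb (y := a * c) ?_ ?_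
      · intro u hu
        have e1 : Commute a u := F.comm i j hij.symm a ha u hu
        have e2 : Commute c u := F.comm k j hjk.symm c hc u hu
        exact (e1.mul_left e2).eq
      · intro u hu
        have e3 : b * (a * c) = a * b * c := by rw [← mul_assoc, ← hab]
        rw [e3]
        exact h1 u hu
    have hcZ : c ∈ Z := by
      refine S.comp_central (i := k) hc (y := a * b) ?_ ?_
      · intro u hu
        have e1 : Commute a u := F.comm i k hik.symm a ha u hu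
        have e2 : Commute b u := F.comm j k hjk b hb u hu
        exact (e1.mul_left e2).eq
      · intro u hu
        have e3 : c * (a * b) = a * b * c := by
          calc c * (a * b) = (c * a) * b := by group
            _ = (a * c) * b := by rw [hac]
            _ = a * (c * b) := by group
            _ = a * (b * c) := by rw [hbc]
            _ = _ := by group
        rw [e3]
        exact h2 u hu
    exact (U i).mul_mem ((U i).mul_mem ha (F.ZleU i hbZ)) (F.ZleU i hcZ)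
  obtain ⟨a, ha, b, hb, c, hc, rfl⟩ := FrameL.dec F hx
  have hab := F.comm 0 1 (by decide) a ha b hb
  have hac := F.comm 0 2 (by decide) a ha c hc
  have hbc := F.comm 1 2 (by decide) b hb c hc
  have e1 : a * b * c = a * c * b := by rw [mul_assoc, hbc, ← mul_assoc]
  have e2 : a * b * c = b * a * c := by rw [hab]
  have e3 : a * b * c = b * c * a := by rw [hab, mul_assoc, hac, ← mul_assoc]
  have e4 : a * b * c = c * a * b := by rw [e1, hac]
  have e5 : a * b * c = c * b * a := by rw [e3, hbc]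
  have hcase : ∀ i j k : Fin 3, j ≠ i → k ≠ i → j ≠ k →
      (i = 0 ∧ j = 1 ∧ k = 2) ∨ (i = 0 ∧ j = 2 ∧ k = 1) ∨ (i = 1 ∧ j = 0 ∧ k = 2) ∨ (i = 1 ∧ j = 2 ∧ k = 0) ∨
      (i = 2 ∧ j = 0 ∧ k = 1) ∨ (i = 2 ∧ j = 1 ∧ k = 0) := by
    intro i j k
    fin_cases i <;> fin_cases j <;> fin_cases k <;> simp
  rcases hcase i j k hij hik hjk with ⟨rfl, rfl, rfl⟩ | ⟨rfl, rfl, rfl⟩ | ⟨rfl, rfl, rfl⟩ | ⟨rfl, rfl, rfl⟩ |
    ⟨rfl, rfl, rfl⟩ | ⟨rfl, rfl, rfl⟩
  · exact h0 0 1 2 (by decide) (by decide) (by decide) a ha b hb c hc hj hk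
  · rw [e1] at hj hk ⊢
    exact h0 0 2 1 (by decide) (by decide) (by decide) a ha c hc b hb hj hk
  · rw [e2] at hj hk ⊢
    exact h0 1 0 2 (by decide) (by decide) (by decide) b hb a ha c hc hj hk
  · rw [e3] at hj hk ⊢
    exact h0 1 2 0 (by decide) (by decide) (by decide) b hb c hc a ha hj hk
  · rw [e4] at hj hk ⊢
    exact h0 2 0 1 (by decide) (by decide) (by decide) c hc a ha b hb hj hk
  · rw [e5] at hj hk ⊢
    exact h0 2 1 0 (by decide) (by decide) (by decide) c hc b hb a ha hj hk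

/-- an element of `C_E(Z)` centralizes the blocks not contained in `E`, and the involution. -/
theorem central [Finite G] {i : Fin 3} (hi : ¬ U i ≤ E) {d : G} (hdE : d ∈ E) (hdC : d ∈ centralizer (Z : Set G)) :
    e i * d = d * e i ∧ ∀ u ∈ U i, d * u = u * d := by
  have F := S.toFrame
  have hiZ : ∀ x ∈ U i, x ∈ E → x ∈ Z := (S.alt hZE i).resolve_left hi
  have hinvE : ∀ x ∈ E ⊓ Q, e i * x * (e i)⁻¹ ∈ E ⊓ Q := fun x hx =>
    ⟨hEn.conj_mem x hx.1 _, F.conjQ _ (F.eC i) x hx.2⟩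
  obtain ⟨s, hs⟩ := FrameL.perm_iff F hdC
  have hcom : ∀ u ∈ Q, d * u * d⁻¹ * u⁻¹ ∈ E ⊓ Q := by
    intro u hu
    refine ⟨?_, Q.mul_mem (F.conjQ d hdC u hu) (Q.inv_mem hu)⟩
    have h1 : d * u * d⁻¹ * u⁻¹ = d * (u * d⁻¹ * u⁻¹) := by group
    rw [h1]
    exact E.mul_mem hdE (hEn.conj_mem _ (E.inv_mem hdE) u)
  -- `s i = i`
  have hsi : s i = i := by
    by_contra hne
    obtain ⟨u, hu, huZ⟩ := FrameL.exists_not_mem F i
    have h1 : d * u * d⁻¹ ∈ U (s i) := (hs i u).1 hu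
    have h2 := hcom u (F.UleQ i hu)
    have h3 : d * u * d⁻¹ * u⁻¹ = u⁻¹ * (d * u * d⁻¹) := F.comm (s i) i hne _ h1 _ ((U i).inv_mem hu)
    rw [h3] at h2
    have h4 := FrameL.comp_mem F (le_inf hZE (FrameL.ZleQ F)) hinvE ((U i).inv_mem hu) (F.eU i (s i) hne _ h1) h2
    exact huZ (inv_mem_iff.1 (hiZ _ ((U i).inv_mem hu) h4.1))
  have hZ : ∀ u ∈ U i, d * u * d⁻¹ * u⁻¹ ∈ Z := by
    intro u hu
    have h1 : d * u * d⁻¹ ∈ U i := by
      have := (hs i u).1 hu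
      rwa [hsi] at this
    exact hiZ _ ((U i).mul_mem h1 ((U i).inv_mem hu)) (hcom u (F.UleQ i hu)).1
  -- the commutator with `e i`
  obtain ⟨x, hx⟩ : ∃ x, x = e i * d * (e i)⁻¹ * d⁻¹ := ⟨_, rfl⟩
  have hee : (e i)⁻¹ = e i := inv_eq_of_mul_eq_one_left (F.e2 i)
  have hxE : x ∈ E := by
    rw [hx]
    exact E.mul_mem (hEn.conj_mem d hdE _) (E.inv_mem hdE)
  have hxC : x ∈ centralizer (Z : Set G) := by
    rw [hx]
    exact mul_mem (mul_mem (mul_mem (F.eC i) hdC) (inv_mem (F.eC i))) (inv_mem hdC)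
  have hxconj : ∀ u, x * u * x⁻¹ = e i * (d * ((e i)⁻¹ * (d⁻¹ * u * d) * e i) * d⁻¹) * (e i)⁻¹ := by
    intro u
    rw [hx]
    group
  have hxj : ∀ j, j ≠ i → ∀ u ∈ U j, x * u * x⁻¹ = u := by
    intro j hji u hu
    have h1 : d⁻¹ * u * d ∈ U (s.symm j) := by
      rw [hs, Equiv.apply_symm_apply]
      have h2 : d * (d⁻¹ * u * d) * d⁻¹ = u := by group
      rw [h2]
      exact hu
    have h2 : s.symm j ≠ i := by
      intro h3
      apply hji
      rw [← hsi, ← h3, Equiv.apply_symm_apply]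
    have h3 : (e i)⁻¹ * (d⁻¹ * u * d) * e i = d⁻¹ * u * d := by
      have := F.eU i _ h2 _ h1
      rw [hee] at this ⊢
      exact this
    rw [hxconj, h3]
    have h4 : d * (d⁻¹ * u * d) * d⁻¹ = u := by group
    rw [h4]
    exact F.eU i j hji u hu
  have hxi : ∀ u ∈ U i, x * u * x⁻¹ * u⁻¹ ∈ Z := by
    intro u hu
    -- work modulo `Z`
    have hdinv : d⁻¹ * u * d * u⁻¹ ∈ Z := by
      have h1 : d⁻¹ * u * d ∈ U i := by
        rw [hs i, hsi]
        have h2 : d * (d⁻¹ * u * d) * d⁻¹ = u := by group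
        rw [h2]
        exact hu
      have h2 := hZ _ h1
      have h3 : d * (d⁻¹ * u * d) * d⁻¹ * (d⁻¹ * u * d)⁻¹ = (d⁻¹ * u * d * u⁻¹)⁻¹ := by group
      rw [h3] at h2
      exact inv_mem_iff.1 h2
    obtain ⟨w, hw⟩ : ∃ w, w = d⁻¹ * u * d * u⁻¹ := ⟨_, rfl⟩
    rw [← hw] at hdinv
    have h1 : d⁻¹ * u * d = w * u := by rw [hw]; group
    obtain ⟨v, hv⟩ : ∃ v, v = e i * u * (e i)⁻¹ * u := ⟨_, rfl⟩
    have hvZ : v ∈ Z := hv ▸ F.einv i u hu
    have h2 : (e i)⁻¹ * u * e i = v * u⁻¹ := by rw [hv, hee]; group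
    have hwe : (e i)⁻¹ * w * e i = w := by
      rw [mul_assoc, FrameL.zc F hdinv (F.eC i), ← mul_assoc, inv_mul_cancel, one_mul]
    have h3 : (e i)⁻¹ * (d⁻¹ * u * d) * e i = w * (v * u⁻¹) := by
      rw [h1]
      calc (e i)⁻¹ * (w * u) * e i = ((e i)⁻¹ * w * e i) * ((e i)⁻¹ * u * e i) := by group
        _ = w * (v * u⁻¹) := by rw [hwe, h2]
    obtain ⟨w', hw'⟩ : ∃ w', w' = d * u⁻¹ * d⁻¹ * u⁻¹⁻¹ := ⟨_, rfl⟩
    have hw'Z : w' ∈ Z := hw' ▸ hZ u⁻¹ ((U i).inv_mem hu)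
    have h4 : d * u⁻¹ * d⁻¹ = w' * u⁻¹ := by rw [hw']; group
    have hd : ∀ y ∈ Z, d * y * d⁻¹ = y := by
      intro y hy
      rw [← FrameL.zc F hy hdC, mul_inv_cancel_right]
    have h5 : d * (w * (v * u⁻¹)) * d⁻¹ = w * v * w' * u⁻¹ := by
      calc d * (w * (v * u⁻¹)) * d⁻¹ = (d * w * d⁻¹) * (d * v * d⁻¹) * (d * u⁻¹ * d⁻¹) := by group
        _ = w * v * w' * u⁻¹ := by rw [hd w hdinv, hd v hvZ, h4]; group
    have he : ∀ y ∈ Z, e i * y * (e i)⁻¹ = y := by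
      intro y hy
      rw [← FrameL.zc F hy (F.eC i), mul_inv_cancel_right]
    have h6 : e i * u⁻¹ * (e i)⁻¹ = u * v⁻¹ := by
      have : e i * u * (e i)⁻¹ = v * u⁻¹ := by rw [hv]; group
      calc e i * u⁻¹ * (e i)⁻¹ = (e i * u * (e i)⁻¹)⁻¹ := by group
        _ = u * v⁻¹ := by rw [this]; group
    rw [hxconj, h3, h5]
    have h7 : e i * (w * v * w' * u⁻¹) * (e i)⁻¹ = w * v * w' * (u * v⁻¹) := by
      calc e i * (w * v * w' * u⁻¹) * (e i)⁻¹ = (e i * (w * v * w') * (e i)⁻¹) * (e i * u⁻¹ * (e i)⁻¹) := by group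
        _ = w * v * w' * (u * v⁻¹) := by rw [he _ (Z.mul_mem (Z.mul_mem hdinv hvZ) hw'Z), h6]
    rw [h7]
    have h8 : w * v * w' * (u * v⁻¹) * u⁻¹ = w * v * w' * v⁻¹ := by
      have h9 : u * v⁻¹ = v⁻¹ * u := (FrameL.zc F (Z.inv_mem hvZ) (FrameL.UleC F i hu)).symm
      rw [h9]
      group
    rw [h8]
    exact Z.mul_mem (Z.mul_mem (Z.mul_mem hdinv hvZ) hw'Z) (Z.inv_mem hvZ)
  have hxQ : x ∈ Q := by
    refine FrameL.kernel F fun j u hu => ?_
    by_cases hji : j = i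
    · subst hji; exact hxi u hu
    · rw [hxj j hji u hu, mul_inv_cancel]; exact Z.one_mem
  obtain ⟨j, k, hji, hki, hjk⟩ : ∃ j k : Fin 3, j ≠ i ∧ k ≠ i ∧ j ≠ k := by
    have h0 : ∀ i : Fin 3, ∃ j k : Fin 3, j ≠ i ∧ k ≠ i ∧ j ≠ k := by decide
    exact h0 i
  have hxUi : x ∈ U i := by
    refine S.mem_block hji hki hjk hxQ ?_ ?_
    · intro u hu
      exact mul_inv_eq_iff_eq_mul.1 (hxj j hji u hu)
    · intro u hu
      exact mul_inv_eq_iff_eq_mul.1 (hxj k hki u hu)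
  have hxZ : x ∈ Z := hiZ x hxUi hxE
  have h1 : e i * d = x * d * e i := by rw [hx]; group
  have hx1 : x = 1 := by
    refine FrameL.eq_one_of_sq F hxQ ?_
    have h2 : d = x * x * d := by
      calc d = (e i * e i) * d := by rw [F.e2 i, one_mul]
        _ = e i * (e i * d) := by group
        _ = e i * (x * d * e i) := by rw [h1]
        _ = (e i * x) * d * e i := by group
        _ = (x * e i) * d * e i := by rw [FrameL.zc F hxZ (F.eC i)]
        _ = x * (e i * d) * e i := by group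
        _ = x * (x * d * e i) * e i := by rw [h1]
        _ = x * x * d * (e i * e i) := by group
        _ = x * x * d := by rw [F.e2 i, mul_one]
    have h3 : 1 * d = x * x * d := by rw [one_mul]; exact h2
    exact (mul_right_cancel h3).symm
  have hed : e i * d = d * e i := by rw [h1, hx1, one_mul]
  refine ⟨hed, fun u hu => ?_⟩
  obtain ⟨w, hw⟩ : ∃ w, w = d * u * d⁻¹ * u⁻¹ := ⟨_, rfl⟩
  have hwZ : w ∈ Z := hw ▸ hZ u hu
  have h2 : d * u * d⁻¹ = w * u := by rw [hw]; group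
  obtain ⟨v, hv⟩ : ∃ v, v = e i * u * (e i)⁻¹ * u := ⟨_, rfl⟩
  have hvZ : v ∈ Z := hv ▸ F.einv i u hu
  have h3 : e i * u * (e i)⁻¹ = v * u⁻¹ := by rw [hv]; group
  have hd : ∀ y ∈ Z, d * y * d⁻¹ = y := by
    intro y hy
    rw [← FrameL.zc F hy hdC, mul_inv_cancel_right]
  -- conjugate by `e i`
  have h4 : d * (v * u⁻¹) * d⁻¹ = w * (v * u⁻¹) := by
    calc d * (v * u⁻¹) * d⁻¹ = d * (e i * u * (e i)⁻¹) * d⁻¹ := by rw [h3]
      _ = (d * e i) * u * (d * e i)⁻¹ := by group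
      _ = (e i * d) * u * (e i * d)⁻¹ := by rw [hed]
      _ = e i * (d * u * d⁻¹) * (e i)⁻¹ := by group
      _ = e i * (w * u) * (e i)⁻¹ := by rw [h2]
      _ = (e i * w) * u * (e i)⁻¹ := by group
      _ = (w * e i) * u * (e i)⁻¹ := by rw [FrameL.zc F hwZ (F.eC i)]
      _ = w * (e i * u * (e i)⁻¹) := by group
      _ = w * (v * u⁻¹) := by rw [h3]
  have h5 : d * (v * u⁻¹) * d⁻¹ = v * (u⁻¹ * w⁻¹) := by
    calc d * (v * u⁻¹) * d⁻¹ = (d * v * d⁻¹) * (d * u * d⁻¹)⁻¹ := by group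
      _ = v * (w * u)⁻¹ := by rw [hd v hvZ, h2]
      _ = _ := by group
  have h6 : w * w = 1 := by
    have h7 : w * (v * u⁻¹) = w⁻¹ * (v * u⁻¹) := by
      rw [← h4, h5]
      have h8 : w⁻¹ * (v * u⁻¹) = (v * u⁻¹) * w⁻¹ :=
        FrameL.zc F (Z.inv_mem hwZ) (mul_mem (FrameL.UleC F i (F.ZleU i hvZ)) (inv_mem (FrameL.UleC F i hu)))
      rw [h8]
      group
    have h8 := mul_right_cancel h7
    nth_rw 1 [h8]
    exact inv_mul_cancel w
  have hw1 : w = 1 := FrameL.eq_one_of_sq F (FrameL.ZleQ F hwZ) h6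
  rw [hw1, one_mul] at h2
  exact mul_inv_eq_iff_eq_mul.1 h2

end

end Setup

end Cfsg.Agent.H349.T3
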