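import Cfsg.Agent.H349.T3.Row37
import Cfsg.Agent.H349.T3.FrameP

/-!
# The frame of S3368 (helper349)
-/

set_option autoImplicit false

namespace Cfsg.Agent.H349.T3

open Cfsg Cfsg.Agent.H341.Weak Cfsg.Agent.H261 Subgroup

universe u

namespace Base

variable {C : Type u} [Group C] {Z Q : Subgroup C} (B : Base Z Q)
include B

/-- an element acting trivially on all blocks modulo `Z` lies in `Q` -/
theorem kernel {U : Fin 3 → Subgroup C} (cardU : ∀ i, Nat.card (U i) = 27) (ZleU : ∀ i, Z ≤ U i)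
    (UleQ : ∀ i, U i ≤ Q) (sup : Q = U 0 ⊔ U 1 ⊔ U 2)
    (comm : ∀ i j, i ≠ j → ∀ x ∈ U i, ∀ y ∈ U j, x * y = y * x) {c : C}
    (h : ∀ i, ∀ u ∈ U i, c * u * c⁻¹ * u⁻¹ ∈ Z) : c ∈ Q := by
  have hgen : ∀ d : C, (∀ i, ∀ u ∈ U i, d * u = u * d) → ∀ q ∈ Q, d * q = q * d := by
    intro d hd q hq
    have h1 : Q ≤ centralizer ({d} : Set C) := by
      rw [sup]
      refine sup_le (sup_le ?_ ?_) ?_ <;>
      · intro u hu
        rw [mem_centralizer_singleton_iff]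
        exact (hd _ u hu).symm
    exact (mem_centralizer_singleton_iff.1 (h1 hq)).symm
  have hcen : ∀ i, ∀ x ∈ U i, (∀ y ∈ U i, x * y = y * x) → x ∈ Z := by
    intro i x hx hy
    refine B.cenZ x (UleQ i hx) (hgen x fun j u hu => ?_)
    by_cases hij : i = j
    · subst hij
      exact hy u hu
    · exact comm i j hij x hx u hu
  have hin : ∀ i, ∃ q ∈ U i, ∀ u ∈ U i, c * u * c⁻¹ = q * u * q⁻¹ := by
    intro i
    refine exists_inner B.cardZ (cardU i) (ZleU i) (fun u hu z hz => (B.Zc z hz u).symm)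
      (fun x hx y hy => B.comZ x (UleQ i hx) y (UleQ i hy)) (fun x hx hy => hcen i x hx hy) (h i)
  choose q hqU hq using hin
  have hqq : q 0 * q 1 * q 2 ∈ Q :=
    Q.mul_mem (Q.mul_mem (UleQ 0 (hqU 0)) (UleQ 1 (hqU 1))) (UleQ 2 (hqU 2))
  have hact : ∀ i, ∀ u ∈ U i, (q 0 * q 1 * q 2) * u * (q 0 * q 1 * q 2)⁻¹ = q i * u * (q i)⁻¹ := by
    intro i u hu
    have hcj : ∀ j, j ≠ i → ∀ v ∈ U i, q j * v * (q j)⁻¹ = v := by
      intro j hji v hv
      rw [comm j i hji (q j) (hqU j) v hv, mul_inv_cancel_right]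
    have hi : i = 0 ∨ i = 1 ∨ i = 2 := by
      have h0 : ∀ i : Fin 3, i = 0 ∨ i = 1 ∨ i = 2 := by decide
      exact h0 i
    have hm : q i * u * (q i)⁻¹ ∈ U i := (U i).mul_mem ((U i).mul_mem (hqU i) hu) ((U i).inv_mem (hqU i))
    have h1 : (q 0 * q 1 * q 2) * u * (q 0 * q 1 * q 2)⁻¹ =
        q 0 * (q 1 * (q 2 * u * (q 2)⁻¹) * (q 1)⁻¹) * (q 0)⁻¹ := by group
    rw [h1]
    rcases hi with rfl | rfl | rfl
    · rw [hcj 2 (by decide) u hu, hcj 1 (by decide) u hu]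
    · rw [hcj 2 (by decide) u hu, hcj 0 (by decide) _ hm]
    · rw [hcj 1 (by decide) _ hm, hcj 0 (by decide) _ hm]
  have h2 : (q 0 * q 1 * q 2)⁻¹ * c ∈ centralizer (Q : Set C) := by
    rw [mem_centralizer_iff]
    intro x hx
    refine (hgen _ (fun i u hu => ?_) x hx).symm
    have h3 : c * u * c⁻¹ = (q 0 * q 1 * q 2) * u * (q 0 * q 1 * q 2)⁻¹ := by rw [hact i u hu, hq i u hu]
    calc (q 0 * q 1 * q 2)⁻¹ * c * u = (q 0 * q 1 * q 2)⁻¹ * (c * u * c⁻¹) * c := by group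
      _ = (q 0 * q 1 * q 2)⁻¹ * ((q 0 * q 1 * q 2) * u * (q 0 * q 1 * q 2)⁻¹) * c := by rw [h3]
      _ = u * ((q 0 * q 1 * q 2)⁻¹ * c) := by group
  have h3 : c = (q 0 * q 1 * q 2) * ((q 0 * q 1 * q 2)⁻¹ * c) := by group
  rw [h3]
  exact Q.mul_mem hqq (B.CQ h2)

end Base

/-- the three blocks -/
def blk {H : Type u} [Group H] (Q₁ Q₂ Q₃ : Subgroup H) : Fin 3 → Subgroup H := ![Q₁, Q₂, Q₃]

theorem blk_mem {H : Type u} [Group H] {Q₁ Q₂ Q₃ : Subgroup H} (i : Fin 3) :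
    blk Q₁ Q₂ Q₃ i ∈ [Q₁, Q₂, Q₃] := by
  fin_cases i <;> simp [blk]

/-- **The local data of S3368.** -/
theorem frame68 {G : Type u} [Group G] [Finite G]
    (H : Subgroup G) (Q : Subgroup H) (hQF : Q = Cfsg.generalizedFittingSubgroup H) [hQn : Q.Normal]
    (hQex : Cfsg.IsExtraspecial 3 Q) (hQcard : Nat.card Q = 3 ^ 7)
    (hZZ : (Subgroup.center Q).map Q.subtype = Subgroup.center H)
    (P : Subgroup H) (hP : P = (Cfsg.pCore 2 (H ⧸ Q)).comap (QuotientGroup.mk' Q))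
    (hPcard : Nat.card (Cfsg.pCore 2 (H ⧸ Q)) = 2 ^ 7)
    (Q₁ Q₂ Q₃ : Subgroup H) (hle : Q₁ ≤ Q ∧ Q₂ ≤ Q ∧ Q₃ ≤ Q)
    (hZle : Subgroup.center H ≤ Q₁ ∧ Subgroup.center H ≤ Q₂ ∧ Subgroup.center H ≤ Q₃)
    (hcard : Nat.card Q₁ = 27 ∧ Nat.card Q₂ = 27 ∧ Nat.card Q₃ = 27)
    (hcomm : (∀ a ∈ Q₁, ∀ b ∈ Q₂, a * b = b * a) ∧ (∀ a ∈ Q₁, ∀ b ∈ Q₃, a * b = b * a) ∧ (∀ a ∈ Q₂, ∀ b ∈ Q₃, a * b = b * a))
    (hprod : Q₁ ⊔ Q₂ ⊔ Q₃ = Q)
    (hnorm : ∀ x ∈ P, ∀ Qᵢ ∈ [Q₁, Q₂, Q₃], ∀ q ∈ Qᵢ, x * q * x⁻¹ ∈ Qᵢ)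
    (hexp4 : ∀ x ∈ P, ∀ Qᵢ ∈ [Q₁, Q₂, Q₃], ∀ q ∈ Qᵢ, x ^ 4 * q * (x ^ 4)⁻¹ * q⁻¹ ∈ Subgroup.center H)
    (hinv : ∀ x ∈ P, ∀ Qᵢ ∈ [Q₁, Q₂, Q₃], (∀ q ∈ Qᵢ, x ^ 2 * q * (x ^ 2)⁻¹ * q⁻¹ ∈ Subgroup.center H) →
      (∀ q ∈ Qᵢ, x * q * x⁻¹ * q⁻¹ ∈ Subgroup.center H) ∨ (∀ q ∈ Qᵢ, x * q * x⁻¹ * q ∈ Subgroup.center H))
    (hcent : ∀ Qᵢ ∈ [Q₁, Q₂, Q₃], ∃ x ∈ P, (∀ q ∈ Qᵢ, x * q * x⁻¹ * q ∈ Subgroup.center H) ∧
      ∀ Qⱼ ∈ [Q₁, Q₂, Q₃], Qⱼ ≠ Qᵢ → ∀ q ∈ Qⱼ, x * q * x⁻¹ * q⁻¹ ∈ Subgroup.center H)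
    (Z : Subgroup G) (hZ : Z = (Subgroup.center H).map H.subtype) (hHC : H = Subgroup.centralizer (Z : Set G)) :
    ∃ (U : Fin 3 → Subgroup G) (e : Fin 3 → G), FrameP Z (Q.map H.subtype) U e (P.map H.subtype) := by
  classical
  have hp2 : Fact (Nat.Prime 2) := ⟨Nat.prime_two⟩
  have B := base_of Q hQF hQex hQcard hZZ
  obtain ⟨ρ, hρ⟩ := exists_hom Q (IsPGroup.of_card hQcard) (MulEquiv.refl ↥(Cfsg.pCore 2 (H ⧸ Q)))
  have hPmem : ∀ x : H, x ∈ P ↔ QuotientGroup.mk' Q x ∈ Cfsg.pCore 2 (H ⧸ Q) := by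
    intro x
    rw [hP]
    rfl
  have hPn : P.Normal := by
    rw [hP]
    exact (Cfsg.Agent.Lib.Cores.pCore_normal 2).comap _
  have hQP : Q ≤ P := by
    intro q hq
    rw [hPmem]
    have : QuotientGroup.mk' Q q = 1 := (QuotientGroup.eq_one_iff q).2 hq
    rw [this]
    exact one_mem _
  -- the blocks
  obtain ⟨U, hU⟩ : ∃ U : Fin 3 → Subgroup H, U = blk Q₁ Q₂ Q₃ := ⟨_, rfl⟩
  have hUmem : ∀ i, U i ∈ [Q₁, Q₂, Q₃] := fun i => hU ▸ blk_mem i
  have hU0 : U 0 = Q₁ := by rw [hU]; rfl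
  have hU1 : U 1 = Q₂ := by rw [hU]; rfl
  have hU2 : U 2 = Q₃ := by rw [hU]; rfl
  have hi3 : ∀ i : Fin 3, i = 0 ∨ i = 1 ∨ i = 2 := by decide
  have cardU : ∀ i, Nat.card (U i) = 27 := by
    intro i
    rcases hi3 i with rfl | rfl | rfl
    · rw [hU0]; exact hcard.1
    · rw [hU1]; exact hcard.2.1
    · rw [hU2]; exact hcard.2.2
  have ZleU : ∀ i, Subgroup.center H ≤ U i := by
    intro i
    rcases hi3 i with rfl | rfl | rfl
    · rw [hU0]; exact hZle.1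
    · rw [hU1]; exact hZle.2.1
    · rw [hU2]; exact hZle.2.2
  have UleQ : ∀ i, U i ≤ Q := by
    intro i
    rcases hi3 i with rfl | rfl | rfl
    · rw [hU0]; exact hle.1
    · rw [hU1]; exact hle.2.1
    · rw [hU2]; exact hle.2.2
  have sup : Q = U 0 ⊔ U 1 ⊔ U 2 := by rw [hU0, hU1, hU2, hprod]
  have comm : ∀ i j, i ≠ j → ∀ x ∈ U i, ∀ y ∈ U j, x * y = y * x := by
    intro i j hij x hx y hy
    rcases hi3 i with rfl | rfl | rfl <;> rcases hi3 j with rfl | rfl | rfl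
    · exact absurd rfl hij
    · rw [hU0] at hx; rw [hU1] at hy; exact hcomm.1 x hx y hy
    · rw [hU0] at hx; rw [hU2] at hy; exact hcomm.2.1 x hx y hy
    · rw [hU1] at hx; rw [hU0] at hy; exact (hcomm.1 y hy x hx).symm
    · exact absurd rfl hij
    · rw [hU1] at hx; rw [hU2] at hy; exact hcomm.2.2 x hx y hy
    · rw [hU2] at hx; rw [hU0] at hy; exact (hcomm.2.1 y hy x hx).symm
    · rw [hU2] at hx; rw [hU1] at hy; exact (hcomm.2.2 y hy x hx).symm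
    · exact absurd rfl hij
  -- `U i ≠ U j`
  have hne : ∀ i j, i ≠ j → U i ≠ U j := by
    intro i j hij heq
    have h1 : U i ≤ Subgroup.center H := by
      intro x hx
      refine B.cenZ x (UleQ i hx) ?_
      have h2 : Q ≤ centralizer ({x} : Set H) := by
        rw [sup]
        have h3 : ∀ k, U k ≤ centralizer ({x} : Set H) := by
          intro k u hu
          rw [mem_centralizer_singleton_iff]
          by_cases hik : i = k
          · subst hik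
            exact (comm j i hij.symm x (heq ▸ hx) u hu).symm
          · exact (comm i k hik x hx u hu).symm
        exact sup_le (sup_le (h3 0) (h3 1)) (h3 2)
      intro y hy
      exact (mem_centralizer_singleton_iff.1 (h2 hy)).symm
    have h2 := card_dvd_of_le h1
    rw [cardU, B.cardZ] at h2
    omega
  -- the involutions
  choose x hxP hxi hxj using fun i => hcent (U i) (hUmem i)
  have hxj' : ∀ i j, j ≠ i → ∀ q ∈ U j, x i * q * (x i)⁻¹ * q⁻¹ ∈ Subgroup.center H :=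
    fun i j hij => hxj i (U j) (hUmem j) (hne j i hij)
  obtain ⟨r, hr⟩ : ∃ r : Fin 3 → H, r = fun i => ρ ⟨QuotientGroup.mk' Q (x i), (hPmem _).1 (hxP i)⟩ := ⟨_, rfl⟩
  have hrx : ∀ i, QuotientGroup.mk' Q (r i) = QuotientGroup.mk' Q (x i) := by
    intro i
    rw [hr]
    exact hρ _
  have hq : ∀ i, ∃ q ∈ Q, r i = x i * q := by
    intro i
    refine ⟨(x i)⁻¹ * r i, ?_, by group⟩
    rw [← QuotientGroup.eq_one_iff]
    have h2 : QuotientGroup.mk' Q ((x i)⁻¹ * r i) = 1 := by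
      rw [map_mul, map_inv, hrx, inv_mul_cancel]
    exact h2
  have hZc : ∀ {z : H}, z ∈ Subgroup.center H → ∀ c : H, c * z * c⁻¹ = z := fun hz c => B.conjZ hz c
  have rinv : ∀ i, ∀ u ∈ U i, r i * u * (r i)⁻¹ * u ∈ Subgroup.center H := by
    intro i u hu
    obtain ⟨q, hqQ, hq'⟩ := hq i
    have h1 := B.comZ q hqQ u (UleQ i hu)
    have h2 : r i * u * (r i)⁻¹ * u = (x i * (q * u * q⁻¹ * u⁻¹) * (x i)⁻¹) * (x i * u * (x i)⁻¹ * u) := by
      rw [hq']; group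
    rw [h2, hZc h1]
    exact mul_mem h1 (hxi i u hu)
  have rtriv : ∀ i j, j ≠ i → ∀ u ∈ U j, r i * u * (r i)⁻¹ * u⁻¹ ∈ Subgroup.center H := by
    intro i j hij u hu
    obtain ⟨q, hqQ, hq'⟩ := hq i
    have h1 := B.comZ q hqQ u (UleQ j hu)
    have h2 : r i * u * (r i)⁻¹ * u⁻¹ = (x i * (q * u * q⁻¹ * u⁻¹) * (x i)⁻¹) * (x i * u * (x i)⁻¹ * u⁻¹) := by
      rw [hq']; group
    rw [h2, hZc h1]
    exact mul_mem h1 (hxj' i j hij u hu)
  -- powers and commutators of the `x i` lie in `Q`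
  have hker : ∀ {c : H}, (∀ i, ∀ u ∈ U i, c * u * c⁻¹ * u⁻¹ ∈ Subgroup.center H) → c ∈ Q := fun h =>
    B.kernel cardU ZleU UleQ sup comm h
  have hinj : ∀ {a b : ↥(Cfsg.pCore 2 (H ⧸ Q))}, ρ a * (ρ b)⁻¹ ∈ Q → ρ a = ρ b := by
    intro a b hab
    have h1 : QuotientGroup.mk' Q (ρ a) = QuotientGroup.mk' Q (ρ b) := by
      have h2 : QuotientGroup.mk' Q (ρ a * (ρ b)⁻¹) = 1 := (QuotientGroup.eq_one_iff _).2 hab
      rw [map_mul, map_inv] at h2
      exact mul_inv_eq_one.1 h2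
    rw [lift_inj hρ h1]
  -- the action of a product
  have hinv' : ∀ i, ∀ u ∈ U i, ∃ z ∈ Subgroup.center H, r i * u * (r i)⁻¹ = z * u⁻¹ := fun i u hu =>
    ⟨_, rinv i u hu, by group⟩
  have htriv' : ∀ i j, j ≠ i → ∀ u ∈ U j, ∃ z ∈ Subgroup.center H, r i * u * (r i)⁻¹ = z * u := fun i j hij u hu =>
    ⟨_, rtriv i j hij u hu, by group⟩
  have rU : ∀ i j, ∀ u ∈ U j, r i * u * (r i)⁻¹ ∈ U j := by
    intro i j u hu
    by_cases hij : j = i
    · subst hij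
      obtain ⟨z, hz, h1⟩ := hinv' j u hu
      rw [h1]
      exact mul_mem (ZleU j hz) (inv_mem hu)
    · obtain ⟨z, hz, h1⟩ := htriv' i j hij u hu
      rw [h1]
      exact mul_mem (ZleU j hz) hu
  have r2Q : ∀ i, r i * r i ∈ Q := by
    intro i
    apply hker
    intro j u hu
    by_cases hij : j = i
    · subst hij
      obtain ⟨z, hz, h1⟩ := hinv' j u hu
      have h2 : r j * u⁻¹ * (r j)⁻¹ = u * z⁻¹ := by
        calc r j * u⁻¹ * (r j)⁻¹ = (r j * u * (r j)⁻¹)⁻¹ := by group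
          _ = u * z⁻¹ := by rw [h1]; group
      have h3 : r j * r j * u * (r j * r j)⁻¹ * u⁻¹ = (r j * z * (r j)⁻¹) * (r j * u⁻¹ * (r j)⁻¹) * u⁻¹ := by
        calc r j * r j * u * (r j * r j)⁻¹ * u⁻¹ = r j * (r j * u * (r j)⁻¹) * (r j)⁻¹ * u⁻¹ := by group
          _ = _ := by rw [h1]; group
      rw [h3, hZc hz, h2]
      have h4 : z * (u * z⁻¹) * u⁻¹ = z * (u * z⁻¹ * u⁻¹) := by group
      rw [h4, hZc (inv_mem hz), mul_inv_cancel]
      exact one_mem _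
    · obtain ⟨z, hz, h1⟩ := htriv' i j hij u hu
      have h3 : r i * r i * u * (r i * r i)⁻¹ * u⁻¹ = (r i * z * (r i)⁻¹) * (r i * u * (r i)⁻¹) * u⁻¹ := by
        calc r i * r i * u * (r i * r i)⁻¹ * u⁻¹ = r i * (r i * u * (r i)⁻¹) * (r i)⁻¹ * u⁻¹ := by group
          _ = r i * (z * u) * (r i)⁻¹ * u⁻¹ := by rw [h1]
          _ = _ := by group
      rw [h3, hZc hz, h1]
      have h4 : z * (z * u) * u⁻¹ = z * z := by group
      rw [h4]
      exact mul_mem hz hz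
  have r2 : ∀ i, r i * r i = 1 := by
    intro i
    have h1 := r2Q i
    have h2 : r i * r i = ρ (⟨QuotientGroup.mk' Q (x i), (hPmem _).1 (hxP i)⟩ *
        ⟨QuotientGroup.mk' Q (x i), (hPmem _).1 (hxP i)⟩) := by rw [map_mul, hr]
    have h3 : r i * r i = ρ 1 := by
      rw [h2]
      apply hinj
      rw [map_one, inv_one, mul_one, ← h2]
      exact h1
    rw [h3, map_one]
  have rsq : ∀ i, (r i)⁻¹ = r i := fun i => inv_eq_of_mul_eq_one_left (r2 i)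
  have rr : ∀ i j, r i * r j = r j * r i := by
    intro i j
    by_cases hij : i = j
    · rw [hij]
    -- both products act in the same way
    have key : ∀ a b : Fin 3, a ≠ b → ∀ k, ∀ u ∈ U k, ∃ z ∈ Subgroup.center H,
        (r a * r b) * u * (r a * r b)⁻¹ = z * (if k = a ∨ k = b then u⁻¹ else u) := by
      intro a b hab k u hu
      have h0 : (r a * r b) * u * (r a * r b)⁻¹ = r a * (r b * u * (r b)⁻¹) * (r a)⁻¹ := by group
      by_cases hkb : k = b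
      · subst hkb
        obtain ⟨z, hz, h1⟩ := hinv' k u hu
        obtain ⟨w, hw, h2⟩ := htriv' a k hab.symm u⁻¹ (inv_mem hu)
        refine ⟨z * w, mul_mem hz hw, ?_⟩
        rw [h0, h1, if_pos (Or.inr rfl)]
        calc r a * (z * u⁻¹) * (r a)⁻¹ = (r a * z * (r a)⁻¹) * (r a * u⁻¹ * (r a)⁻¹) := by group
          _ = z * w * u⁻¹ := by rw [hZc hz, h2]; group
      · obtain ⟨z, hz, h1⟩ := htriv' b k hkb u hu
        by_cases hka : k = a
        · subst hka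
          obtain ⟨w, hw, h2⟩ := hinv' k u hu
          refine ⟨z * w, mul_mem hz hw, ?_⟩
          rw [h0, h1, if_pos (Or.inl rfl)]
          calc r k * (z * u) * (r k)⁻¹ = (r k * z * (r k)⁻¹) * (r k * u * (r k)⁻¹) := by group
            _ = z * w * u⁻¹ := by rw [hZc hz, h2]; group
        · obtain ⟨w, hw, h2⟩ := htriv' a k hka u hu
          refine ⟨z * w, mul_mem hz hw, ?_⟩
          rw [h0, h1, if_neg (by push Not; exact ⟨hka, hkb⟩)]
          calc r a * (z * u) * (r a)⁻¹ = (r a * z * (r a)⁻¹) * (r a * u * (r a)⁻¹) := by group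
            _ = z * w * u := by rw [hZc hz, h2]; group
    have h1 : (r i * r j) * (r j * r i)⁻¹ ∈ Q := by
      apply hker
      intro k u hu
      have hu' : (r j * r i)⁻¹ * u * (r j * r i) ∈ U k := by
        have h2 : (r j * r i)⁻¹ * u * (r j * r i) = r i * (r j * u * (r j)⁻¹) * (r i)⁻¹ := by
          rw [mul_inv_rev, rsq, rsq]; group
        rw [h2]
        exact rU i k _ (rU j k u hu)
      obtain ⟨v, hv⟩ : ∃ v, v = (r j * r i)⁻¹ * u * (r j * r i) := ⟨_, rfl⟩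
      rw [← hv] at hu'
      obtain ⟨z, hz, h2⟩ := key i j hij k v hu'
      obtain ⟨w, hw, h3⟩ := key j i (Ne.symm hij) k v hu'
      have h4 : (r j * r i) * v * (r j * r i)⁻¹ = u := by rw [hv]; group
      have h5 : (if k = i ∨ k = j then v⁻¹ else v) = (if k = j ∨ k = i then v⁻¹ else v) := by
        by_cases h : k = i ∨ k = j
        · rw [if_pos h, if_pos h.symm]
        · rw [if_neg h, if_neg fun h' => h h'.symm]
      have h6 : (r i * r j) * (r j * r i)⁻¹ * u * ((r i * r j) * (r j * r i)⁻¹)⁻¹ * u⁻¹ =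
          ((r i * r j) * v * (r i * r j)⁻¹) * u⁻¹ := by
        rw [hv]; group
      rw [h6, h2, h5, ← h4, h3]
      have h7 : z * (if k = j ∨ k = i then v⁻¹ else v) * (w * (if k = j ∨ k = i then v⁻¹ else v))⁻¹ = z * w⁻¹ := by
        group
      rw [h7]
      exact mul_mem hz (inv_mem hw)
    have e1 : r i * r j = ρ (⟨QuotientGroup.mk' Q (x i), (hPmem _).1 (hxP i)⟩ *
        ⟨QuotientGroup.mk' Q (x j), (hPmem _).1 (hxP j)⟩) := by rw [map_mul, hr]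
    have e2 : r j * r i = ρ (⟨QuotientGroup.mk' Q (x j), (hPmem _).1 (hxP j)⟩ *
        ⟨QuotientGroup.mk' Q (x i), (hPmem _).1 (hxP i)⟩) := by rw [map_mul, hr]
    rw [e1, e2] at h1 ⊢
    exact hinj h1
  have rP : ∀ i, r i ∈ P := by
    intro i
    rw [hPmem, hrx, ← hPmem]
    exact hxP i
  have F0 : Frame (Subgroup.center H) Q U r := by
    refine B.frame r2 rr cardU ZleU UleQ sup rinv rtriv ?_
    intro c i j
    obtain ⟨y, hy⟩ : ∃ y, y = c * r i * c⁻¹ := ⟨_, rfl⟩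
    rw [← hy]
    have hyP : y ∈ P := hy ▸ hPn.conj_mem _ (rP i) c
    refine hinv y hyP (U j) (hUmem j) fun q _ => ?_
    have h1 : y ^ 2 = 1 := by
      rw [hy, conj_pow, pow_two, r2, mul_one, mul_inv_cancel]
    rw [h1, one_mul, inv_one, mul_one, mul_inv_cancel]
    exact one_mem _
  have hHC' : H = Subgroup.centralizer (((Subgroup.center H).map H.subtype : Subgroup G) : Set G) := by
    rw [← hZ]; exact hHC
  have F := frame_of_sub F0 hHC'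
  rw [← hZ] at F
  have hcm : ∀ c, c ∈ H ↔ c ∈ centralizer (Z : Set G) := fun c => by rw [← hHC]
  have hZmem : ∀ c : H, c ∈ Subgroup.center H → (c : G) ∈ Z := by
    intro c hc
    rw [hZ]
    exact ⟨c, hc, rfl⟩
  refine ⟨_, _, ⟨F, ?_, ?_, ?_, ?_, ?_, ?_, ?_, ?_, ?_⟩⟩
  · rintro _ ⟨c, -, rfl⟩
    exact (hcm _).1 c.2
  · exact map_mono hQP
  · rw [card_map_of_injective H.subtype_injective]
    have h1 := P.card_mul_index
    have h2 : P.index = (Cfsg.pCore 2 (H ⧸ Q)).index := by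
      rw [hP]
      exact index_comap_of_surjective _ (QuotientGroup.mk'_surjective Q)
    have h3 := (Cfsg.pCore 2 (H ⧸ Q)).card_mul_index
    have h4 := card_eq_card_quotient_mul_card_subgroup Q
    rw [h2, h4, ← h3, hPcard, hQcard] at h1
    have h5 : 0 < (Cfsg.pCore 2 (H ⧸ Q)).index := Nat.pos_of_ne_zero index_ne_zero_of_finite
    have h6 : Nat.card ↥P * (Cfsg.pCore 2 (H ⧸ Q)).index = 2 ^ 7 * 3 ^ 7 * (Cfsg.pCore 2 (H ⧸ Q)).index := by
      rw [h1]; ring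
    exact Nat.eq_of_mul_eq_mul_right h5 h6
  · rintro _ ⟨p, hp, rfl⟩ i _ ⟨u, hu, rfl⟩
    exact ⟨_, hnorm p hp (U i) (hUmem i) u hu, rfl⟩
  · rintro _ ⟨p, hp, rfl⟩ i _ ⟨u, hu, rfl⟩
    exact hZmem _ (hexp4 p hp (U i) (hUmem i) u hu)
  · rintro _ ⟨p, hp, rfl⟩ i h
    have h1 := hinv p hp (U i) (hUmem i) (fun q hq => by
      have h2 := h _ ⟨q, hq, rfl⟩
      rw [hZ] at h2
      obtain ⟨c, hc, hc'⟩ := h2
      have h3 : c = p ^ 2 * q * (p ^ 2)⁻¹ * q⁻¹ := Subtype.ext hc'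
      rw [← h3]
      exact hc)
    rcases h1 with h1 | h1
    · left
      rintro _ ⟨u, hu, rfl⟩
      exact hZmem _ (h1 u hu)
    · right
      rintro _ ⟨u, hu, rfl⟩
      exact hZmem _ (h1 u hu)
  · rintro c hc _ ⟨p, hp, rfl⟩
    exact ⟨_, hPn.conj_mem p hp ⟨c, (hcm c).2 hc⟩, rfl⟩
  · intro R hQR hRC hRn hR2
    have hRn' : (R.subgroupOf H).Normal := by
      refine ⟨fun y hy c => ?_⟩
      rw [mem_subgroupOf] at hy ⊢
      exact hRn (c : G) ((hcm _).1 c.2) y hy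
    have h1 : ((R.subgroupOf H).map (QuotientGroup.mk' Q)).Normal :=
      hRn'.map _ (QuotientGroup.mk'_surjective Q)
    have h2 : IsPGroup 2 ↥((R.subgroupOf H).map (QuotientGroup.mk' Q)) := by
      rintro ⟨_, ⟨y, hy, rfl⟩⟩
      obtain ⟨n, hn⟩ := hR2 y hy
      refine ⟨n, Subtype.ext ?_⟩
      change (QuotientGroup.mk' Q y) ^ (2 ^ n) = 1
      rw [← map_pow]
      refine (QuotientGroup.eq_one_iff _).2 ?_
      obtain ⟨q, hq, hq'⟩ := hn
      have h3 : q = y ^ (2 ^ n) := Subtype.ext hq'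
      rw [← h3]
      exact hq
    have h3 := Cfsg.Agent.Lib.Cores.le_pCore h1 h2
    intro y hy
    have hyH : y ∈ H := (hcm y).2 (hRC hy)
    refine ⟨⟨y, hyH⟩, ?_, rfl⟩
    rw [SetLike.mem_coe, hPmem]
    exact h3 ⟨⟨y, hyH⟩, hy, rfl⟩
  · intro A hAC hAn hab
    rw [← hHC] at hAC hAn
    exact fs_of hQF A hAC hAn hab

end Cfsg.Agent.H349.T3
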