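import Mathlib

/-!
# The action on a block of order 27 (helper349)
-/

set_option autoImplicit false

namespace Cfsg.Agent.H349.T3

open Module

universe u

/-- the representation of `K` on `U/Z` -/
theorem exists_rep' {G : Type u} [Group G] {Z U K : Subgroup G} (hZU : Z ≤ U)
    (hKZ : ∀ k ∈ K, ∀ z ∈ Z, k * z = z * k) (hUZ : ∀ u ∈ U, ∀ z ∈ Z, u * z = z * u)
    (hKU : ∀ k ∈ K, ∀ u ∈ U, k * u * k⁻¹ ∈ U)
    (hcom : ∀ x ∈ U, ∀ y ∈ U, x * y * x⁻¹ * y⁻¹ ∈ Z) (hcube : ∀ x ∈ U, x ^ 3 ∈ Z) :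
    ∃ (V : Type u) (_ : AddCommGroup V) (_ : Module (ZMod 3) V) (τ : K →* Module.End (ZMod 3) V)
      (m : ↥U → V), Function.Surjective m ∧ (∀ x y, m (x * y) = m x + m y) ∧ (∀ x, m x = 0 ↔ (x : G) ∈ Z) ∧
      (∀ (c : K) (x y : ↥U), (y : G) = c * x * (c : G)⁻¹ → τ c (m x) = m y) ∧ Nat.card V * Nat.card Z = Nat.card U := by
  classical
  let N : Subgroup ↥U := Z.subgroupOf U
  have hNn : N.Normal := by
    refine ⟨fun n hn g => ?_⟩
    rw [Subgroup.mem_subgroupOf] at hn ⊢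
    have h1 : ((g * n * g⁻¹ : ↥U) : G) = g * n * (g : G)⁻¹ := rfl
    rw [h1, hUZ g g.2 n hn, mul_inv_cancel_right]
    exact hn
  have hcomm : ∀ a b : ↥U ⧸ N, a * b = b * a := by
    intro a b
    obtain ⟨x, rfl⟩ := QuotientGroup.mk'_surjective N a
    obtain ⟨y, rfl⟩ := QuotientGroup.mk'_surjective N b
    rw [← map_mul, ← map_mul]
    have h1 : (x * y) * (y * x)⁻¹ ∈ N := by
      rw [Subgroup.mem_subgroupOf]
      have h2 := hcom x x.2 y y.2
      have h3 : (((x * y) * (y * x)⁻¹ : ↥U) : G) = (x : G) * y * (x : G)⁻¹ * (y : G)⁻¹ := by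
        push_cast
        group
      rw [h3]
      exact h2
    have h4 : QuotientGroup.mk' N ((x * y) * (y * x)⁻¹) = 1 := (QuotientGroup.eq_one_iff _).2 h1
    rw [map_mul, map_inv] at h4
    exact mul_inv_eq_one.1 h4
  let _ : CommGroup (↥U ⧸ N) := { (inferInstance : Group (↥U ⧸ N)) with mul_comm := hcomm }
  have h3 : ∀ v : Additive (↥U ⧸ N), 3 • v = 0 := by
    intro v
    obtain ⟨x, hx⟩ := QuotientGroup.mk'_surjective N v.toMul
    have h1 : v.toMul ^ 3 = 1 := by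
      rw [← hx, ← map_pow]
      refine (QuotientGroup.eq_one_iff _).2 ?_
      rw [Subgroup.mem_subgroupOf]
      have := hcube x x.2
      simpa using this
    exact h1
  let _ : Module (ZMod 3) (Additive (↥U ⧸ N)) := AddCommGroup.zmodModule h3
  -- conjugation
  let cj : ↥K → (↥U →* ↥U) := fun c =>
    { toFun := fun x => ⟨c * x * (c : G)⁻¹, hKU c c.2 x x.2⟩
      map_one' := Subtype.ext (by simp)
      map_mul' := fun x y => Subtype.ext (by
        change (c : G) * (x * y) * (c : G)⁻¹ = (c * x * (c : G)⁻¹) * (c * y * (c : G)⁻¹)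
        group) }
  have hκ : ∀ c : ↥K, N ≤ N.comap (cj c) := by
    intro c x hx
    rw [Subgroup.mem_comap, Subgroup.mem_subgroupOf]
    rw [Subgroup.mem_subgroupOf] at hx
    change (c : G) * x * (c : G)⁻¹ ∈ Z
    rw [hKZ c c.2 x hx, mul_inv_cancel_right]
    exact hx
  let κ : ↥K → (↥U ⧸ N →* ↥U ⧸ N) := fun c => QuotientGroup.map N N (cj c) (hκ c)
  let τ : ↥K →* Module.End (ZMod 3) (Additive (↥U ⧸ N)) :=
    { toFun := fun c => AddMonoidHom.toZModLinearMap 3 (MonoidHom.toAdditive (κ c))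
      map_one' := by
        apply LinearMap.ext
        intro v
        obtain ⟨x, hx⟩ := QuotientGroup.mk'_surjective N v.toMul
        have h1 : v = Additive.ofMul (QuotientGroup.mk' N x) := by rw [hx]; rfl
        rw [h1]
        change Additive.ofMul (QuotientGroup.mk' N (cj 1 x)) = _
        have h2 : cj 1 x = x := Subtype.ext (by
          change ((1 : ↥K) : G) * x * ((1 : ↥K) : G)⁻¹ = x
          simp)
        rw [h2]
        rfl
      map_mul' := by
        intro c d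
        apply LinearMap.ext
        intro v
        obtain ⟨x, hx⟩ := QuotientGroup.mk'_surjective N v.toMul
        have h1 : v = Additive.ofMul (QuotientGroup.mk' N x) := by rw [hx]; rfl
        rw [h1]
        change Additive.ofMul (QuotientGroup.mk' N (cj (c * d) x)) = Additive.ofMul (QuotientGroup.mk' N (cj c (cj d x)))
        have h2 : cj (c * d) x = cj c (cj d x) := Subtype.ext (by
          change ((c * d : ↥K) : G) * x * ((c * d : ↥K) : G)⁻¹ = c * (d * x * (d : G)⁻¹) * (c : G)⁻¹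
          push_cast
          group)
        rw [h2] }
  refine ⟨Additive (↥U ⧸ N), inferInstance, inferInstance, τ,
    fun x => Additive.ofMul (QuotientGroup.mk' N x), ?_, ?_, ?_, ?_, ?_⟩
  · intro v
    obtain ⟨x, hx⟩ := QuotientGroup.mk'_surjective N v.toMul
    exact ⟨x, hx⟩
  · intro x y
    rfl
  · intro x
    have h1 : Additive.ofMul (QuotientGroup.mk' N x) = 0 ↔ QuotientGroup.mk' N x = 1 := Iff.rfl
    rw [h1]
    exact QuotientGroup.eq_one_iff x
  · intro c x y hy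
    change Additive.ofMul (QuotientGroup.mk' N (cj c x)) = _
    have h1 : cj c x = y := Subtype.ext hy.symm
    rw [h1]
  · have h2 := Subgroup.card_eq_card_quotient_mul_card_subgroup N
    have h4 : Nat.card ↥N = Nat.card Z := Nat.card_congr (Subgroup.subgroupOfEquivOfLe hZU).toEquiv
    rw [h4] at h2
    exact h2.symm

/-- commutators in a group with central commutators -/
theorem comm_pow {G : Type*} [Group G] {Z : Subgroup G} {x y : G} (hxZ : ∀ z ∈ Z, x * z = z * x)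
    (hyZ : ∀ z ∈ Z, y * z = z * y) {w : G} (hw : w ∈ Z) (hxy : x * y = w * (y * x)) (a b : ℕ) :
    x ^ a * y ^ b = w ^ (a * b) * (y ^ b * x ^ a) := by
  have hwx : Commute w x := (hxZ w hw).symm
  have hwy : Commute w y := (hyZ w hw).symm
  have h1 : ∀ b : ℕ, x * y ^ b = w ^ b * (y ^ b * x) := by
    intro b
    induction b with
    | zero => simp
    | succ b ih =>
      calc x * y ^ (b + 1) = (x * y ^ b) * y := by rw [pow_succ, mul_assoc]
        _ = w ^ b * y ^ b * (x * y) := by rw [ih]; group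
        _ = w ^ b * y ^ b * (w * (y * x)) := by rw [hxy]
        _ = w ^ b * (y ^ b * w) * y * x := by group
        _ = w ^ b * (w * y ^ b) * y * x := by rw [(hwy.pow_right b).eq]
        _ = w ^ (b + 1) * (y ^ (b + 1) * x) := by rw [pow_succ, pow_succ]; group
  induction a with
  | zero => simp
  | succ a ih =>
    calc x ^ (a + 1) * y ^ b = x ^ a * (x * y ^ b) := by rw [pow_succ, mul_assoc]
      _ = x ^ a * (w ^ b * (y ^ b * x)) := by rw [h1]
      _ = (x ^ a * w ^ b) * (y ^ b * x) := by group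
      _ = (w ^ b * x ^ a) * (y ^ b * x) := by rw [((hwx.pow_left b).pow_right a).eq]
      _ = w ^ b * (x ^ a * y ^ b) * x := by group
      _ = w ^ b * (w ^ (a * b) * (y ^ b * x ^ a)) * x := by rw [ih]
      _ = (w ^ b * w ^ (a * b)) * (y ^ b * (x ^ a * x)) := by group
      _ = w ^ ((a + 1) * b) * (y ^ b * x ^ (a + 1)) := by
        rw [← pow_add, ← pow_succ]
        congr 2
        ring

/-- **The action on a block**: a homomorphism to `SL₂(3)`. -/
theorem exists_sl {G : Type u} [Group G] {Z U K : Subgroup G} (hZ3 : Nat.card Z = 3) (hU27 : Nat.card U = 27)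
    (hZU : Z ≤ U) (hKZ : ∀ k ∈ K, ∀ z ∈ Z, k * z = z * k) (hUZ : ∀ u ∈ U, ∀ z ∈ Z, u * z = z * u)
    (hKU : ∀ k ∈ K, ∀ u ∈ U, k * u * k⁻¹ ∈ U) (hcom : ∀ x ∈ U, ∀ y ∈ U, x * y * x⁻¹ * y⁻¹ ∈ Z)
    (hcube : ∀ x ∈ U, x ^ 3 ∈ Z) (hcen : ∀ x ∈ U, (∀ y ∈ U, x * y = y * x) → x ∈ Z) :
    ∃ σ : K →* Matrix.SpecialLinearGroup (Fin 2) (ZMod 3),
      (∀ k : K, σ k = 1 ↔ ∀ u ∈ U, (k : G) * u * (k : G)⁻¹ * u⁻¹ ∈ Z) ∧
      (∀ k : K, σ k = -1 ↔ ∀ u ∈ U, (k : G) * u * (k : G)⁻¹ * u ∈ Z) := by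
  classical
  have hp3 : Fact (Nat.Prime 3) := ⟨Nat.prime_three⟩
  obtain ⟨V, _, _, τ, m, hms, hmm, hm0, hmc, hcard⟩ := exists_rep' hZU hKZ hUZ hKU hcom hcube
  have hc9 : Nat.card V = 9 := by rw [hZ3, hU27] at hcard; omega
  have hVfin : Finite V := Nat.finite_of_card_ne_zero (by rw [hc9]; norm_num)
  have hfd : FiniteDimensional (ZMod 3) V := Module.Finite.of_finite
  have hV : finrank (ZMod 3) V = 2 := by
    have h2 : Nat.card V = Nat.card (ZMod 3) ^ finrank (ZMod 3) V := Module.natCard_eq_pow_finrank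
    rw [hc9, Nat.card_zmod] at h2
    have h3 : (3 : ℕ) ^ 2 = 3 ^ finrank (ZMod 3) V := by rw [← h2]; norm_num
    exact (Nat.pow_right_injective (by norm_num : 2 ≤ 3) h3).symm
  have hmi : ∀ x, m x⁻¹ = -m x := by
    intro x
    have h1 : m (x⁻¹ * x) = m x⁻¹ + m x := hmm _ _
    rw [inv_mul_cancel, (hm0 1).2 (by simp)] at h1
    exact eq_neg_of_add_eq_zero_left h1.symm
  have hsmul : ∀ (s : ZMod 3) (x : ↥U), s • m x = m (x ^ s.val) := by
    intro s x
    have h3 : ∀ n : ℕ, (n : ZMod 3) • m x = m (x ^ n) := by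
      intro n
      induction n with
      | zero => rw [Nat.cast_zero, zero_smul, pow_zero]; exact ((hm0 _).2 (by simp)).symm
      | succ n ih => rw [Nat.cast_succ, add_smul, one_smul, ih, ← hmm, ← pow_succ]
    have h4 := h3 s.val
    rwa [ZMod.natCast_zmod_val] at h4
  -- a noncommuting pair
  obtain ⟨x, hxU, hxZ⟩ : ∃ x ∈ U, x ∉ Z := by
    by_contra hcon
    push Not at hcon
    have h1 : U = Z := le_antisymm hcon hZU
    rw [h1, hZ3] at hU27
    omega
  obtain ⟨y, hyU, hxy⟩ : ∃ y ∈ U, x * y ≠ y * x := by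
    by_contra hcon
    push Not at hcon
    exact hxZ (hcen x hxU hcon)
  obtain ⟨w, hw⟩ : ∃ w, w = x * y * x⁻¹ * y⁻¹ := ⟨_, rfl⟩
  have hwZ : w ∈ Z := hw ▸ hcom x hxU y hyU
  have hxyw : x * y = w * (y * x) := by rw [hw]; group
  have hw1 : w ≠ 1 := by
    rintro rfl
    exact hxy (by rw [hxyw, one_mul])
  have hwo : orderOf w = 3 := by
    have h1 : orderOf (⟨w, hwZ⟩ : ↥Z) ∣ Nat.card Z := orderOf_dvd_natCard _
    rw [hZ3, Subgroup.orderOf_mk] at h1
    rcases (Nat.dvd_prime Nat.prime_three).1 h1 with h2 | h2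
    · exact absurd (orderOf_eq_one_iff.1 h2) hw1
    · exact h2
  have hwpow : ∀ a b : ℕ, w ^ a = w ^ b → (a : ZMod 3) = b := by
    intro a b h
    rw [pow_eq_pow_iff_modEq, hwo] at h
    exact (ZMod.natCast_eq_natCast_iff a b 3).2 h
  have hcp := comm_pow (hUZ x hxU) (hUZ y hyU) hwZ hxyw
  let X : ↥U := ⟨x, hxU⟩
  let Y : ↥U := ⟨y, hyU⟩
  have hli : LinearIndependent (ZMod 3) ![m X, m Y] := by
    rw [LinearIndependent.pair_iff]
    intro s t hst
    rw [hsmul, hsmul, ← hmm, hm0] at hst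
    have h1 : x ^ s.val * y ^ t.val ∈ Z := hst
    constructor
    · -- commutes with `y`
      have h2 := hUZ y hyU _ h1
      have h3 : x ^ s.val * y = y * x ^ s.val := by
        have h4 : (x ^ s.val * y) * y ^ t.val = (y * x ^ s.val) * y ^ t.val := by
          calc (x ^ s.val * y) * y ^ t.val = (x ^ s.val * y ^ t.val) * y := by
                rw [mul_assoc, ← pow_succ', pow_succ, ← mul_assoc]
            _ = y * (x ^ s.val * y ^ t.val) := h2.symm
            _ = _ := by group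
        exact mul_right_cancel h4
      have h4 := hcp s.val 1
      rw [pow_one, h3, mul_one] at h4
      have h5 : w ^ s.val = w ^ 0 := by
        rw [pow_zero]
        have h6 : 1 * (y * x ^ s.val) = w ^ s.val * (y * x ^ s.val) := by rw [one_mul]; exact h4
        exact (mul_right_cancel h6).symm
      have h6 := hwpow _ _ h5
      rw [ZMod.natCast_zmod_val, Nat.cast_zero] at h6
      exact h6
    · have h2 := hUZ x hxU _ h1
      have h3 : x * y ^ t.val = y ^ t.val * x := by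
        have h4 : x ^ s.val * (x * y ^ t.val) = x ^ s.val * (y ^ t.val * x) := by
          calc x ^ s.val * (x * y ^ t.val) = x * (x ^ s.val * y ^ t.val) := by
                rw [← mul_assoc, ← pow_succ, pow_succ', mul_assoc]
            _ = (x ^ s.val * y ^ t.val) * x := h2
            _ = _ := by group
        exact mul_left_cancel h4
      have h4 := hcp 1 t.val
      rw [pow_one, h3, one_mul] at h4
      have h5 : w ^ t.val = w ^ 0 := by
        rw [pow_zero]
        have h6 : 1 * (y ^ t.val * x) = w ^ t.val * (y ^ t.val * x) := by rw [one_mul]; exact h4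
        exact (mul_right_cancel h6).symm
      have h6 := hwpow _ _ h5
      rw [ZMod.natCast_zmod_val, Nat.cast_zero] at h6
      exact h6
  let b : Basis (Fin 2) (ZMod 3) V := basisOfLinearIndependentOfCardEqFinrank hli (by rw [hV]; rfl)
  have hb0 : b 0 = m X := by
    have := congrFun (coe_basisOfLinearIndependentOfCardEqFinrank hli (by rw [hV]; rfl)) 0
    exact this
  have hb1 : b 1 = m Y := by
    have := congrFun (coe_basisOfLinearIndependentOfCardEqFinrank hli (by rw [hV]; rfl)) 1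
    exact this
  let M : K →* Matrix (Fin 2) (Fin 2) (ZMod 3) := ((LinearMap.toMatrixAlgEquiv b : _ →* _)).comp τ
  have hM : ∀ c, M c = LinearMap.toMatrix b b (τ c) := fun c => rfl
  have hcol : ∀ (c : K) (j : Fin 2), τ c (b j) = M c 0 j • b 0 + M c 1 j • b 1 := by
    intro c j
    have h1 := b.sum_repr (τ c (b j))
    rw [Fin.sum_univ_two] at h1
    rw [← h1, hM, LinearMap.toMatrix_apply, LinearMap.toMatrix_apply]
  have hdet : ∀ c, (M c).det = 1 := by
    intro c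
    have e0 := hcol c 0
    have e1 := hcol c 1
    rw [hb0, hb1, hmc c X ⟨c * x * (c : G)⁻¹, hKU c c.2 x hxU⟩ rfl, hsmul, hsmul, ← hmm] at e0
    rw [hb0, hb1, hmc c Y ⟨c * y * (c : G)⁻¹, hKU c c.2 y hyU⟩ rfl, hsmul, hsmul, ← hmm] at e1
    rw [← sub_eq_zero, sub_eq_add_neg, ← hmi, ← hmm, hm0] at e0 e1
    obtain ⟨ζ, hζ⟩ : ∃ ζ, ζ = c * x * (c : G)⁻¹ * (x ^ (M c 0 0).val * y ^ (M c 1 0).val)⁻¹ := ⟨_, rfl⟩
    obtain ⟨ξ, hξ⟩ : ∃ ξ, ξ = c * y * (c : G)⁻¹ * (x ^ (M c 0 1).val * y ^ (M c 1 1).val)⁻¹ := ⟨_, rfl⟩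
    have hζZ : ζ ∈ Z := hζ ▸ e0
    have hξZ : ξ ∈ Z := hξ ▸ e1
    have f0 : c * x * (c : G)⁻¹ = ζ * (x ^ (M c 0 0).val * y ^ (M c 1 0).val) := by rw [hζ]; group
    have f1 : c * y * (c : G)⁻¹ = ξ * (x ^ (M c 0 1).val * y ^ (M c 1 1).val) := by rw [hξ]; group
    have f2 : (c * x * (c : G)⁻¹) * (c * y * (c : G)⁻¹) = w * ((c * y * (c : G)⁻¹) * (c * x * (c : G)⁻¹)) := by
      calc (c * x * (c : G)⁻¹) * (c * y * (c : G)⁻¹) = c * (x * y) * (c : G)⁻¹ := by group
        _ = c * (w * (y * x)) * (c : G)⁻¹ := by rw [hxyw]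
        _ = (c * w) * (y * x) * (c : G)⁻¹ := by group
        _ = (w * c) * (y * x) * (c : G)⁻¹ := by rw [hKZ c c.2 w hwZ]
        _ = _ := by group
    rw [f0, f1] at f2
    obtain ⟨α, hα⟩ : ∃ α, α = (M c 0 0).val := ⟨_, rfl⟩
    obtain ⟨β, hβ⟩ : ∃ β, β = (M c 1 0).val := ⟨_, rfl⟩
    obtain ⟨γ, hγ⟩ : ∃ γ, γ = (M c 0 1).val := ⟨_, rfl⟩
    obtain ⟨δ, hδ⟩ : ∃ δ, δ = (M c 1 1).val := ⟨_, rfl⟩
    rw [← hα, ← hβ, ← hγ, ← hδ] at f2
    -- pull out the central factors
    have hA : x ^ α * y ^ β ∈ U := U.mul_mem (U.pow_mem hxU _) (U.pow_mem hyU _)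
    have hB : x ^ γ * y ^ δ ∈ U := U.mul_mem (U.pow_mem hxU _) (U.pow_mem hyU _)
    have f3 : (x ^ α * y ^ β) * (x ^ γ * y ^ δ) = w * ((x ^ γ * y ^ δ) * (x ^ α * y ^ β)) := by
      have h1 : ζ * ξ * ((x ^ α * y ^ β) * (x ^ γ * y ^ δ)) =
          ζ * ξ * (w * ((x ^ γ * y ^ δ) * (x ^ α * y ^ β))) := by
        calc ζ * ξ * ((x ^ α * y ^ β) * (x ^ γ * y ^ δ))
            = ζ * (ξ * (x ^ α * y ^ β)) * (x ^ γ * y ^ δ) := by group
          _ = ζ * ((x ^ α * y ^ β) * ξ) * (x ^ γ * y ^ δ) := by rw [hUZ _ hA ξ hξZ]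
          _ = (ζ * (x ^ α * y ^ β)) * (ξ * (x ^ γ * y ^ δ)) := by group
          _ = w * (ξ * (x ^ γ * y ^ δ) * (ζ * (x ^ α * y ^ β))) := f2
          _ = (w * ξ) * ((x ^ γ * y ^ δ) * ζ) * (x ^ α * y ^ β) := by group
          _ = (w * ξ) * (ζ * (x ^ γ * y ^ δ)) * (x ^ α * y ^ β) := by rw [hUZ _ hB ζ hζZ]
          _ = w * (ξ * ζ) * ((x ^ γ * y ^ δ) * (x ^ α * y ^ β)) := by group
          _ = w * (ζ * ξ) * ((x ^ γ * y ^ δ) * (x ^ α * y ^ β)) := by
            rw [hUZ ξ (hZU hξZ) ζ hζZ]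
          _ = (ζ * w) * ξ * ((x ^ γ * y ^ δ) * (x ^ α * y ^ β)) := by
            rw [hUZ ζ (hZU hζZ) w hwZ]; group
          _ = ζ * (w * ξ) * ((x ^ γ * y ^ δ) * (x ^ α * y ^ β)) := by group
          _ = ζ * (ξ * w) * ((x ^ γ * y ^ δ) * (x ^ α * y ^ β)) := by
            rw [hUZ w (hZU hwZ) ξ hξZ]
          _ = _ := by group
      exact mul_left_cancel h1
    have g1 : x ^ γ * y ^ β = w ^ (γ * β) * (y ^ β * x ^ γ) := hcp γ β
    have g2 : x ^ α * y ^ δ = w ^ (α * δ) * (y ^ δ * x ^ α) := hcp α δ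
    have hcw : ∀ (n : ℕ) (u : G), u ∈ U → u * w ^ n = w ^ n * u := fun n u hu => hUZ u hu _ (Z.pow_mem hwZ n)
    have f4 : w ^ (γ * β) * ((x ^ α * y ^ β) * (x ^ γ * y ^ δ)) = x ^ (α + γ) * y ^ (β + δ) := by
      calc w ^ (γ * β) * ((x ^ α * y ^ β) * (x ^ γ * y ^ δ))
          = (w ^ (γ * β) * x ^ α) * (y ^ β * x ^ γ) * y ^ δ := by group
        _ = (x ^ α * w ^ (γ * β)) * (y ^ β * x ^ γ) * y ^ δ := by rw [hcw _ _ (U.pow_mem hxU _)]
        _ = x ^ α * (w ^ (γ * β) * (y ^ β * x ^ γ)) * y ^ δ := by group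
        _ = x ^ α * (x ^ γ * y ^ β) * y ^ δ := by rw [← g1]
        _ = (x ^ α * x ^ γ) * (y ^ β * y ^ δ) := by group
        _ = _ := by rw [← pow_add, ← pow_add]
    have f5 : w ^ (α * δ) * ((x ^ γ * y ^ δ) * (x ^ α * y ^ β)) = x ^ (α + γ) * y ^ (β + δ) := by
      calc w ^ (α * δ) * ((x ^ γ * y ^ δ) * (x ^ α * y ^ β))
          = (w ^ (α * δ) * x ^ γ) * (y ^ δ * x ^ α) * y ^ β := by group
        _ = (x ^ γ * w ^ (α * δ)) * (y ^ δ * x ^ α) * y ^ β := by rw [hcw _ _ (U.pow_mem hxU _)]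
        _ = x ^ γ * (w ^ (α * δ) * (y ^ δ * x ^ α)) * y ^ β := by group
        _ = x ^ γ * (x ^ α * y ^ δ) * y ^ β := by rw [← g2]
        _ = (x ^ γ * x ^ α) * (y ^ δ * y ^ β) := by group
        _ = _ := by rw [← pow_add, ← pow_add, add_comm γ α, add_comm δ β]
    have f6 : w ^ (γ * β + 1) = w ^ (α * δ) := by
      have h1 : w ^ (γ * β) * (w * ((x ^ γ * y ^ δ) * (x ^ α * y ^ β))) =
          w ^ (α * δ) * ((x ^ γ * y ^ δ) * (x ^ α * y ^ β)) := by
        rw [← f3, f4, f5]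
      rw [← mul_assoc, ← pow_succ] at h1
      exact mul_right_cancel h1
    have f7 := hwpow _ _ f6
    rw [Matrix.det_fin_two]
    push_cast at f7
    rw [hα, hβ, hγ, hδ, ZMod.natCast_zmod_val, ZMod.natCast_zmod_val, ZMod.natCast_zmod_val, ZMod.natCast_zmod_val] at f7
    rw [← f7]
    ring
  let σ : K →* Matrix.SpecialLinearGroup (Fin 2) (ZMod 3) :=
    { toFun := fun c => ⟨M c, hdet c⟩
      map_one' := Subtype.ext (map_one M)
      map_mul' := fun c d => Subtype.ext (map_mul M c d) }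
  have hτM : ∀ c T, M c = LinearMap.toMatrix b b T → τ c = T := by
    intro c T h
    rw [hM] at h
    exact (LinearMap.toMatrix b b).injective h
  refine ⟨σ, fun k => ?_, fun k => ?_⟩
  · have h1 : σ k = 1 ↔ τ k = 1 := by
      constructor
      · intro h
        apply hτM
        have h2 : M k = 1 := congrArg Subtype.val h
        rw [h2, LinearMap.toMatrix_one]
      · intro h
        apply Subtype.ext
        change M k = 1
        rw [hM, h, LinearMap.toMatrix_one]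
    rw [h1]
    constructor
    · intro h u hu
      have h2 := hmc k ⟨u, hu⟩ ⟨k * u * (k : G)⁻¹, hKU k k.2 u hu⟩ rfl
      rw [h] at h2
      have h3 : m (⟨k * u * (k : G)⁻¹, hKU k k.2 u hu⟩ * (⟨u, hu⟩ : ↥U)⁻¹) = 0 := by
        rw [hmm, hmi, ← h2]
        exact add_neg_cancel _
      exact (hm0 _).1 h3
    · intro h
      apply LinearMap.ext
      intro v
      obtain ⟨u, rfl⟩ := hms v
      have h2 := hmc k u ⟨k * u * (k : G)⁻¹, hKU k k.2 u u.2⟩ rfl
      have h3 : m (⟨k * u * (k : G)⁻¹, hKU k k.2 u u.2⟩ * u⁻¹) = 0 := (hm0 _).2 (h u u.2)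
      rw [hmm, hmi, add_neg_eq_zero] at h3
      rw [h2, h3]
      rfl
  · have h1 : σ k = -1 ↔ τ k = -1 := by
      constructor
      · intro h
        apply hτM
        have h2 : M k = -1 := congrArg Subtype.val h
        rw [h2, map_neg, LinearMap.toMatrix_one]
      · intro h
        apply Subtype.ext
        change M k = -1
        rw [hM, h, map_neg, LinearMap.toMatrix_one]
    rw [h1]
    constructor
    · intro h u hu
      have h2 := hmc k ⟨u, hu⟩ ⟨k * u * (k : G)⁻¹, hKU k k.2 u hu⟩ rfl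
      rw [h] at h2
      have h3 : m (⟨k * u * (k : G)⁻¹, hKU k k.2 u hu⟩ * (⟨u, hu⟩ : ↥U)) = 0 := by
        rw [hmm, ← h2]
        exact neg_add_cancel _
      exact (hm0 _).1 h3
    · intro h
      apply LinearMap.ext
      intro v
      obtain ⟨u, rfl⟩ := hms v
      have h2 := hmc k u ⟨k * u * (k : G)⁻¹, hKU k k.2 u u.2⟩ rfl
      have h3 : m (⟨k * u * (k : G)⁻¹, hKU k k.2 u u.2⟩ * u) = 0 := (hm0 _).2 (h u u.2)
      rw [hmm] at h3
      rw [h2, eq_neg_of_add_eq_zero_left h3]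
      rfl

end Cfsg.Agent.H349.T3
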