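import Cfsg.Agent.H349.T3.Local
import Cfsg.Agent.H341.WeakMain

/-!
# Weak closure and the setup (helper349)
-/

set_option autoImplicit false

namespace Cfsg.Agent.H349.T3

open Cfsg Cfsg.Agent.H341.Weak Cfsg.Agent.H261 Subgroup

universe u

theorem mem_map_conj {G : Type*} [Group G] {Z P : Subgroup G} {g : G} :
    Z.map (MulAut.conj g).toMonoidHom ≤ P ↔ ∀ x ∈ Z, g * x * g⁻¹ ∈ P := by
  constructor
  · intro h x hx
    exact h ⟨x, hx, rfl⟩
  · rintro h _ ⟨x, hx, rfl⟩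
    exact h x hx

theorem map_conj_eq {G : Type*} [Group G] [Finite G] {Z : Subgroup G} {g : G} :
    Z.map (MulAut.conj g).toMonoidHom = Z ↔ ∀ x ∈ Z, g * x * g⁻¹ ∈ Z := by
  rw [← mem_map_conj]
  constructor
  · intro h
    exact h.le
  · intro h
    refine Subgroup.eq_of_le_of_card_ge h ?_
    rw [Subgroup.card_map_of_injective (MulAut.conj g).injective]

/-- if `Z` is not weakly closed in a Sylow subgroup containing it, then a conjugate different from `Z` centralizes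
`Z` -/
theorem exists_conj {G : Type u} [Group G] [Finite G] {Z Q : Subgroup G} {U : Fin 3 → Subgroup G}
    {e : Fin 3 → G} (F : Frame Z Q U e) (L : ∀ T : Subgroup G, IsPGroup 3 ↥T → Q ≤ T → T ≤ centralizer (Z : Set G))
    (S : Sylow 3 G) (hZS : Z ≤ S) (hnwc : ¬ Cfsg.IsWeaklyClosed Z S) :
    ∃ g : G, (∀ x ∈ Z, g * x * g⁻¹ ∈ centralizer (Z : Set G)) ∧ ¬ ∀ x ∈ Z, g * x * g⁻¹ ∈ Z := by
  have hp3 : Fact (Nat.Prime 3) := ⟨Nat.prime_three⟩
  by_contra hcon
  push Not at hcon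
  apply hnwc
  refine ⟨hZS, fun g hg => ?_⟩
  rw [map_conj_eq]
  have hQp : IsPGroup 3 ↥Q := IsPGroup.of_card F.cardQ
  obtain ⟨T, hT⟩ := hQp.exists_le_sylow
  have hTC := L T T.isPGroup' hT
  obtain ⟨x, hx⟩ := MulAction.exists_smul_eq G T S
  -- `S ≤ C(Z)`
  have hS : ∀ s ∈ (S : Subgroup G), ∀ z ∈ Z, s * (x * z * x⁻¹) = (x * z * x⁻¹) * s := by
    intro s hs z hz
    rw [← hx] at hs
    obtain ⟨t, ht, hts⟩ := (Subgroup.mem_smul_pointwise_iff_exists s (MulAut.conj x) (T : Subgroup G)).1 hs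
    have h3 : s = x * t * x⁻¹ := hts.symm
    have h4 := mem_centralizer_iff.1 (hTC ht) z hz
    rw [h3]
    calc x * t * x⁻¹ * (x * z * x⁻¹) = x * (t * z) * x⁻¹ := by group
      _ = x * (z * t) * x⁻¹ := by rw [h4]
      _ = _ := by group
  have h1 : ∀ z ∈ Z, x * z * x⁻¹ ∈ Z := by
    refine hcon x fun z hz => mem_centralizer_iff.2 fun w hw => hS w (hZS hw) z hz
  have h2 := map_conj_eq.2 h1
  have hSC : (S : Subgroup G) ≤ centralizer (Z : Set G) := by
    intro s hs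
    refine mem_centralizer_iff.2 fun w hw => ?_
    have h3 : w ∈ Z.map (MulAut.conj x).toMonoidHom := by rw [h2]; exact hw
    obtain ⟨z, hz, hzw⟩ := h3
    have h4 : w = x * z * x⁻¹ := hzw.symm
    rw [h4]
    exact (hS s hs z hz).symm
  exact hcon g fun z hz => hSC (mem_map_conj.1 hg z hz)

/-- the conclusion on weak closure -/
theorem not_weaklyClosed {G : Type u} [Group G] [Finite G] {Z Q P : Subgroup G} (hQP : Q ≤ P)
    (h : ∃ g : G, (∀ x ∈ Z, g * x * g⁻¹ ∈ Q) ∧ ¬ ∀ x ∈ Z, g * x * g⁻¹ ∈ Z) : ¬ Cfsg.IsWeaklyClosed Z P := by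
  rintro ⟨-, h2⟩
  obtain ⟨g, hg, hgZ⟩ := h
  exact hgZ (map_conj_eq.1 (h2 g (mem_map_conj.2 fun x hx => hQP (hg x hx))))

/-- a 3-subgroup containing `Q` centralizes `Z` -/
theorem le_cent_of_frame {G : Type u} [Group G] [Finite G] {Z Q : Subgroup G} {U : Fin 3 → Subgroup G}
    {e : Fin 3 → G} (F : Frame Z Q U e) (T : Subgroup G) (hT : IsPGroup 3 ↥T) (hQT : Q ≤ T) :
    T ≤ centralizer (Z : Set G) := by
  have hp3 : Fact (Nat.Prime 3) := ⟨Nat.prime_three⟩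
  have hne : T ≠ ⊥ := by
    rintro rfl
    obtain ⟨z, hz, hz1, -⟩ := FrameL.exists_gen F
    exact hz1 (Subgroup.mem_bot.1 (hQT (FrameL.ZleQ F hz)))
  obtain ⟨w, hw, hw1, hc⟩ := Cfsg.Agent.Characters.CNBasic.exists_mem_center_of_normal T hT T hT hne
    (fun t ht d hd => T.mul_mem (T.mul_mem ht hd) (T.inv_mem ht))
  have hwQ : w ∈ Q := F.CQ (mem_centralizer_iff.2 fun q hq => hc q (hQT hq))
  have hwZ : w ∈ Z := F.cenZ w hwQ fun y hy => (hc y (hQT hy)).symm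
  intro t ht
  have h1 : Z ≤ zpowers w := eq_of_mem_of_card_prime Nat.prime_three F.cardZ hwZ hw1 (mem_zpowers w)
  refine mem_centralizer_iff.2 fun y hy => ?_
  obtain ⟨n, rfl⟩ := Subgroup.mem_zpowers_iff.1 (h1 hy)
  have h2 : Commute w t := (hc t ht).symm
  exact (h2.zpow_left n).eq

end Cfsg.Agent.H349.T3
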